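import Groth.Agent.Divis.AmpleAvoid

/-!
# Pairs of sections of adjacent powers of an ample invertible module with the same affine locus

`exists_pairs`: for `L` ample and `k₀ : ℕ` there are `D ≥ k₀` and finitely many pairs `u i ∈ Γ(L^D)`, `v i ∈ Γ(L^(D+1))`
with the same affine nonvanishing locus `U i`, which cover `X`; with respect to the generators
`e i = v i / u i` of `L` on `U i` everything is expressed by families of functions.
-/

set_option autoImplicit false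
universe u

open CategoryTheory AlgebraicGeometry TopologicalSpace Opposite

namespace Groth.Agent.Picfga.AmplePairs

open Groth.Agent.Fdesc.LocGen Groth.Agent.Flat2H.FamExt Groth.Agent.Flat2H.FamDict
  Groth.Agent.Divis.AmpleAvoid

variable {X : Scheme.{u}} {ι : Type*}

/-- One pair, near a given point. -/
theorem exists_pair [Finite ι] [QuasiSeparatedSpace X] {W : ι → X.Opens}
    {g : ∀ i j, Γ(X, W i ⊓ W j)} {L : X.Modules} (hT : Trivs L W g)
    (haff : ∀ j, IsAffineOpen (W j)) (hL : CohB1.IsAmple L) (x : X) :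
    ∃ (a m₀ : ℕ) (j₀ : ι) (V : X.Opens), 0 < a ∧ x ∈ V ∧ V ≤ W j₀ ∧ IsAffineOpen V ∧
      ∀ m, m₀ ≤ m → ∃ (u v : ∀ j, Γ(X, W j)),
      IsFam W (fun i j ↦ g i j ^ (a * m)) u ∧ IsFam W (fun i j ↦ g i j ^ (a * m + 1)) v ∧
      (∀ j, X.basicOpen (u j) = V ⊓ W j) ∧ (∀ j, X.basicOpen (v j) = V ⊓ W j) := by
  obtain ⟨j₀, hj₀⟩ := hT.1 x
  obtain ⟨n, h, hh, hxh, hle, hha⟩ := exists_fam_basis hT haff hL x (W j₀) hj₀
  have hb : ∀ j, X.basicOpen (h j) ≤ W j₀ ⊓ W j := fun j ↦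
    le_inf ((basicOpen_le_locus h j).trans hle) (X.basicOpen_le _)
  obtain ⟨m₀, hm₀⟩ := exists_ext W (fun j ↦ (haff j).isCompact) (fun j ↦ (haff j).isQuasiSeparated)
    (fun i j ↦ (haff i).isCompact.inter_of_isOpen (haff j).isCompact (W i).isOpen (W j).isOpen)
    g (fun i j ↦ g i j ^ (n + 1)) h hh (fun j ↦ ores (hb j) (g j₀ j)) (by
      intro i j
      simp only [ores_ores]
      exact hT.cocycle j₀ i j ((inf_le_left.trans (hb i)).trans inf_le_left)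
        ((inf_le_left.trans (hb i)).trans inf_le_right)
        ((inf_le_right.trans (hb j)).trans inf_le_right))
  have hloc : ∀ j, X.basicOpen (h j) = locus W h ⊓ W j := fun j ↦
    (locus_inf hh (fun i j ↦ (hT.isUnit i j).pow _) j).symm
  refine ⟨n + 1, m₀ + 1, j₀, locus W h, Nat.succ_pos _, hxh, hle, hha, fun m hm ↦ ?_⟩
  obtain ⟨m, rfl⟩ : ∃ k, m = k + 1 := ⟨m - 1, by omega⟩
  obtain ⟨c, hc, hc'⟩ := hm₀ m (by omega)
  refine ⟨fun j ↦ h j ^ (m + 1), fun j ↦ c j * h j, ?_, ?_, fun j ↦ ?_, fun j ↦ ?_⟩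
  · exact IsFam.congr (isFam_pow hh (m + 1)) fun i j ↦ (pow_mul _ _ _).symm
  · refine IsFam.congr (isFam_mul hc hh) fun i j ↦ ?_
    rw [← pow_mul, ← pow_succ', ← pow_add]
    congr 1
    ring
  · rw [X.basicOpen_pow _ (Nat.succ_pos _), hloc]
  · rw [← hloc, X.basicOpen_mul, inf_eq_right]
    apply le_basicOpen_of_isUnit (c j) (X.basicOpen_le (h j))
    rw [hc' j]
    exact ((RingedSpace.isUnit_res_basicOpen _ (h j)).pow m).mul ((hT.isUnit j₀ j).map _)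

/-- **Pairs of sections of adjacent powers.** -/
theorem exists_pairs {L : X.Modules} (hL : CohB1.IsAmple L) (k₀ : ℕ) :
    ∃ (D : ℕ) (κ : Type u) (_ : Fintype κ) (U : κ → X.Opens) (e : ∀ i, Γ(L, U i))
      (g : ∀ i j, Γ(X, U i ⊓ U j)) (u v : κ → ∀ j, Γ(X, U j)),
      k₀ ≤ D ∧ 0 < D ∧ (⨆ i, U i = ⊤) ∧ (∀ i, IsAffineOpen (U i)) ∧ (∀ i, IsGen (e i)) ∧
      (∀ i j, res L inf_le_left (e i) = g i j • res L inf_le_right (e j)) ∧
      (∀ i, IsFam U (fun j k ↦ g j k ^ D) (u i)) ∧ (∀ i, IsFam U (fun j k ↦ g j k ^ (D + 1)) (v i)) ∧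
      (∀ i j, X.basicOpen (u i j) = U i ⊓ U j) ∧ (∀ i j, X.basicOpen (v i j) = U i ⊓ U j) ∧
      ∀ i, u i i = v i i := by
  classical
  have hqs := quasiSeparatedSpace_of_isAmple hL
  have hcomp : CompactSpace X := hL.2.1
  obtain ⟨r, W, G, haff, hT⟩ := exists_trivs hL.1 IsAffineOpen (fun U x hx ↦ by
    obtain ⟨V, hV, hxV, hVU⟩ := X.isBasis_affineOpens.exists_subset_of_mem_open hx U.isOpen
    exact ⟨⟨V, X.isBasis_affineOpens.isOpen hV⟩, hxV, hVU, by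
      obtain ⟨V', hV', rfl⟩ := hV
      exact hV'⟩)
  choose a m₀ j₀ V ha hxV hVle hVaff hpair using fun x : X ↦ exists_pair hT haff hL x
  obtain ⟨t, ht⟩ := isCompact_univ.elim_finite_subcover (fun x : X ↦ (V x : Set X)) (fun x ↦ (V x).isOpen)
    (fun x _ ↦ Set.mem_iUnion.2 ⟨x, hxV x⟩)
  -- the common degree
  obtain ⟨D, hkD, hD0, hD⟩ : ∃ D, k₀ ≤ D ∧ 0 < D ∧ ∀ x ∈ t, ∃ m, m₀ x ≤ m ∧ a x * m = D := by
    refine ⟨(∏ x ∈ t, a x) * (k₀ + 1 + t.sup m₀), ?_, ?_, fun x hx ↦ ?_⟩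
    · have : 0 < ∏ x ∈ t, a x := Finset.prod_pos fun x _ ↦ ha x
      nlinarith
    · exact Nat.mul_pos (Finset.prod_pos fun x _ ↦ ha x) (by omega)
    · refine ⟨(∏ y ∈ t.erase x, a y) * (k₀ + 1 + t.sup m₀), ?_, ?_⟩
      · have h1 : 0 < ∏ y ∈ t.erase x, a y := Finset.prod_pos fun x _ ↦ ha x
        have h2 : m₀ x ≤ t.sup m₀ := Finset.le_sup hx
        nlinarith
      · rw [← mul_assoc, Finset.mul_prod_erase t a hx]
  choose m hm hmD using hD
  have hpair' : ∀ i : t, ∃ (u v : ∀ j, Γ(X, W j)), IsFam W (fun i j ↦ G i j ^ D) u ∧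
      IsFam W (fun i j ↦ G i j ^ (D + 1)) v ∧ (∀ j, X.basicOpen (u j) = V i.1 ⊓ W j) ∧
      (∀ j, X.basicOpen (v j) = V i.1 ⊓ W j) := by
    intro i
    have := hpair i.1 (m i.1 i.2) (hm i.1 i.2)
    rwa [hmD i.1 i.2] at this
  choose u₀ v₀ hu₀ hv₀ hbu hbv using hpair'
  have hW := hT
  obtain ⟨hcov, e₀, he₀, hG⟩ := hT
  let U : t → X.Opens := fun i ↦ V i.1
  let J : t → Fin r := fun i ↦ j₀ i.1
  have hUJ : ∀ i, U i ≤ W (J i) := fun i ↦ hVle i.1
  have huu : ∀ i, IsUnit (ores (hUJ i) (u₀ i (J i))) := fun i ↦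
    isUnit_res_basicOpen _ (hUJ i) (by rw [hbu]; exact le_inf le_rfl (hUJ i))
  have huv : ∀ i, IsUnit (ores (hUJ i) (v₀ i (J i))) := fun i ↦
    isUnit_res_basicOpen _ (hUJ i) (by rw [hbv]; exact le_inf le_rfl (hUJ i))
  have hy : ∀ i, ∃ y z : Γ(X, U i), y * z = 1 ∧
      y * ores (hUJ i) (u₀ i (J i)) = ores (hUJ i) (v₀ i (J i)) := by
    intro i
    obtain ⟨a, ha⟩ := (huu i).exists_right_inv
    obtain ⟨b, hb⟩ := (huv i).exists_right_inv
    refine ⟨ores (hUJ i) (v₀ i (J i)) * a, ores (hUJ i) (u₀ i (J i)) * b, ?_, ?_⟩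
    · calc ores (hUJ i) (v₀ i (J i)) * a * (ores (hUJ i) (u₀ i (J i)) * b)
          = (ores (hUJ i) (u₀ i (J i)) * a) * (ores (hUJ i) (v₀ i (J i)) * b) := by ring
        _ = 1 := by rw [ha, hb, one_mul]
    · rw [mul_assoc, mul_comm a, ha, mul_one]
  choose y z hyz hyu using hy
  let e : ∀ i, Γ(L, U i) := fun i ↦ y i • res L (hUJ i) (e₀ (J i))
  let g : ∀ i j, Γ(X, U i ⊓ U j) := fun i j ↦ ores inf_le_left (y i) *
    ores (inf_le_inf (hUJ i) (hUJ j)) (G (J i) (J j)) * ores inf_le_right (z j)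
  have hyl : ∀ i j, ores (inf_le_left : U i ⊓ U j ≤ U i) (y i) * ores inf_le_left (z i) = 1 := by
    intro i j
    rw [← map_mul, hyz, map_one]
  have hyr : ∀ i j, ores (inf_le_right : U i ⊓ U j ≤ U j) (y j) * ores inf_le_right (z j) = 1 := by
    intro i j
    rw [← map_mul, hyz, map_one]
  have hfam : ∀ (n : ℕ) (b : ∀ j, Γ(X, W j)), IsFam W (fun i j ↦ G i j ^ n) b →
      IsFam U (fun i j ↦ g i j ^ n) (fun i ↦ ores (hUJ i) (b (J i)) * z i ^ n) := by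
    intro n b hb i j
    have h1 := congrArg (ores (inf_le_inf (hUJ i) (hUJ j))) (hb (J i) (J j))
    simp only [map_mul, map_pow, ores_ores] at h1
    simp only [map_mul, map_pow, ores_ores, g, mul_pow]
    rw [← h1]
    have h2 := congrArg (· ^ n) (hyl i j)
    simp only [mul_pow, one_pow] at h2
    calc _ = ores _ (b (J i)) * ores _ (G (J i) (J j)) ^ n * ores _ (z j) ^ n *
          (ores (inf_le_left : U i ⊓ U j ≤ U i) (y i) ^ n * ores inf_le_left (z i) ^ n) := by ring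
      _ = _ := by rw [h2, mul_one]
  have hzu : ∀ i, IsUnit (z i) := fun i ↦ IsUnit.of_mul_eq_one _ ((mul_comm _ _).trans (hyz i))
  have hbas : ∀ (n : ℕ) (b : ∀ j, Γ(X, W j)) (i j : t), (∀ j, X.basicOpen (b j) = V i.1 ⊓ W j) →
      X.basicOpen (ores (hUJ j) (b (J j)) * z j ^ n) = U i ⊓ U j := by
    intro n b i j hb
    rw [X.basicOpen_mul, X.basicOpen_of_isUnit ((hzu j).pow n), Groth.Agent.Flat2H.FamExt.basicOpen_res, hb]
    apply le_antisymm
    · exact le_inf (inf_le_left.trans (inf_le_right.trans inf_le_left)) inf_le_right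
    · exact le_inf (le_inf inf_le_right (le_inf inf_le_left (inf_le_right.trans (hUJ j))))
        inf_le_right
  refine ⟨D, t, inferInstance, U, e, g, fun i j ↦ ores (hUJ j) (u₀ i (J j)) * z j ^ D,
    fun i j ↦ ores (hUJ j) (v₀ i (J j)) * z j ^ (D + 1), hkD, hD0, ?_, fun i ↦ hVaff i.1,
    fun i ↦ ((he₀ (J i)).res (hUJ i)).unit_smul (IsUnit.of_mul_eq_one _ (hyz i)), fun i j ↦ ?_,
    fun i ↦ hfam _ _ (hu₀ i), fun i ↦ hfam _ _ (hv₀ i), fun i j ↦ hbas _ _ _ _ (hbu i),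
    fun i j ↦ hbas _ _ _ _ (hbv i), fun i ↦ ?_⟩
  · rw [eq_top_iff]
    intro x _
    obtain ⟨w, hw, hx⟩ := Set.mem_iUnion₂.1 (ht (Set.mem_univ x))
    exact Opens.mem_iSup.2 ⟨⟨w, hw⟩, hx⟩
  · have h1 := congrArg (res L (inf_le_inf (hUJ i) (hUJ j))) (hG (J i) (J j))
    simp only [res_res, res_smul] at h1
    simp only [e, g, res_smul, res_res, smul_smul]
    rw [h1, smul_smul]
    congr 1
    have h2 := hyr i j
    calc _ = ores (inf_le_left : U i ⊓ U j ≤ U i) (y i) * ores _ (G (J i) (J j)) *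
          (ores (inf_le_right : U i ⊓ U j ≤ U j) (y j) * ores inf_le_right (z j)) := by
            rw [h2, mul_one]
      _ = _ := by ring
  · dsimp only
    rw [← hyu i, pow_succ]
    calc _ = ores (hUJ i) (u₀ i (J i)) * z i ^ D * (y i * z i) := by rw [hyz, mul_one]
      _ = _ := by ring

end Groth.Agent.Picfga.AmplePairs
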