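import Mathlib.RingTheory.GradedAlgebra.HomogeneousLocalization

/-!
# Ring homomorphisms out of `HomogeneousLocalization.Away`
-/

set_option autoImplicit false

open HomogeneousLocalization

namespace Groth.Agent.Picfga.AwayLift

variable {A σ : Type*} [CommRing A] [SetLike σ A] [AddSubgroupClass σ A] (𝒜 : ℕ → σ) [GradedRing 𝒜]
variable {B C : Type*} [CommRing B] [CommRing C]

/-- The ring homomorphism `(A_w)₀ → B` induced by a ring homomorphism `Φ : A → B` making `w`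
invertible. -/
noncomputable def awayLift (Φ : A →+* B) {w : A} (hw : IsUnit (Φ w)) : Away 𝒜 w →+* B :=
  (IsLocalization.Away.lift w hw : Localization.Away w →+* B).comp
    (algebraMap (Away 𝒜 w) (Localization.Away w))

lemma awayLift_mk_mul (Φ : A →+* B) {w : A} (hw : IsUnit (Φ w)) {d : ℕ} (hd : w ∈ 𝒜 d) (n : ℕ)
    (x : A) (hx : x ∈ 𝒜 (n • d)) :
    awayLift 𝒜 Φ hw (Away.mk 𝒜 hd n x hx) * Φ w ^ n = Φ x := by
  rw [awayLift, RingHom.comp_apply, HomogeneousLocalization.algebraMap_apply, Away.val_mk,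
    Localization.mk_eq_mk']
  have h := IsLocalization.mk'_spec (Localization.Away w) x
    (⟨w ^ n, by use n⟩ : Submonoid.powers w)
  have h2 := congrArg (IsLocalization.Away.lift w hw : Localization.Away w →+* B) h
  rw [map_mul, IsLocalization.Away.lift_eq, IsLocalization.Away.lift_eq, map_pow] at h2
  exact h2

/-- Characterization of `awayLift` -/
lemma ext_of_mul (w : A) {d : ℕ} (hd : w ∈ 𝒜 d) {Ψ : Away 𝒜 w →+* B} (Φ : A →+* B)
    (hw : IsUnit (Φ w))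
    (h : ∀ (n : ℕ) (x : A) (hx : x ∈ 𝒜 (n • d)), Ψ (Away.mk 𝒜 hd n x hx) * Φ w ^ n = Φ x) :
    Ψ = awayLift 𝒜 Φ hw := by
  ext z
  obtain ⟨n, x, hx, rfl⟩ := Away.mk_surjective 𝒜 hd z
  rw [← (hw.pow n).mul_left_inj, h, awayLift_mk_mul]

lemma comp_awayLift (Φ : A →+* B) {w : A} (hw : IsUnit (Φ w)) (ρ : B →+* C)
    (hw' : IsUnit ((ρ.comp Φ) w)) :
    ρ.comp (awayLift 𝒜 Φ hw) = awayLift 𝒜 (ρ.comp Φ) hw' := by
  rw [awayLift, awayLift, ← RingHom.comp_assoc]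
  congr 1
  apply IsLocalization.ringHom_ext (Submonoid.powers w)
  ext x
  simp [IsLocalization.Away.lift_eq]

lemma awayLift_awayMap (Φ : A →+* B) {w w' x : A} {d e : ℕ} (hd : w ∈ 𝒜 d) (hw' : w' ∈ 𝒜 e)
    (hx : x = w * w') (h1 : IsUnit (Φ w)) (h2 : IsUnit (Φ x)) :
    (awayLift 𝒜 Φ h2).comp (awayMap 𝒜 hw' hx) = awayLift 𝒜 Φ h1 := by
  ext z
  obtain ⟨n, a, ha, rfl⟩ := Away.mk_surjective 𝒜 hd z
  rw [RingHom.comp_apply, awayMap_mk, ← (h2.pow n).mul_left_inj, awayLift_mk_mul, hx, map_mul,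
    map_mul, map_pow, mul_pow, ← mul_assoc, awayLift_mk_mul 𝒜 Φ h1 hd n a ha]

/-- Rescaling `Φ` by powers of a unit does not change `awayLift`. -/
lemma awayLift_eq_of_scale (Φ Φ' : A →+* B) {w : A} {d : ℕ} (hd : w ∈ 𝒜 d) (hw : IsUnit (Φ w))
    (hw' : IsUnit (Φ' w)) (g : B) (h : ∀ (k : ℕ) (f : A), f ∈ 𝒜 k → Φ' f = g ^ k * Φ f) :
    awayLift 𝒜 Φ' hw' = awayLift 𝒜 Φ hw := by
  symm
  refine ext_of_mul 𝒜 w hd Φ' hw' fun n x hx => ?_
  rw [h d w hd, h (n • d) x hx, ← awayLift_mk_mul 𝒜 Φ hw hd n x hx, smul_eq_mul]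
  ring

end Groth.Agent.Picfga.AwayLift
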