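import Groth.Agent.Picfga.ChiIndex
import Groth.Agent.Picfga.ChiDef
import Groth.Agent.Picfga.LatH0
import Groth.Agent.Picfga.P1Alg

/-!
# Finiteness of kernel and cokernel of the two-chart Cech differential on `X_K`

For `P : P1Data f`, `t : Spec K ⟶ Spec k` and `M` invertible on `X_K`, the Cech differential
`cechD K M` has a finite-dimensional kernel and cokernel over `K`; so `HasIndex (cechD K M) (-χ)`.
-/

set_option autoImplicit false
set_option backward.isDefEq.respectTransparency false
universe u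

open CategoryTheory CategoryTheory.Limits AlgebraicGeometry Opposite TopologicalSpace
open Groth.Agent.Fdesc.LocGen Groth.Agent.Picfga.P1Def Groth.Agent.Picfga.SecBC
  Groth.Agent.Picfga.LatOf Groth.Agent.Picfga.LatH0 Groth.Agent.Picfga.ChiCech
  Groth.Agent.Picfga.ChiDef Groth.Agent.Picfga.ChiIndex Groth.Agent.Ega41.LinIndex

namespace Groth.Agent.Picfga.ChiFin

variable {k : Type u} [Field k] {X : Scheme.{u}} {f : X ⟶ Spec (CommRingCat.of k)} (P : P1Data f)
  {K : Type u} [Field K] (t : Spec (CommRingCat.of K) ⟶ Spec (CommRingCat.of k))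

/-- Functions on `Spec K`. -/
noncomputable def sig : Γ((Over.mk t).left, ⊤) →+* K :=
  (Scheme.ΓSpecIso (CommRingCat.of K)).hom.hom

instance : RingHomSurjective (sig t) :=
  ⟨(Scheme.ΓSpecIso (CommRingCat.of K)).commRingCatIsoToRingEquiv.surjective⟩

theorem isField_Γ : IsField Γ((Over.mk t).left, ⊤) :=
  MulEquiv.isField (Field.toIsField K)
    (Scheme.ΓSpecIso (CommRingCat.of K)).commRingCatIsoToRingEquiv.toMulEquiv

theorem str_sig (V : X.Opens) (b : Γ((Over.mk t).left, ⊤)) :
    letI := overK f t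
    str K (UT f (Over.mk t) V) (sig t b) = algebraMap Γ((Over.mk t).left, ⊤) (Fn f (Over.mk t) V) b := by
  letI := overK f t
  rw [algebraMap_Fn]
  have h : (Scheme.ΓSpecIso (CommRingCat.of K)).inv.hom (sig t b) = b := by
    exact (Scheme.ΓSpecIso (CommRingCat.of K)).commRingCatIsoToRingEquiv.symm_apply_apply b
  change ores le_top ((PicF.XTproj f (Over.mk t)).appTop.hom
    ((Scheme.ΓSpecIso (CommRingCat.of K)).inv.hom (sig t b))) = _
  rw [h]
  rfl

variable (M : (PicF.XT f (Over.mk t)).Modules)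

/-- The identity, semilinear. -/
noncomputable def toA (V : X.Opens) :
    letI := overK f t
    Sec f (Over.mk t) M V →ₛₗ[sig t] SecA K M (UT f (Over.mk t) V) :=
  letI := overK f t
  { toFun := fun m => toSecA m
    map_add' := fun _ _ => rfl
    map_smul' := fun b m => by
      rw [smul_Sec]
      change _ = toSecA (str K (UT f (Over.mk t) V) (sig t b) • (show Γ(M, UT f (Over.mk t) V) from m))
      rw [str_sig] }

theorem toA_surjective (V : X.Opens) : Function.Surjective (toA t M V) :=
  fun m => ⟨m, rfl⟩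

theorem toA_dd (x : Sec f (Over.mk t) M P.U₀ × Sec f (Over.mk t) M P.U₁) :
    letI := overK f t
    cechD K M (UT f (Over.mk t) P.U₀) (UT f (Over.mk t) P.U₁)
      (toA t M P.U₀ x.1, toA t M P.U₁ x.2) = toA t M (P.U₀ ⊓ P.U₁) (dd P (Over.mk t) M x) := by
  letI := overK f t
  rw [cechD_apply, dd_apply, map_sub]
  rfl

theorem finite_ker (hM : PicF.IsInvertible M) :
    letI := overK f t
    Module.Finite K (LinearMap.ker
      (cechD K M (UT f (Over.mk t) P.U₀) (UT f (Over.mk t) P.U₁))) := by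
  letI := overK f t
  have hT : IsField Γ((Over.mk t).left, ⊤) := isField_Γ t
  have : IsAffine (Over.mk t).left := inferInstanceAs (IsAffine (Spec (CommRingCat.of K)))
  have h1 : Module.Finite Γ((Over.mk t).left, ⊤) (LinearMap.ker (dd P (Over.mk t) M)) := by
    rw [← latOf_d P (Over.mk t) M hM]
    letI := hT.toField
    exact P1Alg.finite_ker (latOf (Over.mk t) P hM)
  let F : LinearMap.ker (dd P (Over.mk t) M) →ₛₗ[sig t] LinearMap.ker
      (cechD K M (UT f (Over.mk t) P.U₀) (UT f (Over.mk t) P.U₁)) :=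
    { toFun := fun x => ⟨(toA t M P.U₀ x.1.1, toA t M P.U₁ x.1.2), by
        rw [LinearMap.mem_ker, toA_dd, LinearMap.mem_ker.mp x.2, map_zero]⟩
      map_add' := fun x y => by
        apply Subtype.ext
        exact Prod.ext (map_add (toA t M P.U₀) _ _) (map_add (toA t M P.U₁) _ _)
      map_smul' := fun b x => by
        apply Subtype.ext
        exact Prod.ext (map_smulₛₗ (toA t M P.U₀) _ _) (map_smulₛₗ (toA t M P.U₁) _ _) }
  refine Module.Finite.of_surjective F ?_
  rintro ⟨⟨a, b⟩, hab⟩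
  exact ⟨⟨(a, b), (toA_dd P t M (a, b)).symm.trans hab⟩, rfl⟩

theorem finite_coker (hM : PicF.IsInvertible M) :
    letI := overK f t
    Module.Finite K (SecA K M (UT f (Over.mk t) P.U₀ ⊓ UT f (Over.mk t) P.U₁) ⧸ LinearMap.range
      (cechD K M (UT f (Over.mk t) P.U₀) (UT f (Over.mk t) P.U₁))) := by
  letI := overK f t
  have hT : IsField Γ((Over.mk t).left, ⊤) := isField_Γ t
  have : IsAffine (Over.mk t).left := inferInstanceAs (IsAffine (Spec (CommRingCat.of K)))
  have h1 : Module.Finite Γ((Over.mk t).left, ⊤)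
      (Sec f (Over.mk t) M (P.U₀ ⊓ P.U₁) ⧸ LinearMap.range (dd P (Over.mk t) M)) := by
    rw [← latOf_d P (Over.mk t) M hM]
    letI := hT.toField
    exact P1Alg.finite_coker (latOf (Over.mk t) P hM)
  let F : Sec f (Over.mk t) M (P.U₀ ⊓ P.U₁) →ₛₗ[sig t]
      (SecA K M (UT f (Over.mk t) P.U₀ ⊓ UT f (Over.mk t) P.U₁) ⧸ LinearMap.range
        (cechD K M (UT f (Over.mk t) P.U₀) (UT f (Over.mk t) P.U₁))) :=
    (LinearMap.range (cechD K M (UT f (Over.mk t) P.U₀) (UT f (Over.mk t) P.U₁))).mkQ.comp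
      (toA t M (P.U₀ ⊓ P.U₁))
  refine Module.Finite.of_surjective ((LinearMap.range (dd P (Over.mk t) M)).liftQ F ?_) ?_
  · rintro _ ⟨x, rfl⟩
    rw [LinearMap.mem_ker]
    exact (Submodule.Quotient.mk_eq_zero _).mpr ⟨_, toA_dd P t M x⟩
  · intro y
    obtain ⟨m, rfl⟩ := Submodule.mkQ_surjective _ y
    exact ⟨Submodule.Quotient.mk m, rfl⟩

/-- The Cech differential has an index: minus the Euler characteristic. -/
theorem hasIndex (hM : PicF.IsInvertible M) :
    letI := overK f t
    HasIndex (cechD K M (UT f (Over.mk t) P.U₀) (UT f (Over.mk t) P.U₁)) (-(chiM f t M)) := by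
  letI := overK f t
  have : IsAffine (Over.mk t).left := inferInstanceAs (IsAffine (Spec (CommRingCat.of K)))
  refine ⟨finite_ker P t M hM, finite_coker P t M hM, ?_⟩
  have h1 : chiM f t M = FGA.eulerCharLE K (PicF.XT f (Over.mk t)) M 1 := rfl
  rw [h1, eulerCharLE_eq K M (Ega2.QCohLocal.isQCoh_of_isInvertible hM) (UT_sup P _)
    (isAffineOpen_UT f P.affine₀) (isAffineOpen_UT f P.affine₁)]
  ring

end Groth.Agent.Picfga.ChiFin
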