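import Groth.Agent.Picfga.ContainLocus

/-!
# Pushing forward and pulling back ideal sheaves along closed immersions
-/

set_option autoImplicit false
set_option backward.isDefEq.respectTransparency false

universe u

open CategoryTheory CategoryTheory.Limits AlgebraicGeometry
open Groth.Agent.Picfga.HilbPull Groth.Agent.Picfga.ContentSheaf Groth.Agent.Picfga.ContainLocus

namespace Groth.Agent.Picfga.ClosedMap

section General

variable {A B : Scheme.{u}} (j : A ⟶ B)

lemma ideal_comap_preimage [IsAffineHom j] (V : B.IdealSheafData) (U : B.affineOpens) :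
    (V.comap j).ideal ⟨j ⁻¹ᵁ U.1, U.2.preimage j⟩ = (V.ideal U).map (j.app U.1).hom := by
  rw [Divis.IdealComap.ideal_comap V j U ⟨j ⁻¹ᵁ U.1, U.2.preimage j⟩ le_rfl,
    Scheme.Hom.app_eq_appLE]

/-- Two ideal sheaves on the source of an affine morphism agree if they agree on the preimages of
affine opens. -/
lemma ext_of_preimage [IsAffineHom j] {I I' : A.IdealSheafData}
    (h : ∀ U : B.affineOpens, I.ideal ⟨j ⁻¹ᵁ U.1, U.2.preimage j⟩ =
      I'.ideal ⟨j ⁻¹ᵁ U.1, U.2.preimage j⟩) : I = I' := by
  refine Scheme.IdealSheafData.ext_of_iSup_eq_top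
    (fun U : B.affineOpens => ⟨j ⁻¹ᵁ U.1, U.2.preimage j⟩) ?_ h
  rw [← Scheme.Hom.preimage_iSup, iSup_affineOpens_eq_top]
  rfl

/-- For a closed immersion `j` the ideal sheaf `I` on the source is the inverse image of its
push forward. -/
lemma comap_map [IsClosedImmersion j] (I : A.IdealSheafData) : (I.map j).comap j = I := by
  refine ext_of_preimage j fun U => ?_
  rw [ideal_comap_preimage, Scheme.IdealSheafData.ideal_map_of_isAffineHom,
    Ideal.map_comap_of_surjective _ (j.app_surjective U.1 U.2)]

lemma map_injective [IsClosedImmersion j] :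
    Function.Injective (fun I : A.IdealSheafData => I.map j) := by
  intro I I' h
  have h' : I.map j = I'.map j := h
  rw [← comap_map j I, h', comap_map]

/-- For a closed immersion `j`, ideal sheaves on the target containing the kernel of `j` are pushed
forward from the source. -/
lemma map_comap [IsClosedImmersion j] {V : B.IdealSheafData} (hV : j.ker ≤ V) :
    (V.comap j).map j = V := by
  refine Scheme.IdealSheafData.ext (funext fun U => ?_)
  rw [Scheme.IdealSheafData.ideal_map_of_isAffineHom, ideal_comap_preimage,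
    Ideal.comap_map_of_surjective _ (j.app_surjective U.1 U.2), sup_eq_left]
  have := hV U
  rw [Scheme.Hom.ker_apply] at this
  exact this

lemma ker_le_map (I : A.IdealSheafData) : j.ker ≤ I.map j := by
  rw [← Scheme.IdealSheafData.map_bot]
  exact Scheme.IdealSheafData.map_mono j bot_le

/-- The closed subschemes defined by `I` and its push forward are isomorphic over the target. -/
lemma exists_iso_map [IsClosedImmersion j] (I : A.IdealSheafData) :
    ∃ e : I.subscheme ≅ (I.map j).subscheme, e.hom ≫ (I.map j).subschemeι = I.subschemeι ≫ j :=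
  ⟨asIso (I.subschemeι ≫ j).toImage, (I.subschemeι ≫ j).toImage_imageι⟩

/-- Base change of the push forward along a closed immersion. -/
lemma comap_map_of_isPullback {A' B' : Scheme.{u}} {u : A' ⟶ A} {j' : A' ⟶ B'} {j : A ⟶ B}
    {v : B' ⟶ B} (h : IsPullback u j' j v) [IsClosedImmersion j] [IsClosedImmersion j']
    (I : A.IdealSheafData) : (I.map j).comap v = (I.comap u).map j' := by
  have h1 : j'.ker ≤ (I.map j).comap v := by
    rw [ker_of_isPullback h.flip]
    exact Scheme.IdealSheafData.comap_mono _ (ker_le_map j I)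
  rw [← map_comap j' h1, ← Scheme.IdealSheafData.comap_comp, ← h.w,
    Scheme.IdealSheafData.comap_comp, comap_map]

end General

section Push

variable {X Y S : Scheme.{u}} (i : X ⟶ Y) (g : Y ⟶ S) {d : ℕ}

/-- The map `X_T ⟶ Y_T` induced by an `S`-morphism `i : X ⟶ Y`. -/
noncomputable def jT (T : Over S) : PicF.XT (i ≫ g) T ⟶ PicF.XT g T :=
  pullback.map (i ≫ g) T.hom g T.hom i (𝟙 _) (𝟙 S) (Category.comp_id _) (by simp)

@[reassoc (attr := simp)]
lemma jT_fst (T : Over S) : jT i g T ≫ pullback.fst g T.hom = pullback.fst (i ≫ g) T.hom ≫ i := by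
  simp [jT, pullback.map]

@[reassoc (attr := simp)]
lemma jT_snd (T : Over S) : jT i g T ≫ PicF.XTproj g T = PicF.XTproj (i ≫ g) T := by
  simp [jT, pullback.map]

lemma isPullback_jT (T : Over S) :
    IsPullback (jT i g T) (pullback.fst (i ≫ g) T.hom) (pullback.fst g T.hom) i := by
  refine (IsPullback.of_bot (v₂₁ := PicF.XTproj g T) (v₂₂ := g) (h₃₁ := T.hom) ?_
    (jT_fst i g T).symm (IsPullback.of_hasPullback g T.hom)).flip
  rw [jT_snd]
  exact IsPullback.of_hasPullback (i ≫ g) T.hom

instance [IsClosedImmersion i] (T : Over S) : IsClosedImmersion (jT i g T) :=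
  MorphismProperty.of_isPullback (isPullback_jT i g T).flip inferInstance

/-- The square of `jT` and `XTmap` is cartesian. -/
lemma isPullback_jT_XTmap {T T' : Over S} (t : T' ⟶ T) :
    IsPullback (PicF.XTmap (i ≫ g) t) (jT i g T') (jT i g T) (PicF.XTmap g t) := by
  refine IsPullback.of_bot (v₂₁ := PicF.XTproj g T') (v₂₂ := PicF.XTproj g T) (h₃₁ := t.left) ?_ ?_
    (isPullback_XTmap g t)
  · rw [jT_snd, jT_snd]
    exact isPullback_XTmap (i ≫ g) t
  · apply pullback.hom_ext
    · simp [XTmap_fst, XTmap_fst_assoc]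
    · rw [Category.assoc, Category.assoc, jT_snd, XTmap_snd, XTmap_snd, jT_snd_assoc]

lemma push_eq_map (T : Over S) (I : (PicF.XT (i ≫ g) T).IdealSheafData) :
    HilbD.push i g T I = I.map (jT i g T) := rfl

variable [IsClosedImmersion i]

/-- `push` commutes with base change. -/
lemma pull_push {T T' : Over S} (t : T' ⟶ T) (I : (PicF.XT (i ≫ g) T).IdealSheafData) :
    HilbD.pull g t (HilbD.push i g T I) = HilbD.push i g T' (HilbD.pull (i ≫ g) t I) := by
  rw [pull_eq_comap, push_eq_map, push_eq_map, pull_eq_comap]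
  exact comap_map_of_isPullback (isPullback_jT_XTmap i g t) I

lemma push_injective (T : Over S) : Function.Injective (HilbD.push i g T) :=
  map_injective (jT i g T)

/-- `push` preserves finite locally free closed subschemes. -/
lemma isFinLocFreeOfDeg_push_iff (T : Over S) (I : (PicF.XT (i ≫ g) T).IdealSheafData) :
    Mor2.IsFinLocFreeOfDeg d ((HilbD.push i g T I).subschemeι ≫ PicF.XTproj g T) ↔
      Mor2.IsFinLocFreeOfDeg d (I.subschemeι ≫ PicF.XTproj (i ≫ g) T) := by
  rw [push_eq_map]
  obtain ⟨e, he⟩ := exists_iso_map (jT i g T) I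
  have h1 : I.subschemeι ≫ PicF.XTproj (i ≫ g) T =
      e.hom ≫ (I.map (jT i g T)).subschemeι ≫ PicF.XTproj g T := by
    rw [← Category.assoc, he, Category.assoc, jT_snd]
  rw [h1]
  refine ⟨fun h => isFinLocFreeOfDeg_comp_iso h, fun h => ?_⟩
  have := isFinLocFreeOfDeg_comp_iso (e := e.inv) h
  simpa using this

/-- Elements of `Hilb^d_{Y/S}(T)` contained in `X_T` come from `Hilb^d_{X/S}(T)`. -/
noncomputable def restrictObj (T : Over S) (V : HilbD.Obj g d T) (hV : (jT i g T).ker ≤ V.1) :
    HilbD.Obj (i ≫ g) d T :=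
  ⟨V.1.comap (jT i g T), by
    rw [← isFinLocFreeOfDeg_push_iff, push_eq_map, map_comap _ hV]
    exact V.2⟩

lemma push_restrictObj (T : Over S) (V : HilbD.Obj g d T) (hV : (jT i g T).ker ≤ V.1) :
    HilbD.push i g T (restrictObj i g T V hV).1 = V.1 := map_comap _ hV

lemma pull_ker_jT {T T' : Over S} (t : T' ⟶ T) :
    HilbD.pull g t (jT i g T).ker = (jT i g T').ker := by
  rw [pull_eq_comap, ← ker_of_isPullback (isPullback_jT_XTmap i g t).flip]

end Push

end Groth.Agent.Picfga.ClosedMap
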