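import Groth.Agent.Picfga.LevelIface
import Groth.Agent.CohqB.HomPost

/-!
# Sections of powers of a trivialized invertible module are finite projective

If the pushforward of `L^k` to `Spec R` is finite locally free then the `R`-module `Fam a W g k` of the sections of
`L^k` in cocycle form is finite projective.
-/

set_option autoImplicit false
universe u

open AlgebraicGeometry CategoryTheory CategoryTheory.Limits Opposite TopologicalSpace
open Groth.Agent.Fdesc.LocGen Groth.Agent.Flat2H.FamExt Groth.Agent.Flat2H.FamDict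

namespace Groth.Agent.Picfga.Level

variable {R : Type u} [CommRing R] {X : Scheme.{u}} {ι : Type*}

/-- `str` in terms of the restriction of global functions. -/
theorem ores_app_top (a : X ⟶ Spec (CommRingCat.of R)) (U : X.Opens) (hU : U ≤ a ⁻¹ᵁ ⊤)
    (r : Γ(Spec (CommRingCat.of R), ⊤)) :
    ores hU (a.app ⊤ r) = str a U ((Scheme.ΓSpecIso (CommRingCat.of R)).hom.hom r) := by
  change (a.app ⊤ ≫ X.presheaf.map (homOfLE hU).op).hom r =
    (a.appLE ⊤ U le_top).hom (((Scheme.ΓSpecIso (CommRingCat.of R)).hom ≫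
      (Scheme.ΓSpecIso (CommRingCat.of R)).inv).hom r)
  rw [Iso.hom_inv_id]
  rfl

/-- Sections of `L^k` over `X` as families: semilinear for `Γ(Spec R, ⊤) ≅ R`. -/
theorem exists_famMap (a : X ⟶ Spec (CommRingCat.of R)) {N : X.Modules} {W : ι → X.Opens}
    {g : ∀ i j, Γ(X, W i ⊓ W j)} (k : ℕ) (hT : Trivs N W (fun i j ↦ g i j ^ k)) :
    ∃ F : Γ((Scheme.Modules.pushforward a).obj N, ⊤) → Fam a W g k, Function.Bijective F ∧
      (∀ s t, F (s + t) = F s + F t) ∧ ∀ (r : Γ(Spec (CommRingCat.of R), ⊤)) s,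
      F (r • s) = ((Scheme.ΓSpecIso (CommRingCat.of R)).hom.hom r : R) • F s := by
  obtain ⟨h0, e, he, hg⟩ := hT
  have hle : ∀ j, W j ≤ a ⁻¹ᵁ ⊤ := fun j ↦ le_top
  have htop : a ⁻¹ᵁ ⊤ ≤ ⨆ i, W i := fun x _ ↦ by
    obtain ⟨i, hi⟩ := h0 x
    exact Opens.mem_iSup.2 ⟨i, hi⟩
  -- coordinates
  choose b hb using fun (s : Γ(N, a ⁻¹ᵁ ⊤)) (j : ι) ↦ (he j).exists_eq (res N (hle j) s)
  have hbF : ∀ s, IsFam W (fun i j ↦ g i j ^ k) (b s) := by
    intro s i j
    have h1 := congrArg (res N (inf_le_left : W i ⊓ W j ≤ W i)) (hb s i)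
    have h2 := congrArg (res N (inf_le_right : W i ⊓ W j ≤ W j)) (hb s j)
    rw [res_res, res_smul, hg i j, smul_smul] at h1
    rw [res_res, res_smul] at h2
    exact ((he j).res inf_le_right).ext (h1.symm.trans h2)
  let F : Γ(N, a ⁻¹ᵁ ⊤) → Fam a W g k := fun s ↦ ⟨b s, hbF _⟩
  have hFadd : ∀ s t : Γ(N, a ⁻¹ᵁ ⊤), F (s + t) = F s + F t := fun s t ↦ Fam.ext fun j ↦ by
    refine (he j).ext ?_
    change b (s + t) j • e j = (b s j + b t j) • e j
    rw [add_smul, ← hb, ← hb, ← hb, map_add]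
  have hFsmul : ∀ (r : Γ(Spec (CommRingCat.of R), ⊤)) (s : Γ(N, a ⁻¹ᵁ ⊤)),
      F (a.app ⊤ r • s) = ((Scheme.ΓSpecIso (CommRingCat.of R)).hom.hom r : R) • F s :=
    fun r s ↦ Fam.ext fun j ↦ by
      refine (he j).ext ?_
      rw [Fam.smul_val]
      change b (a.app ⊤ r • s) j • e j = (_ * b s j) • e j
      rw [← hb, mul_smul, ← hb, res_smul, ores_app_top]
  refine ⟨F, ⟨fun s t hst ↦ ?_, fun c ↦ ?_⟩, hFadd, hFsmul⟩
  · refine res_ext N W hle htop fun j ↦ ?_
    have h1 : b s j = b t j := congrArg (fun c : Fam a W g k ↦ c.1 j) hst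
    rw [hb s j, h1]
    exact (hb t j).symm
  · obtain ⟨m, hm⟩ := res_glue N W (V := a ⁻¹ᵁ ⊤) hle htop (fun j ↦ c.1 j • e j) (by
      intro i j
      rw [res_smul, res_smul, hg i j, smul_smul, c.2 i j])
    refine ⟨m, Fam.ext fun j ↦ ?_⟩
    refine (he j).ext ?_
    change b m j • e j = c.1 j • e j
    rw [← hb]
    exact hm j

/-- (F1) -/
theorem finite_projective_fam [Finite ι] (a : X ⟶ Spec (CommRingCat.of R)) [IsProper a]
    {L : X.Modules} {W : ι → X.Opens} {g : ∀ i j, Γ(X, W i ⊓ W j)} (hT : Trivs L W g)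
    (hW : ∀ j, IsAffineOpen (W j)) (k : ℕ)
    (hk : FlatMod.IsFinLocFree ((Scheme.Modules.pushforward a).obj (CohB1.tensorPow L k))) :
    Module.Finite R (Fam a W g k) ∧ Module.Projective R (Fam a W g k) := by
  obtain ⟨F, hF, hadd, hsmul⟩ := exists_famMap a k (hT.tensorPow k)
  obtain ⟨h1, h2⟩ := CohqB.HomPost.projective_sections hk (isAffineOpen_top (Spec (CommRingCat.of R)))
  let σ : Γ(Spec (CommRingCat.of R), ⊤) →+* R := (Scheme.ΓSpecIso (CommRingCat.of R)).hom.hom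
  let σ' : R →+* Γ(Spec (CommRingCat.of R), ⊤) := (Scheme.ΓSpecIso (CommRingCat.of R)).inv.hom
  have hσ : RingHomInvPair σ σ' := ⟨RingHom.ext fun x ↦ by
    change ((Scheme.ΓSpecIso (CommRingCat.of R)).hom ≫ (Scheme.ΓSpecIso (CommRingCat.of R)).inv).hom x = x
    rw [Iso.hom_inv_id]; rfl, RingHom.ext fun x ↦ by
    change ((Scheme.ΓSpecIso (CommRingCat.of R)).inv ≫ (Scheme.ΓSpecIso (CommRingCat.of R)).hom).hom x = x
    rw [Iso.inv_hom_id]; rfl⟩
  have hσ' : RingHomInvPair σ' σ := ⟨hσ.2, hσ.1⟩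
  let f : Γ((Scheme.Modules.pushforward a).obj (CohB1.tensorPow L k), ⊤) →ₛₗ[σ] Fam a W g k :=
    { toFun := F, map_add' := hadd, map_smul' := hsmul }
  exact ⟨Module.Finite.of_surjective f hF.2, Module.Projective.of_equiv (LinearEquiv.ofBijective f hF)⟩

end Groth.Agent.Picfga.Level
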