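import Mathlib.AlgebraicGeometry.Morphisms.LocalFlatDescent
import Mathlib.AlgebraicGeometry.Morphisms.Finite
import Mathlib.AlgebraicGeometry.Morphisms.QuasiSeparated
import Mathlib.RingTheory.Finiteness.Descent
import Mathlib.RingTheory.Flat.FaithfullyFlat.Descent
import Groth.Prelude.Def_Mor2

/-!
# fpqc descent of: quasi-compact, quasi-separated, affine, flat, finite, finite locally free
(of degree d) morphisms of schemes.

All statements are in the form `DescendsAlong P (@Surjective ⊓ @Flat ⊓ @QuasiCompact)`.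
-/

set_option backward.isDefEq.respectTransparency.types false

universe u

open CategoryTheory CategoryTheory.Limits AlgebraicGeometry MorphismProperty TensorProduct

namespace Groth.Agent.Picfga.FiniteDescent

/-- flat base change for global sections (qcqs), as a pullback square of spectra. -/
lemma isPullback_SpecMap_appTop_of_flat {R S : CommRingCat.{u}} {P Y : Scheme.{u}} {φ : R ⟶ S}
    {g : Y ⟶ Spec R} {fst : P ⟶ Spec S} {snd : P ⟶ Y} (H : IsPullback fst snd (Spec.map φ) g)
    [CompactSpace Y] [QuasiSeparatedSpace Y] [Flat (Spec.map φ)] :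
    IsPullback (Spec.map fst.appTop) (Spec.map snd.appTop) (Spec.map (Spec.map φ).appTop)
      (Spec.map g.appTop) := by
  have h1 : IsIso (pushoutSection H.flip (US := ⊤) (UT := ⊤) (UX := ⊤) (UY := ⊤) le_top le_top
      (by simp)) := by
    apply isIso_pushoutSection_of_isQuasiSeparated_of_flat_right
    · exact isAffineOpen_top _
    · exact isAffineOpen_top _
    · exact isCompact_univ
    · exact isQuasiSeparated_univ
  have h2 := (isIso_pushoutSection_iff _ _ _ _).mp h1
  have h3 := isPullback_SpecMap_of_isPushout _ _ _ _ h2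
  have e1 : ∀ {A B : Scheme.{u}} (q : A ⟶ B) (h : (⊤ : A.Opens) ≤ q ⁻¹ᵁ ⊤),
      q.appLE ⊤ ⊤ h = q.appTop := fun q h ↦ (Scheme.Hom.app_eq_appLE (f := q) (U := ⊤)).symm
  rw [e1, e1, e1, e1] at h3
  exact h3.flip

/-- flat base change for `toSpecΓ`. -/
lemma isPullback_toSpecΓ_of_flat {R S : CommRingCat.{u}} {P Y : Scheme.{u}} {φ : R ⟶ S}
    {g : Y ⟶ Spec R} {fst : P ⟶ Spec S} {snd : P ⟶ Y} (H : IsPullback fst snd (Spec.map φ) g)
    [CompactSpace Y] [QuasiSeparatedSpace Y] [Flat (Spec.map φ)] :
    IsPullback P.toSpecΓ snd (Spec.map snd.appTop) Y.toSpecΓ := by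
  have Hbig : IsPullback (P.toSpecΓ ≫ Spec.map fst.appTop) snd (Spec.map (Spec.map φ).appTop)
      (Y.toSpecΓ ≫ Spec.map g.appTop) := by
    rw [← Scheme.toSpecΓ_naturality, ← Scheme.toSpecΓ_naturality]
    refine IsPullback.of_iso H (Iso.refl _) (asIso (Spec S).toSpecΓ) (Iso.refl _)
      (asIso (Spec R).toSpecΓ) ?_ ?_ ?_ ?_
    · simp
    · simp
    · simp [Scheme.toSpecΓ_naturality]
    · simp
  refine IsPullback.of_right (h₁₂ := Spec.map fst.appTop)
    (v₁₃ := Spec.map (Spec.map φ).appTop) (h₂₂ := Spec.map g.appTop) Hbig ?_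
    (isPullback_SpecMap_appTop_of_flat H)
  exact (Scheme.toSpecΓ_naturality snd).symm

/-- Quasi-compact morphisms satisfy fpqc descent. -/
instance quasiCompact_descendsAlong :
    DescendsAlong (C := Scheme.{u}) @QuasiCompact (@Surjective ⊓ @Flat ⊓ @QuasiCompact) := by
  refine DescendsAlong.mk' ?_
  intro X Y Z f g _ hf hfst
  have := hf.1.1
  have := hf.2
  refine ⟨fun U hU hU' ↦ ?_⟩
  have h1 : QuasiCompact (pullback.fst f g ≫ f) := inferInstance
  rw [pullback.condition] at h1
  have h2 : IsCompact ((pullback.snd f g ≫ g) ⁻¹' U) := h1.isCompact_preimage U hU hU'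
  have h3 : Surjective (pullback.snd f g) := inferInstance
  have h4 : (g ⁻¹' U) = (pullback.snd f g) '' ((pullback.snd f g ≫ g) ⁻¹' U) := by
    ext y
    constructor
    · intro hy
      obtain ⟨z, rfl⟩ := (pullback.snd f g).surjective y
      exact ⟨z, by simpa using hy, rfl⟩
    · rintro ⟨z, hz, rfl⟩
      simpa using hz
  rw [h4]
  exact h2.image (pullback.snd f g).continuous

/-- Quasi-separated morphisms satisfy fpqc descent. -/
instance quasiSeparated_descendsAlong :
    DescendsAlong (C := Scheme.{u}) @QuasiSeparated (@Surjective ⊓ @Flat ⊓ @QuasiCompact) := by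
  rw [quasiSeparated_eq_diagonal_is_quasiCompact]
  infer_instance

/-- Affine morphisms satisfy fpqc descent (Stacks 02L5). -/
instance isAffineHom_descendsAlong :
    DescendsAlong (C := Scheme.{u}) @IsAffineHom (@Surjective ⊓ @Flat ⊓ @QuasiCompact) := by
  apply IsZariskiLocalAtTarget.descendsAlong_inf_quasiCompact
  · rw [inf_comm]
    exact inf_le_inf le_rfl (IsLocalIso.le_of_isZariskiLocalAtSource _)
  intro R S Y φ g h hfst
  have hq : (@Surjective ⊓ @Flat ⊓ @QuasiCompact : MorphismProperty Scheme.{u}) (Spec.map φ) :=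
    ⟨h, inferInstance⟩
  have : Surjective (Spec.map φ) := h.1
  have : Flat (Spec.map φ) := h.2
  have h1 : QuasiCompact g := MorphismProperty.of_pullback_fst_of_descendsAlong
    (P := @QuasiCompact) hq inferInstance
  have h2 : QuasiSeparated g := MorphismProperty.of_pullback_fst_of_descendsAlong
    (P := @QuasiSeparated) hq inferInstance
  have h3 : CompactSpace Y := (quasiCompact_iff_compactSpace g).mp h1
  have h4 : QuasiSeparatedSpace Y := (quasiSeparated_iff_quasiSeparatedSpace g).mp h2
  have h5 : IsAffine (pullback (Spec.map φ) g) := isAffine_of_isAffineHom (pullback.fst _ _)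
  have H := IsPullback.of_hasPullback (Spec.map φ) g
  have H1 := isPullback_toSpecΓ_of_flat H
  have h6 : IsIso (pullback (Spec.map φ) g).toSpecΓ := inferInstance
  -- `Spec Γ(P) ⟶ Spec Γ(Y)` is the base change of `Spec S ⟶ Spec R`
  have H2 := isPullback_SpecMap_appTop_of_flat H
  have h7 : (@Surjective ⊓ @Flat ⊓ @QuasiCompact : MorphismProperty Scheme.{u})
      (Spec.map (pullback.snd (Spec.map φ) g).appTop) := by
    refine MorphismProperty.of_isPullback H2 ?_
    have e : Spec.map (Spec.map φ).appTop =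
        inv (Spec S).toSpecΓ ≫ Spec.map φ ≫ (Spec R).toSpecΓ := by
      rw [Scheme.toSpecΓ_naturality, IsIso.inv_hom_id_assoc]
    rw [e]
    exact ⟨⟨inferInstance, inferInstance⟩, inferInstance⟩
  have h8 : IsIso Y.toSpecΓ :=
    MorphismProperty.of_isPullback_of_descendsAlong
      (P := MorphismProperty.isomorphisms Scheme.{u}) (Q := @Surjective ⊓ @Flat ⊓ @QuasiCompact)
      H1 h7 h6
  have h9 : IsAffine Y := ⟨h8⟩
  infer_instance

/-- Being a finite ring map codescends along faithfully flat ring maps. -/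
lemma finite_codescendsAlong_faithfullyFlat :
    RingHom.CodescendsAlong RingHom.Finite RingHom.FaithfullyFlat := by
  refine .mk _ RingHom.finite_respectsIso fun R S T _ _ _ _ _ h h' ↦ ?_
  rw [RingHom.finite_algebraMap] at h' ⊢
  rw [RingHom.faithfullyFlat_algebraMap_iff] at h
  exact .of_finite_tensorProduct_of_faithfullyFlat S

/-- Being a flat ring map codescends along faithfully flat ring maps. -/
lemma flat_codescendsAlong_faithfullyFlat :
    RingHom.CodescendsAlong RingHom.Flat RingHom.FaithfullyFlat := by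
  refine .mk _ RingHom.Flat.respectsIso fun R S T _ _ _ _ _ h h' ↦ ?_
  rw [RingHom.flat_algebraMap_iff] at h' ⊢
  rw [RingHom.faithfullyFlat_algebraMap_iff] at h
  exact Module.Flat.of_flat_tensorProduct R T S

/-- Flat morphisms satisfy fpqc descent (Stacks 02L2). -/
instance flat_descendsAlong :
    DescendsAlong (C := Scheme.{u}) @Flat (@Surjective ⊓ @Flat ⊓ @QuasiCompact) :=
  HasRingHomProperty.descendsAlong_flat flat_codescendsAlong_faithfullyFlat

/-- Finite morphisms satisfy fpqc descent (Stacks 02LA). -/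
instance isFinite_descendsAlong :
    DescendsAlong (C := Scheme.{u}) @IsFinite (@Surjective ⊓ @Flat ⊓ @QuasiCompact) := by
  apply IsZariskiLocalAtTarget.descendsAlong_inf_quasiCompact
  · rw [inf_comm]
    exact inf_le_inf le_rfl (IsLocalIso.le_of_isZariskiLocalAtSource _)
  intro R S Y φ g h hfst
  have hq : (@Surjective ⊓ @Flat ⊓ @QuasiCompact : MorphismProperty Scheme.{u}) (Spec.map φ) :=
    ⟨h, inferInstance⟩
  have h1 : IsAffineHom g := MorphismProperty.of_pullback_fst_of_descendsAlong
    (P := @IsAffineHom) hq inferInstance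
  have h2 : IsAffine Y := isAffine_of_isAffineHom g
  wlog hY : ∃ T, Y = Spec T generalizing Y
  · rw [← MorphismProperty.cancel_left_of_respectsIso @IsFinite Y.isoSpec.inv]
    have heq : pullback.fst (Spec.map φ) (Y.isoSpec.inv ≫ g) =
        pullback.map _ _ _ _ (𝟙 _) (Y.isoSpec.inv) (𝟙 _) (by simp) (by simp) ≫
          pullback.fst (Spec.map φ) g := (pullback.lift_fst _ _ _).symm
    refine this _ ?_ inferInstance inferInstance ⟨_, rfl⟩
    rw [heq]
    infer_instance
  obtain ⟨T, rfl⟩ := hY
  refine of_pullback_fst_Spec_of_codescendsAlong (P := @IsFinite) (P' := @Surjective ⊓ @Flat)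
    (Q := RingHom.Finite) (Q' := RingHom.FaithfullyFlat) finite_codescendsAlong_faithfullyFlat
    ?_ ?_ h hfst
  · intro R' S' f hf
    rwa [← flat_and_surjective_SpecMap_iff, and_comm]
  · intro R' S' f
    exact IsFinite.SpecMap_iff f

/-- Finite locally free morphisms satisfy fpqc descent. -/
lemma isFinLocFree_of_isPullback {P X Y Z : Scheme.{u}} {fst : P ⟶ X} {snd : P ⟶ Y} {f : X ⟶ Z}
    {g : Y ⟶ Z} (H : IsPullback fst snd f g) [Surjective f] [Flat f] [QuasiCompact f]
    (h : Mor2.IsFinLocFree fst) : Mor2.IsFinLocFree g := by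
  have hq : (@Surjective ⊓ @Flat ⊓ @QuasiCompact : MorphismProperty Scheme.{u}) f :=
    ⟨⟨inferInstance, inferInstance⟩, inferInstance⟩
  exact ⟨MorphismProperty.of_isPullback_of_descendsAlong (P := @IsFinite) H hq h.1,
    MorphismProperty.of_isPullback_of_descendsAlong (P := @Flat) H hq h.2.1,
    MorphismProperty.of_isPullback_of_descendsAlong (P := @LocallyOfFinitePresentation) H hq h.2.2⟩

/-- Finite locally free morphisms of degree `d` satisfy fpqc descent. -/
lemma isFinLocFreeOfDeg_of_isPullback {d : ℕ} {P X Y Z : Scheme.{u}} {fst : P ⟶ X} {snd : P ⟶ Y}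
    {f : X ⟶ Z} {g : Y ⟶ Z} (H : IsPullback fst snd f g) [Surjective f] [Flat f] [QuasiCompact f]
    (h : Mor2.IsFinLocFreeOfDeg d fst) : Mor2.IsFinLocFreeOfDeg d g := by
  have h1 := isFinLocFree_of_isPullback H h.1
  refine ⟨h1, fun z ↦ ?_⟩
  obtain ⟨x, rfl⟩ := f.surjective z
  have := h1.1
  have := h1.2.1
  rw [← Scheme.Hom.finrank_of_isPullback snd fst g f H.flip, h.2]

end Groth.Agent.Picfga.FiniteDescent
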