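import Groth.Agent.Picfga.SemiHom
import Groth.Agent.Picfga.FieldSections
import Groth.Agent.VarietyB.BaseExt3
import Groth.Prelude.Def_PicF2

/-!
# The Galois action on `X ×_k Spec k'`

`f : X ⟶ Spec k`, `k'/k` Galois (possibly infinite), `τ σ = PicF2.twistAut f σ`.

* `tw_fst`, `tw_snd`, `tw_mul`, `tw_one`; action on functions `fn (τ σ) h` (see `Semi.fn`).
* `eventually_le`, `eventually_fn_eq`: quasi-compact opens and functions on them are fixed by an
  open subgroup.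
* `exists_of_invariant`: invariant functions on `π⁻¹ U` come from `U`.
* `exists_open_eq`: invariant opens come from `X`.
* `ratPt`: the point of `X ×_k Spec k'` given by a rational point.
-/

set_option autoImplicit false
set_option backward.isDefEq.respectTransparency false

universe u

open CategoryTheory CategoryTheory.Limits AlgebraicGeometry TopologicalSpace Opposite Topology

namespace Groth.Agent.Picfga.GaloisAct

open Groth.Agent.Fdesc.LocGen Groth.Agent.Picfga.FieldSections Groth.Agent.Picfga.Semi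
  Groth.Agent.Picfga.LineDescent

variable {k k' : Type u} [Field k] [Field k'] [Algebra k k'] {X : Scheme.{u}}
  (f : X ⟶ Spec (CommRingCat.of k))

/-- The automorphism of `Spec k'` given by `σ`. -/
noncomputable abbrev spAut (σ : k' ≃ₐ[k] k') :
    Spec (CommRingCat.of k') ⟶ Spec (CommRingCat.of k') :=
  Spec.map (CommRingCat.ofHom (σ : k' →+* k'))

/-- Notation for the automorphism `id × Spec σ` of `X ×_k Spec k'`. -/
noncomputable abbrev tw (σ : k' ≃ₐ[k] k') : pullback f (bc k k') ⟶ pullback f (bc k k') :=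
  PicF2.twistAut f σ

lemma tw_fst (σ : k' ≃ₐ[k] k') : tw f σ ≫ pullback.fst f (bc k k') = pullback.fst f (bc k k') := by
  rw [tw, PicF2.twistAut, pullback.map, pullback.lift_fst, Category.comp_id]

lemma tw_snd (σ : k' ≃ₐ[k] k') :
    tw f σ ≫ pullback.snd f (bc k k') = pullback.snd f (bc k k') ≫ spAut σ := by
  rw [tw, PicF2.twistAut, pullback.map, pullback.lift_snd]

lemma spAut_mul (σ ρ : k' ≃ₐ[k] k') : spAut (σ * ρ) = spAut σ ≫ spAut ρ := by
  rw [spAut, spAut, spAut, ← Spec.map_comp, ← CommRingCat.ofHom_comp]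
  rfl

lemma spAut_one : spAut (1 : k' ≃ₐ[k] k') = 𝟙 _ := by
  rw [← Spec.map_id]
  rfl

lemma spAut_bc (σ : k' ≃ₐ[k] k') : spAut σ ≫ bc k k' = bc k k' := by
  rw [spAut, bc, ← Spec.map_comp, ← CommRingCat.ofHom_comp]
  congr 2
  ext x
  simp

lemma tw_mul (σ ρ : k' ≃ₐ[k] k') : tw f (σ * ρ) = tw f σ ≫ tw f ρ := by
  apply pullback.hom_ext
  · rw [Category.assoc, tw_fst, tw_fst, tw_fst]
  · rw [Category.assoc, tw_snd, tw_snd, ← Category.assoc, tw_snd, Category.assoc, spAut_mul]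

lemma tw_one : tw f (1 : k' ≃ₐ[k] k') = 𝟙 _ := by
  apply pullback.hom_ext
  · rw [tw_fst, Category.id_comp]
  · rw [tw_snd, spAut_one, Category.comp_id, Category.id_comp]

lemma tw_preimage (σ : k' ≃ₐ[k] k') (U : X.Opens) :
    tw f σ ⁻¹ᵁ (pullback.fst f (bc k k') ⁻¹ᵁ U) = pullback.fst f (bc k k') ⁻¹ᵁ U := by
  rw [← Scheme.Hom.comp_preimage, tw_fst]

lemma le_tw (σ : k' ≃ₐ[k] k') (U : X.Opens) :
    pullback.fst f (bc k k') ⁻¹ᵁ U ≤ tw f σ ⁻¹ᵁ (pullback.fst f (bc k k') ⁻¹ᵁ U) :=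
  (tw_preimage f σ U).ge

lemma tw_inv_apply (σ : k' ≃ₐ[k] k') (y : (pullback f (bc k k') : Scheme.{u})) :
    tw f σ⁻¹ (tw f σ y) = y := by
  have h1 : tw f σ ≫ tw f σ⁻¹ = 𝟙 _ := by rw [← tw_mul, mul_inv_cancel, tw_one]
  have h2 := congr($h1 y)
  simpa using h2

/-- Functions from `X` are invariant. -/
lemma fn_tw_fst (σ : k' ≃ₐ[k] k') {U : X.Opens}
    {W V : (pullback f (bc k k')).Opens} (hW : W ≤ pullback.fst f (bc k k') ⁻¹ᵁ U)
    (h : V ≤ tw f σ ⁻¹ᵁ W) (hV : V ≤ pullback.fst f (bc k k') ⁻¹ᵁ U) (a : Γ(X, U)) :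
    fn (tw f σ) h (fn (pullback.fst f (bc k k')) hW a) =
      fn (pullback.fst f (bc k k')) hV a :=
  fn_fn _ _ _ (tw_fst f σ).symm hW h hV a

lemma fn_tw_app (σ : k' ≃ₐ[k] k') {U : X.Opens} (a : Γ(X, U)) :
    fn (tw f σ) (le_tw f σ U) ((pullback.fst f (bc k k')).app U a) =
      (pullback.fst f (bc k k')).app U a := by
  have := fn_tw_fst f σ (le_refl (pullback.fst f (bc k k') ⁻¹ᵁ U)) (le_tw f σ U) le_rfl a
  rw [fn_eq_app] at this
  exact this

lemma spAut_fn (σ : k' ≃ₐ[k] k') (b : k') (h : (⊤ : (Spec (CommRingCat.of k')).Opens) ≤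
      spAut σ ⁻¹ᵁ ⊤) :
    fn (spAut σ) h ((Scheme.ΓSpecIso (CommRingCat.of k')).inv b) =
      (Scheme.ΓSpecIso (CommRingCat.of k')).inv (σ b) := by
  have h1 : CommRingCat.ofHom (σ : k' →+* k') ≫ (Scheme.ΓSpecIso (CommRingCat.of k')).inv =
      (Scheme.ΓSpecIso (CommRingCat.of k')).inv ≫ (spAut σ).appTop :=
    Scheme.ΓSpecIso_inv_naturality _
  have h2 : fn (spAut σ) h ((Scheme.ΓSpecIso (CommRingCat.of k')).inv b) =
      (spAut σ).appTop ((Scheme.ΓSpecIso (CommRingCat.of k')).inv b) := fn_eq_app _ _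
  rw [h2]
  exact (ConcreteCategory.congr_hom h1 b).symm

lemma scalar_eq (W : (pullback f (bc k k')).Opens) (b : k') :
    scalar f W b = fn (pullback.snd f (bc k k')) (le_top : W ≤ pullback.snd f (bc k k') ⁻¹ᵁ ⊤)
      ((Scheme.ΓSpecIso (CommRingCat.of k')).inv b) := rfl

/-- The action on scalars. -/
lemma fn_tw_scalar (σ : k' ≃ₐ[k] k') {W V : (pullback f (bc k k')).Opens}
    (h : V ≤ tw f σ ⁻¹ᵁ W) (b : k') : fn (tw f σ) h (scalar f W b) = scalar f V (σ b) := by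
  have hV : V ≤ (pullback.snd f (bc k k') ≫ spAut σ) ⁻¹ᵁ ⊤ := le_top
  have h1 := fn_fn _ _ _ (tw_snd f σ).symm (le_top : W ≤ pullback.snd f (bc k k') ⁻¹ᵁ ⊤) h hV
    ((Scheme.ΓSpecIso (CommRingCat.of k')).inv b)
  have h2 := fn_fn (pullback.snd f (bc k k')) (spAut σ) _ rfl
    (le_top : (⊤ : (Spec (CommRingCat.of k')).Opens) ≤ spAut σ ⁻¹ᵁ ⊤)
    (le_top : V ≤ pullback.snd f (bc k k') ⁻¹ᵁ ⊤) hV
    ((Scheme.ΓSpecIso (CommRingCat.of k')).inv b)
  rw [spAut_fn] at h2
  rw [scalar_eq, scalar_eq]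
  exact h1.trans h2.symm

lemma ores_scalar {W V : (pullback f (bc k k')).Opens} (h : V ≤ W) (b : k') :
    ores h (scalar f W b) = scalar f V b := by
  rw [scalar_eq, scalar_eq, ores_fn]

lemma eventually_apply_eq [Algebra.IsIntegral k k'] (b : k') :
    ∀ᶠ σ in 𝓝 (1 : k' ≃ₐ[k] k'), σ b = b := by
  have h := stabilizer_isOpen_of_isIntegral (K := k) b
  have h2 := h.mem_nhds (one_mem (MulAction.stabilizer (k' ≃ₐ[k] k') b))
  exact h2

/-- Functions on `π⁻¹ U`, `U` quasi-compact and quasi-separated, are fixed by an open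
subgroup. -/
lemma eventually_fn_preimage [Algebra.IsIntegral k k'] {U : X.Opens}
    (hU : IsCompact (U : Set X)) (hU' : IsQuasiSeparated (U : Set X))
    (g : Γ(pullback f (bc k k'), pullback.fst f (bc k k') ⁻¹ᵁ U)) :
    ∀ᶠ σ in 𝓝 (1 : k' ≃ₐ[k] k'), fn (tw f σ) (le_tw f σ U) g = g := by
  refine sections_induction f hU hU' (P := fun g ↦
    ∀ᶠ σ in 𝓝 (1 : k' ≃ₐ[k] k'), fn (tw f σ) (le_tw f σ U) g = g) (fun a b ↦ ?_)
    (fun x y hx hy ↦ ?_) g
  · filter_upwards [eventually_apply_eq b] with σ hσ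
    rw [map_mul, fn_tw_app, fn_tw_scalar, hσ]
  · filter_upwards [hx, hy] with σ h1 h2
    rw [map_add, h1, h2]

instance isAffineHom_fst : IsAffineHom (pullback.fst f (bc k k')) :=
  MorphismProperty.pullback_fst _ _ inferInstance

/-- Quasi-compact opens are finite unions of basic opens of functions on preimages of affines. -/
lemma exists_finite_basic {W : (pullback f (bc k k')).Opens}
    (hW : IsCompact (W : Set (pullback f (bc k k') : Scheme.{u}))) :
    ∃ (ι : Type u) (_ : Finite ι) (U : ι → X.Opens)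
      (a : ∀ i, Γ(pullback f (bc k k'), pullback.fst f (bc k k') ⁻¹ᵁ U i)),
      (∀ i, IsAffineOpen (U i)) ∧ (∀ i, (pullback f (bc k k')).basicOpen (a i) ≤ W) ∧
      W ≤ ⨆ i, (pullback f (bc k k')).basicOpen (a i) := by
  have h : ∀ i : W, ∃ (U : X.Opens)
      (a : Γ(pullback f (bc k k'), pullback.fst f (bc k k') ⁻¹ᵁ U)), IsAffineOpen U ∧
      (pullback f (bc k k')).basicOpen a ≤ W ∧ i.1 ∈ (pullback f (bc k k')).basicOpen a := by
    intro i
    obtain ⟨_, ⟨U, hU, rfl⟩, hxU, -⟩ := X.isBasis_affineOpens.exists_subset_of_mem_open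
      (Set.mem_univ (pullback.fst f (bc k k') i.1)) isOpen_univ
    obtain ⟨a, ha, hxa⟩ := (hU.preimage (pullback.fst f (bc k k'))).exists_basicOpen_le
      (V := W) i hxU
    exact ⟨U, a, hU, ha, hxa⟩
  choose U a hU ha hxa using h
  obtain ⟨t, ht⟩ := hW.elim_finite_subcover
    (fun i : W ↦ ((pullback f (bc k k')).basicOpen (a i) :
      Set (pullback f (bc k k') : Scheme.{u})))
    (fun i ↦ ((pullback f (bc k k')).basicOpen (a i)).isOpen)
    (fun y hy ↦ Set.mem_iUnion.2 ⟨⟨y, hy⟩, hxa ⟨y, hy⟩⟩)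
  refine ⟨{i // i ∈ t}, inferInstance, fun i ↦ U i.1, fun i ↦ a i.1, fun i ↦ hU i.1,
    fun i ↦ ha i.1, fun y hy ↦ ?_⟩
  obtain ⟨i, hi, hyi⟩ := Set.mem_iUnion₂.1 (ht hy)
  exact Opens.mem_iSup.2 ⟨⟨i, hi⟩, hyi⟩

lemma basicOpen_le_of_fn_eq {σ : k' ≃ₐ[k] k'} {U : X.Opens}
    {a : Γ(pullback f (bc k k'), pullback.fst f (bc k k') ⁻¹ᵁ U)}
    (h : fn (tw f σ) (le_tw f σ U) a = a) :
    (pullback f (bc k k')).basicOpen a ≤ tw f σ ⁻¹ᵁ (pullback f (bc k k')).basicOpen a := by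
  have h1 := Scheme.basicOpen_appLE (tw f σ) (pullback.fst f (bc k k') ⁻¹ᵁ U)
    (pullback.fst f (bc k k') ⁻¹ᵁ U) (le_tw f σ U) a
  have h2 : (pullback f (bc k k')).basicOpen (fn (tw f σ) (le_tw f σ U) a) =
    pullback.fst f (bc k k') ⁻¹ᵁ U ⊓ tw f σ ⁻¹ᵁ (pullback f (bc k k')).basicOpen a := h1
  rw [h] at h2
  exact h2.le.trans inf_le_right

/-- Quasi-compact opens are stable under an open subgroup. -/
lemma eventually_le [Algebra.IsIntegral k k'] {W : (pullback f (bc k k')).Opens}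
    (hW : IsCompact (W : Set (pullback f (bc k k') : Scheme.{u}))) :
    ∀ᶠ σ in 𝓝 (1 : k' ≃ₐ[k] k'), W ≤ tw f σ ⁻¹ᵁ W := by
  obtain ⟨ι, _, U, a, hU, ha, hc⟩ := exists_finite_basic f hW
  have h1 := Filter.eventually_all.2 (fun i ↦
    eventually_fn_preimage f (hU i).isCompact (hU i).isQuasiSeparated (a i))
  filter_upwards [h1] with σ hσ
  refine hc.trans (iSup_le fun i ↦ ?_)
  exact (basicOpen_le_of_fn_eq f (hσ i)).trans ((tw f σ).preimage_mono (ha i))

/-- Functions on quasi-compact opens are fixed by an open subgroup. -/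
lemma eventually_fn_eq [Algebra.IsIntegral k k'] {W : (pullback f (bc k k')).Opens}
    (hW : IsCompact (W : Set (pullback f (bc k k') : Scheme.{u})))
    (g : Γ(pullback f (bc k k'), W)) :
    ∀ᶠ σ in 𝓝 (1 : k' ≃ₐ[k] k'), ∀ (V : (pullback f (bc k k')).Opens) (h : V ≤ tw f σ ⁻¹ᵁ W)
      (h' : V ≤ W), fn (tw f σ) h g = ores h' g := by
  obtain ⟨ι, _, U, a, hU, ha, hc⟩ := exists_finite_basic f hW
  have h0 : ∀ i, ∃ (n : ℕ) (y : Γ(pullback f (bc k k'), pullback.fst f (bc k k') ⁻¹ᵁ U i)),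
      ores ((pullback f (bc k k')).basicOpen_le (a i)) y =
        (ores ((pullback f (bc k k')).basicOpen_le (a i)) (a i)) ^ n * ores (ha i) g := by
    intro i
    have hUi := (hU i).preimage (pullback.fst f (bc k k'))
    obtain ⟨n, y, h⟩ := exists_eq_pow_mul_of_isCompact_of_isQuasiSeparated _ _ hUi.isCompact
      hUi.isQuasiSeparated (a i) (ores (ha i) g)
    exact ⟨n, y, h⟩
  choose n y hy using h0
  have h1 := Filter.eventually_all.2 (fun i ↦
    eventually_fn_preimage f (hU i).isCompact (hU i).isQuasiSeparated (a i))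
  have h2 := Filter.eventually_all.2 (fun i ↦
    eventually_fn_preimage f (hU i).isCompact (hU i).isQuasiSeparated (y i))
  filter_upwards [h1, h2] with σ h1 h2 V h h'
  refine ores_ext (V := V) (fun i ↦ V ⊓ (pullback f (bc k k')).basicOpen (a i))
    (fun i ↦ inf_le_left) (by rw [← inf_iSup_eq]; exact le_inf le_rfl (h'.trans hc)) fun i ↦ ?_
  set D := (pullback f (bc k k')).basicOpen (a i) with hD
  have hDU : D ≤ pullback.fst f (bc k k') ⁻¹ᵁ U i := (pullback f (bc k k')).basicOpen_le (a i)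
  have hDτ : D ≤ tw f σ ⁻¹ᵁ D := basicOpen_le_of_fn_eq f (h1 i)
  have hua : IsUnit (ores ((inf_le_right : V ⊓ D ≤ D).trans hDU) (a i)) := by
    have h3 : IsUnit (ores hDU (a i)) :=
      (pullback f (bc k k')).toRingedSpace.isUnit_res_basicOpen (a i)
    have h4 := h3.map (ores (inf_le_right : V ⊓ D ≤ D))
    rwa [ores_ores] at h4
  have hfix : ∀ (b : Γ(pullback f (bc k k'), pullback.fst f (bc k k') ⁻¹ᵁ U i))
      (_ : fn (tw f σ) (le_tw f σ (U i)) b = b),
      fn (tw f σ) (inf_le_right.trans hDτ : V ⊓ D ≤ tw f σ ⁻¹ᵁ D) (ores hDU b) =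
        ores (inf_le_right.trans hDU) b := by
    intro b hb
    rw [fn_ores, ← ores_fn (tw f σ) (le_tw f σ (U i)) (inf_le_right.trans hDU), hb]
  have h5 := congrArg (fn (tw f σ) (inf_le_right.trans hDτ : V ⊓ D ≤ tw f σ ⁻¹ᵁ D)) (hy i)
  rw [map_mul, map_pow, hfix _ (h2 i), hfix _ (h1 i), fn_ores] at h5
  have h6 := congrArg (ores (inf_le_right : V ⊓ D ≤ D)) (hy i)
  rw [map_mul, map_pow, ores_ores, ores_ores, ores_ores] at h6
  rw [h6] at h5
  rw [ores_fn, ores_ores]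
  exact ((hua.pow (n i)).mul_left_cancel h5).symm

/-! ### Invariants -/

section Invariants

variable {f}

/-- The pushout square computing the functions on `π⁻¹ U`, over `k`. -/
lemma isPushout_scalar {U : X.Opens} (hU : IsCompact (U : Set X))
    (hU' : IsQuasiSeparated (U : Set X)) :
    IsPushout (CommRingCat.ofHom (scalar₀ f U)) (CommRingCat.ofHom (algebraMap k k'))
      ((pullback.fst f (bc k k')).app U)
      (CommRingCat.ofHom (scalar f (pullback.fst f (bc k k') ⁻¹ᵁ U))) := by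
  refine IsPushout.of_iso (isPushout_sections (k' := k') f hU hU')
    (Scheme.ΓSpecIso (CommRingCat.of k)) (Iso.refl _)
    (Scheme.ΓSpecIso (CommRingCat.of k')) (Iso.refl _) ?_ ?_ ?_ ?_
  · rw [Iso.refl_hom, Category.comp_id, ← Iso.inv_comp_eq]
    rfl
  · exact (Scheme.ΓSpecIso_naturality _)
  · rw [Iso.refl_hom, Iso.refl_hom, Category.comp_id, Category.id_comp]
  · rw [Iso.refl_hom, Category.comp_id, ← Iso.inv_comp_eq]
    rfl

/-- Invariant functions over the preimage of a quasi-compact quasi-separated open. -/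
lemma exists_of_invariant_qcqs [IsGalois k k'] {U : X.Opens} (hU : IsCompact (U : Set X))
    (hU' : IsQuasiSeparated (U : Set X))
    (g : Γ(pullback f (bc k k'), pullback.fst f (bc k k') ⁻¹ᵁ U))
    (hg : ∀ σ : k' ≃ₐ[k] k', fn (tw f σ) (le_tw f σ U) g = g) :
    ∃ a, (pullback.fst f (bc k k')).app U a = g := by
  let _ : Algebra k Γ(X, U) := (scalar₀ f U).toAlgebra
  have hpush := isPushout_scalar (k' := k') (f := f) hU hU'
  let e := (CommRingCat.isPushout_tensorProduct k Γ(X, U) k').isoIsPushout _ _ hpush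
  have h1 : ∀ a, e.hom (Algebra.TensorProduct.includeLeftRingHom a) =
      (pullback.fst f (bc k k')).app U a := fun a ↦
    ConcreteCategory.congr_hom
      ((CommRingCat.isPushout_tensorProduct k Γ(X, U) k').inl_isoIsPushout_hom _ _ hpush) a
  have h2 : ∀ b, e.hom (Algebra.TensorProduct.includeRight b) =
      scalar f (pullback.fst f (bc k k') ⁻¹ᵁ U) b := fun b ↦
    ConcreteCategory.congr_hom
      ((CommRingCat.isPushout_tensorProduct k Γ(X, U) k').inr_isoIsPushout_hom _ _ hpush) b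
  have h3 : ∀ (a : Γ(X, U)) (b : k'), e.hom (a ⊗ₜ[k] b : TensorProduct k Γ(X, U) k') =
      (pullback.fst f (bc k k')).app U a * scalar f (pullback.fst f (bc k k') ⁻¹ᵁ U) b := by
    intro a b
    have : (a ⊗ₜ[k] b : TensorProduct k Γ(X, U) k') =
        Algebra.TensorProduct.includeLeftRingHom a * Algebra.TensorProduct.includeRight b := by
      simp
    rw [this, map_mul, h1, h2]
  have h4 : ∀ (σ : k' ≃ₐ[k] k') (t : TensorProduct k Γ(X, U) k'),
      e.hom (VarietyB.BaseExt2.galHom k Γ(X, U) k' σ t) =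
        fn (tw f σ) (le_tw f σ U) (e.hom t) := by
    intro σ t
    induction t using TensorProduct.induction_on with
    | zero => simp only [map_zero]
    | tmul a b => rw [VarietyB.BaseExt2.galHom_tmul, h3, h3, map_mul, fn_tw_app, fn_tw_scalar]
    | add x y hx hy => simp only [map_add, hx, hy]
  have h5 : ∀ t : TensorProduct k Γ(X, U) k', e.inv (e.hom t) = t := fun t ↦ by simp
  obtain ⟨t, rfl⟩ : ∃ t, e.hom t = g := ⟨e.inv g, by simp⟩
  let _ := VarietyB.BaseExt2.galAction k Γ(X, U) k'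
  have := VarietyB.BaseExt2.isInvariant k Γ(X, U) k'
  obtain ⟨a, ha⟩ := Algebra.IsInvariant.isInvariant (A := Γ(X, U)) (G := k' ≃ₐ[k] k') t
    (fun σ ↦ by
      have h6 := congrArg e.inv ((h4 σ t).trans (hg σ))
      rw [h5] at h6
      refine Eq.trans ?_ (h6.trans (h5 t))
      rfl)
  refine ⟨a, ?_⟩
  rw [← h1, ← ha]
  rfl

/-- Invariant functions on `π⁻¹ U` come from `U`. -/
lemma exists_of_invariant [IsGalois k k'] {U : X.Opens}
    (g : Γ(pullback f (bc k k'), pullback.fst f (bc k k') ⁻¹ᵁ U))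
    (hg : ∀ σ : k' ≃ₐ[k] k', fn (tw f σ) (le_tw f σ U) g = g) :
    ∃ a, (pullback.fst f (bc k k')).app U a = g := by
  have h : ∀ x : U, ∃ V : X.Opens, IsAffineOpen V ∧ V ≤ U ∧ x.1 ∈ V := by
    intro x
    obtain ⟨_, ⟨V, hV, rfl⟩, hxV, hVU⟩ := X.isBasis_affineOpens.exists_subset_of_mem_open
      x.2 U.isOpen
    exact ⟨V, hV, hVU, hxV⟩
  choose V hV hVU hxV using h
  have h1 : ∀ x, ∃ a : Γ(X, V x), (pullback.fst f (bc k k')).app (V x) a =
      ores ((pullback.fst f (bc k k')).preimage_mono (hVU x)) g := by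
    intro x
    refine exists_of_invariant_qcqs (hV x).isCompact (hV x).isQuasiSeparated _ fun σ ↦ ?_
    rw [fn_ores, ← ores_fn (tw f σ) (le_tw f σ U)
      ((pullback.fst f (bc k k')).preimage_mono (hVU x)), hg]
  choose a ha using h1
  obtain ⟨b, hb⟩ := ores_glue (V := U) V hVU (fun x hx ↦ Opens.mem_iSup.2 ⟨⟨x, hx⟩, hxV ⟨x, hx⟩⟩) a
    (fun x y ↦ by
      apply app_injective (k' := k') f
      rw [app_ores, app_ores, ha, ha, ores_ores, ores_ores])
  refine ⟨b, ?_⟩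
  refine ores_ext (fun x ↦ (pullback.fst f (bc k k')) ⁻¹ᵁ (V x))
    (fun x ↦ (pullback.fst f (bc k k')).preimage_mono (hVU x)) ?_ fun x ↦ ?_
  · rw [← Scheme.Hom.preimage_iSup]
    exact (pullback.fst f (bc k k')).preimage_mono
      (fun x hx ↦ Opens.mem_iSup.2 ⟨⟨x, hx⟩, hxV ⟨x, hx⟩⟩)
  · rw [← app_ores _ (hVU x), hb, ha]

end Invariants

/-! ### Invariant opens -/

lemma exists_closed_eq_aux [X.Over (Spec (CommRingCat.of k))]
    (hf : f = X ↘ Spec (CommRingCat.of k)) [IsGalois k k']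
    (T' : Set (pullback f (bc k k') : Scheme.{u}))
    (hT : IsClosed T') (hW : ∀ (σ : k' ≃ₐ[k] k') (y : (pullback f (bc k k') : Scheme.{u})),
      y ∈ T' → tw f σ y ∈ T') :
    ∃ T : Set X, IsClosed T ∧ pullback.fst f (bc k k') ⁻¹' T = T' := by
  subst hf
  refine VarietyB.BaseExt3.exists_closed_preimage_eq k X k' T' hT ?_
  rintro σ _ ⟨y, hy, rfl⟩
  exact hW σ y hy

/-- A Galois-invariant closed subset is a preimage of a closed subset. -/
lemma exists_closed_eq [IsGalois k k'] (T' : Set (pullback f (bc k k') : Scheme.{u}))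
    (hT : IsClosed T') (hW : ∀ (σ : k' ≃ₐ[k] k') (y : (pullback f (bc k k') : Scheme.{u})),
      y ∈ T' → tw f σ y ∈ T') :
    ∃ T : Set X, IsClosed T ∧ pullback.fst f (bc k k') ⁻¹' T = T' :=
  @exists_closed_eq_aux k k' _ _ _ X f ⟨f⟩ rfl _ T' hT hW

lemma mem_pre {X Y : Scheme.{u}} (g : X ⟶ Y) (V : Y.Opens) (y : X) :
    y ∈ g ⁻¹ᵁ V ↔ g y ∈ V := Iff.rfl

/-- Galois-invariant opens are preimages of opens. -/
lemma exists_open_eq [IsGalois k k'] (W : (pullback f (bc k k')).Opens)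
    (hW : ∀ σ : k' ≃ₐ[k] k', W ≤ tw f σ ⁻¹ᵁ W) :
    ∃ V : X.Opens, pullback.fst f (bc k k') ⁻¹ᵁ V = W := by
  have hinv : ∀ (σ : k' ≃ₐ[k] k') (y : (pullback f (bc k k') : Scheme.{u})),
      y ∈ (W : Set (pullback f (bc k k') : Scheme.{u}))ᶜ →
        tw f σ y ∈ (W : Set (pullback f (bc k k') : Scheme.{u}))ᶜ := by
    intro σ y hy hy'
    apply hy
    have h2 : tw f σ y ∈ tw f σ⁻¹ ⁻¹ᵁ W := hW σ⁻¹ hy'
    have h3 := (mem_pre (tw f σ⁻¹) W _).1 h2
    rw [tw_inv_apply] at h3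
    exact h3
  obtain ⟨T, hT, hTW⟩ := exists_closed_eq (k' := k') f
    ((W : Set (pullback f (bc k k') : Scheme.{u}))ᶜ) W.isOpen.isClosed_compl hinv
  refine ⟨⟨Tᶜ, hT.isOpen_compl⟩, Opens.ext (Set.ext fun y ↦ ?_)⟩
  have h1 : y ∈ pullback.fst f (bc k k') ⁻¹' T ↔ y ∉ W := by rw [hTW]; rfl
  have h2 : y ∈ pullback.fst f (bc k k') ⁻¹ᵁ (⟨Tᶜ, hT.isOpen_compl⟩ : X.Opens) ↔
    y ∉ pullback.fst f (bc k k') ⁻¹' T := Iff.rfl
  exact h2.trans ((not_congr h1).trans not_not)

/-! ### The rational point -/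

variable {f}

/-- The point of `X ×_k Spec k'` given by a rational point. -/
noncomputable def ratPt (x : Spec (CommRingCat.of k) ⟶ X) (hx : x ≫ f = 𝟙 _) (k' : Type u)
    [Field k'] [Algebra k k'] : Spec (CommRingCat.of k') ⟶ pullback f (bc k k') :=
  pullback.lift (bc k k' ≫ x) (𝟙 _) (by rw [Category.assoc, hx, Category.comp_id, Category.id_comp])

variable (x : Spec (CommRingCat.of k) ⟶ X) (hx : x ≫ f = 𝟙 _)

lemma ratPt_fst : ratPt x hx k' ≫ pullback.fst f (bc k k') = bc k k' ≫ x :=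
  pullback.lift_fst _ _ _

lemma ratPt_snd : ratPt x hx k' ≫ pullback.snd f (bc k k') = 𝟙 _ :=
  pullback.lift_snd _ _ _

lemma ratPt_tw (σ : k' ≃ₐ[k] k') : ratPt x hx k' ≫ tw f σ = spAut σ ≫ ratPt x hx k' := by
  apply pullback.hom_ext
  · rw [Category.assoc, tw_fst, ratPt_fst, Category.assoc, ratPt_fst, ← Category.assoc, spAut_bc]
  · rw [Category.assoc, tw_snd, ← Category.assoc, ratPt_snd, Category.assoc, ratPt_snd,
      Category.id_comp, Category.comp_id]

lemma ratPt_appTop_injective [CompactSpace X] [QuasiSeparatedSpace X] [IsIso f.appTop] :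
    Function.Injective (ratPt x hx k').appTop := by
  have h1 := isPushout_sections (k' := k') f (U := ⊤) isCompact_univ isQuasiSeparated_univ
  have h2 : IsIso (f.appLE ⊤ ⊤ le_top) := by
    have : f.appLE ⊤ ⊤ le_top = f.appTop := by
      rw [Scheme.Hom.appTop, Scheme.Hom.app_eq_appLE]
      rfl
    rw [this]
    infer_instance
  have h3 : IsIso ((pullback.snd f (bc k k')).appLE ⊤ ((pullback.fst f (bc k k')) ⁻¹ᵁ ⊤) le_top) :=
    h1.isIso_inr_of_isIso
  have h4 : IsIso ((pullback.snd f (bc k k')).appTop) := by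
    have : (pullback.snd f (bc k k')).appLE ⊤ ((pullback.fst f (bc k k')) ⁻¹ᵁ ⊤) le_top =
      (pullback.snd f (bc k k')).appTop := by
      rw [Scheme.Hom.appTop, Scheme.Hom.app_eq_appLE]
      rfl
    rw [← this]
    exact h3
  have h5 : (pullback.snd f (bc k k')).appTop ≫ (ratPt x hx k').appTop = 𝟙 _ := by
    rw [← Scheme.Hom.comp_appTop, ratPt_snd, Scheme.Hom.id_appTop]
  have h6 : (ratPt x hx k').appTop = inv (pullback.snd f (bc k k')).appTop := by
    rw [← cancel_epi (pullback.snd f (bc k k')).appTop, h5, IsIso.hom_inv_id]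
  rw [h6]
  exact (ConcreteCategory.bijective_of_isIso _).1

end Groth.Agent.Picfga.GaloisAct
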