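import Mathlib.FieldTheory.KrullTopology
import Mathlib.FieldTheory.Galois.Infinite
import Mathlib.LinearAlgebra.LinearIndependent.Lemmas
import Mathlib.LinearAlgebra.Dual.Lemmas

/-!
# Vectors of a smooth semilinear representation of a Galois group are spanned by invariants

`mem_span_invariants`: `K/k` Galois (possibly infinite), `V` a `K`-vector space, `R σ : V →+ V`
`σ`-semilinear with `R (σ ρ) = R σ R ρ`, and every vector fixed by an open subgroup.  Then `V` is
spanned over `K` by the vectors fixed by all `R σ`.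
-/

set_option autoImplicit false

open Topology

namespace Groth.Agent.Picfga.GaloisSpan

section Dedekind

variable {k E : Type*} [Field k] [Field E] [Algebra k E] [FiniteDimensional k E]

/-- The vectors `(σ b)_σ` span `E ^ Gal(E/k)`. -/
lemma span_range_eq_top :
    Submodule.span E (Set.range (fun (b : E) (σ : E ≃ₐ[k] E) ↦ σ b)) = ⊤ := by
  classical
  by_contra h
  obtain ⟨φ, hφ, hker⟩ := Submodule.exists_le_ker_of_lt_top _ (lt_top_iff_ne_top.2 h)
  apply hφ
  have hind : LinearIndependent E (fun σ : E ≃ₐ[k] E ↦ (σ : E → E)) := by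
    have h1 := linearIndependent_monoidHom E E
    exact h1.comp (fun σ : E ≃ₐ[k] E ↦ ((σ : E →+* E) : E →* E)) (fun σ τ hστ ↦ by
      ext x
      exact congr($hστ x))
  have h2 := Fintype.linearIndependent_iff.1 hind (fun σ ↦ φ (Pi.single σ 1)) (by
    ext b
    have h3 : φ (fun σ : E ≃ₐ[k] E ↦ σ b) = 0 := hker (Submodule.subset_span ⟨b, rfl⟩)
    rw [LinearMap.pi_apply_eq_sum_univ] at h3
    simp only [Finset.sum_apply, Pi.smul_apply, smul_eq_mul, Pi.zero_apply]
    rw [← h3]
    refine Finset.sum_congr rfl fun σ _ ↦ ?_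
    rw [smul_eq_mul, mul_comm]
    congr 2
    ext τ
    simp [Pi.single_apply, eq_comm])
  refine LinearMap.pi_ext' fun σ ↦ LinearMap.ext_ring ?_
  exact h2 σ

open Classical in
/-- There are `b_j, c_j` with `∑ c_j σ(b_j) = δ_{σ, 1}`. -/
lemma exists_coeff : ∃ c : E →₀ E, ∀ σ : E ≃ₐ[k] E,
    (c.sum fun b a ↦ a * σ b) = if σ = 1 then 1 else 0 := by
  classical
  have h : (Pi.single (1 : E ≃ₐ[k] E) (1 : E)) ∈
      Submodule.span E (Set.range (fun (b : E) (σ : E ≃ₐ[k] E) ↦ σ b)) := by
    rw [span_range_eq_top]; trivial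
  obtain ⟨c, hc⟩ := Finsupp.mem_span_range_iff_exists_finsupp.1 h
  refine ⟨c, fun σ ↦ ?_⟩
  have := congrFun hc σ
  rw [Finsupp.sum, Finset.sum_apply] at this
  rw [Finsupp.sum]
  simpa [Pi.single_apply] using this

end Dedekind

variable {k K V : Type*} [Field k] [Field K] [Algebra k K] [IsGalois k K] [AddCommGroup V]
  [Module K V] (R : (K ≃ₐ[k] K) → V →+ V)

/-- **Smooth semilinear representations are spanned by invariants.** -/
theorem mem_span_invariants (hR : ∀ σ (b : K) (v : V), R σ (b • v) = σ b • R σ v)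
    (hmul : ∀ σ ρ v, R (σ * ρ) v = R σ (R ρ v))
    (hsm : ∀ v, ∀ᶠ σ in 𝓝 (1 : K ≃ₐ[k] K), R σ v = v) (v : V) :
    v ∈ Submodule.span K {w | ∀ σ, R σ w = w} := by
  classical
  obtain ⟨E, hEfin, hEnorm, hE⟩ :=
    (krullTopology_mem_nhds_one_iff_of_normal k K _).1 (hsm v)
  have hlift := AlgEquiv.restrictNormalHom_surjective (F := k) (K₁ := E) (E := K)
  choose t ht using hlift
  have hres : ∀ (α : K ≃ₐ[k] K) (b : E), α b = (AlgEquiv.restrictNormalHom E α b : K) := by
    intro α b
    exact (AlgEquiv.restrictNormal_commutes α E b).symm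
  -- `R α (b • v)` only depends on the restriction of `α` to `E`
  have key : ∀ (α : K ≃ₐ[k] K), R α v = R (t (AlgEquiv.restrictNormalHom E α)) v := by
    intro α
    set β := t (AlgEquiv.restrictNormalHom E α) with hβ
    have h1 : β⁻¹ * α ∈ E.fixingSubgroup := by
      rw [IntermediateField.mem_fixingSubgroup_iff]
      intro x hx
      have h2 : AlgEquiv.restrictNormalHom E (β⁻¹ * α) = 1 := by
        rw [map_mul, map_inv, hβ, ht, inv_mul_cancel]
      rw [hres _ ⟨x, hx⟩, h2]
      rfl
    have h3 : R (β⁻¹ * α) v = v := hE h1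
    have h4 : α = β * (β⁻¹ * α) := by rw [mul_inv_cancel_left]
    rw [h4, hmul, h3]
  let T : E → V := fun b ↦ ∑ σ : E ≃ₐ[k] E, R (t σ) ((b : K) • v)
  have hT : ∀ b, T b ∈ Submodule.span K {w | ∀ σ, R σ w = w} := by
    intro b
    refine Submodule.subset_span fun ρ ↦ ?_
    simp only [T, map_sum]
    refine Fintype.sum_equiv (Equiv.mulLeft (AlgEquiv.restrictNormalHom E ρ)) _ _ fun σ ↦ ?_
    rw [← hmul, hR, hR, key (ρ * t σ), map_mul, ht, hres, map_mul, ht]
    simp only [Equiv.coe_mulLeft]
    rw [hres (t _), ht]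
  obtain ⟨c, hc⟩ := exists_coeff (k := k) (E := E)
  have hv : v = c.sum fun b a ↦ (a : K) • T b := by
    have h1 : ∀ b : E, T b = ∑ σ : E ≃ₐ[k] E, ((σ b : E) : K) • R (t σ) v := by
      intro b
      refine Finset.sum_congr rfl fun σ _ ↦ ?_
      rw [hR, hres, ht]
    simp only [h1, Finsupp.sum, Finset.smul_sum]
    rw [Finset.sum_comm]
    have h2 : ∀ σ : E ≃ₐ[k] E, ∑ b ∈ c.support, (c b : K) • ((σ b : E) : K) • R (t σ) v =
        (if σ = 1 then (1 : K) else 0) • R (t σ) v := by
      intro σ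
      have := hc σ
      rw [Finsupp.sum] at this
      have h3 := congrArg (algebraMap E K) this
      rw [map_sum] at h3
      simp only [← mul_smul]
      rw [← Finset.sum_smul]
      congr 1
      rw [show (if σ = 1 then (1 : K) else 0) = algebraMap E K (if σ = 1 then 1 else 0) by
        split_ifs <;> simp]
      exact h3
    rw [Finset.sum_congr rfl fun σ _ ↦ h2 σ]
    simp only [ite_smul, one_smul, zero_smul, Finset.sum_ite_eq', Finset.mem_univ, if_true]
    have h4 := key 1
    rw [map_one] at h4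
    rw [← h4]
    exact (Filter.Eventually.self_of_nhds (hsm v)).symm
  rw [hv]
  exact Submodule.sum_mem _ fun b _ ↦ Submodule.smul_mem _ _ (hT b)

end Groth.Agent.Picfga.GaloisSpan
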