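import Groth.Agent.Picfga.GaloisAct
import Groth.Agent.Picfga.GaloisSpan
import Groth.Agent.Smoothlim.LineSec

/-!
# Galois descent of invertible modules (Stacks 0CDT)

`exists_descent_galois`: `X` quasi-compact and quasi-separated over `k` with `Γ(X, O) = k` and a
rational point, `k'/k` Galois; an invertible module `L` on `X ×_k Spec k'` with `σ^* L ≅ L` for all
`σ` is the pullback of an invertible module on `X`.
-/

set_option autoImplicit false
set_option backward.isDefEq.respectTransparency false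

universe u

open CategoryTheory CategoryTheory.Limits AlgebraicGeometry TopologicalSpace Opposite Topology

namespace Groth.Agent.Picfga.GaloisDescent

open Groth.Agent.Fdesc Groth.Agent.Fdesc.LocGen Groth.Agent.Picfga.LineHom
  Groth.Agent.Picfga.LineDescent Groth.Agent.Picfga.FieldSections Groth.Agent.Picfga.Semi
  Groth.Agent.Picfga.GaloisAct

/-! ### Sections generating at a point -/

section GenAt

variable {Y : Scheme.{u}} {M : Y.Modules}

lemma isGen_iff {U : Y.Opens} (e : Γ(M, U)) : IsGen e ↔ Smoothlim.LineSec.IsGen e := Iff.rfl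

/-- `m` generates near `y`. -/
def GenAt {W : Y.Opens} (m : Γ(M, W)) (y : Y) : Prop :=
  ∃ (U : Y.Opens) (h : U ≤ W), y ∈ U ∧ IsGen (res M h m)

lemma exists_genAt (hM : PicF.IsInvertible M) {W : Y.Opens} (hW : IsAffineOpen W) {y : Y}
    (hy : y ∈ W) : ∃ m : Γ(M, W), GenAt m y := by
  obtain ⟨m, U, h, hyU, hg⟩ := Smoothlim.LineSec.exists_genAt hM hW hy
  exact ⟨m, U, h, hyU, hg⟩

/-- The coefficient of a section with respect to a generator detects generation. -/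
lemma genAt_iff {W U : Y.Opens} (h : U ≤ W) {e : Γ(M, U)} (he : IsGen e) {m : Γ(M, W)}
    {a : Γ(Y, U)} (ha : res M h m = a • e) {y : Y} (hy : y ∈ U) :
    GenAt m y ↔ y ∈ Y.basicOpen a := by
  have := Smoothlim.LineSec.genAt_iff (M := M) h ((isGen_iff e).1 he) (m := m) (a := a) ha hy
  exact this

/-- The open locus where a section generates. -/
def genOpen {W : Y.Opens} (m : Γ(M, W)) : Y.Opens :=
  sSup {U : Y.Opens | ∃ h : U ≤ W, IsGen (res M h m)}

lemma genOpen_le {W : Y.Opens} (m : Γ(M, W)) : genOpen m ≤ W :=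
  sSup_le fun _ ⟨h, _⟩ ↦ h

lemma le_genOpen {W U : Y.Opens} (m : Γ(M, W)) (h : U ≤ W) (hg : IsGen (res M h m)) :
    U ≤ genOpen m := le_sSup ⟨h, hg⟩

lemma isGen_genOpen {W : Y.Opens} (m : Γ(M, W)) : IsGen (res M (genOpen_le m) m) := by
  rw [isGen_iff_forall_exists]
  intro x hx
  obtain ⟨U, ⟨h, hg⟩, hxU⟩ := Opens.mem_sSup.1 hx
  exact ⟨U, le_genOpen m h hg, hxU, by rw [res_res]; exact hg⟩

lemma mem_genOpen {W : Y.Opens} {m : Γ(M, W)} {y : Y} : y ∈ genOpen m ↔ GenAt m y := by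
  constructor
  · intro h
    exact ⟨genOpen m, genOpen_le m, h, isGen_genOpen m⟩
  · rintro ⟨U, h, hy, hg⟩
    exact le_genOpen m h hg hy

lemma mem_basicOpen_iff {U : Y.Opens} {y : Y} (hy : y ∈ U) (a : Γ(Y, U)) :
    y ∈ Y.basicOpen a ↔ IsUnit (Y.presheaf.germ U y hy a) := Scheme.mem_basicOpen _ _ _ hy

/-- If a combination of sections generates at `y`, one of the sections generates at `y`. -/
lemma exists_genAt_of_mem_span {W : Y.Opens} {K : Type*} [Field K]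
    (φ : K →+* Γ(Y, W)) {S : Set Γ(M, W)} {m : Γ(M, W)} {y : Y} (hy : GenAt m y)
    (hm : m ∈ @Submodule.span K Γ(M, W) _ _ (Module.compHom _ φ) S) : ∃ w ∈ S, GenAt w y := by
  by_contra hcon
  push Not at hcon
  obtain ⟨U, h, hyU, hg⟩ := hy
  have key : ∀ v : Γ(M, W), GenAt v y ↔
      ∃ a : Γ(Y, U), res M h v = a • res M h m ∧ IsUnit (Y.presheaf.germ U y hyU a) := by
    intro v
    constructor
    · intro hv
      obtain ⟨a, ha⟩ := hg.exists_eq (res M h v)
      exact ⟨a, ha, (mem_basicOpen_iff hyU a).1 ((genAt_iff h hg ha hyU).1 hv)⟩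
    · rintro ⟨a, ha, hu⟩
      exact (genAt_iff h hg ha hyU).2 ((mem_basicOpen_iff hyU a).2 hu)
  have hnot : ∀ v : Γ(M, W), ¬ GenAt v y → ∀ a : Γ(Y, U), res M h v = a • res M h m →
      Y.presheaf.germ U y hyU a ∈ IsLocalRing.maximalIdeal (Y.presheaf.stalk y) := by
    intro v hv a ha
    rw [IsLocalRing.mem_maximalIdeal, mem_nonunits_iff]
    intro hu
    exact hv ((key v).2 ⟨a, ha, hu⟩)
  have hall : ∀ v ∈ @Submodule.span K Γ(M, W) _ _ (Module.compHom _ φ) S, ¬ GenAt v y := by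
    let _ : Module K Γ(M, W) := Module.compHom _ φ
    intro v hv
    induction hv using Submodule.span_induction with
    | mem x hx => exact hcon x hx
    | zero =>
      intro h0
      obtain ⟨a, ha, hu⟩ := (key 0).1 h0
      rw [map_zero] at ha
      have : (0 : Γ(Y, U)) = a := smul_inj hg le_rfl (by
        rw [res_refl, zero_smul, ← ha])
      rw [← this, map_zero] at hu
      exact not_isUnit_zero hu
    | add v w _ _ hv hw =>
      intro h0
      obtain ⟨a, ha, hu⟩ := (key (v + w)).1 h0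
      obtain ⟨b, hb⟩ := hg.exists_eq (res M h v)
      obtain ⟨c, hc⟩ := hg.exists_eq (res M h w)
      have : b + c = a := smul_inj hg le_rfl (by
        rw [res_refl, ← ha, map_add, hb, hc, add_smul])
      rw [← this, map_add] at hu
      have h1 := Ideal.add_mem _ (hnot v hv b hb) (hnot w hw c hc)
      rw [IsLocalRing.mem_maximalIdeal, mem_nonunits_iff] at h1
      exact h1 hu
    | smul c v _ hv =>
      intro h0
      obtain ⟨a, ha, hu⟩ := (key (c • v)).1 h0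
      obtain ⟨b, hb⟩ := hg.exists_eq (res M h v)
      have h2 : c • v = φ c • v := rfl
      have : ores h (φ c) * b = a := smul_inj hg le_rfl (by
        rw [res_refl, ← ha, h2, res_smul, hb, mul_smul])
      rw [← this, map_mul] at hu
      have h1 := Ideal.mul_mem_left _ (Y.presheaf.germ U y hyU (ores h (φ c))) (hnot v hv b hb)
      rw [IsLocalRing.mem_maximalIdeal, mem_nonunits_iff] at h1
      exact h1 hu
  exact hall m hm ⟨U, h, hyU, hg⟩

end GenAt

/-! ### Finite atlases -/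

lemma exists_finite_atlas {Y : Scheme.{u}} [CompactSpace Y] {M : Y.Modules}
    (hM : PicF.IsInvertible M) :
    ∃ (ι : Type u) (_ : Finite ι) (U : ι → Y.Opens) (e : ∀ i, Γ(M, U i)), ⨆ i, U i = ⊤ ∧
      (∀ i, IsAffineOpen (U i)) ∧ ∀ i, IsGen (e i) := by
  have h : ∀ y : Y, ∃ (U : Y.Opens) (e : Γ(M, U)), y ∈ U ∧ IsAffineOpen U ∧ IsGen e := by
    intro y
    obtain ⟨U, e, hy, he⟩ := (isInvertible_iff M).1 hM y
    obtain ⟨_, ⟨V, hV, rfl⟩, hyV, hVU⟩ :=
      Y.isBasis_affineOpens.exists_subset_of_mem_open hy U.isOpen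
    exact ⟨V, res M hVU e, hyV, hV, he.res hVU⟩
  choose U e hy hU he using h
  obtain ⟨t, ht⟩ := CompactSpace.elim_nhds_subcover (fun y ↦ (U y : Set Y))
    (fun y ↦ (U y).isOpen.mem_nhds (hy y))
  refine ⟨{y // y ∈ t}, inferInstance, fun y ↦ U y.1, fun y ↦ e y.1, ?_, fun y ↦ hU y.1,
    fun y ↦ he y.1⟩
  rw [eq_top_iff]
  intro z _
  have : z ∈ ⋃ y ∈ t, (U y : Set Y) := by rw [ht]; trivial
  simp only [Set.mem_iUnion] at this
  obtain ⟨y, hyt, hzy⟩ := this
  exact Opens.mem_iSup.2 ⟨⟨y, hyt⟩, hzy⟩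

/-! ### The descent -/

variable {k k' : Type u} [Field k] [Field k'] [Algebra k k'] [IsGalois k k'] {X : Scheme.{u}}
  {f : X ⟶ Spec (CommRingCat.of k)}

/-- The data: `Φ σ` are semilinear automorphisms forming a smooth action. -/
structure Act (L : (pullback f (bc k k')).Modules) where
  /-- The semilinear maps. -/
  Φ (σ : k' ≃ₐ[k] k') : SemiHom (tw f σ) L L
  mul (σ ρ : k' ≃ₐ[k] k') (U : X.Opens) (m : Γ(L, pullback.fst f (bc k k') ⁻¹ᵁ U)) :
    (Φ (σ * ρ)).map _ _ (le_tw f (σ * ρ) U) m =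
      (Φ σ).map _ _ (le_tw f σ U) ((Φ ρ).map _ _ (le_tw f ρ U) m)
  smooth (U : X.Opens) (hU : IsAffineOpen U) (m : Γ(L, pullback.fst f (bc k k') ⁻¹ᵁ U)) :
    ∀ᶠ σ in 𝓝 (1 : k' ≃ₐ[k] k'), (Φ σ).map _ _ (le_tw f σ U) m = m

namespace Act

variable {L : (pullback f (bc k k')).Modules} (A : Act L)

/-- Invariant sections over preimages of affine opens generate. -/
lemma exists_invariant_genAt (hL : PicF.IsInvertible L) {U : X.Opens} (hU : IsAffineOpen U)
    {y : (pullback f (bc k k') : Scheme.{u})} (hy : y ∈ pullback.fst f (bc k k') ⁻¹ᵁ U) :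
    ∃ w : Γ(L, pullback.fst f (bc k k') ⁻¹ᵁ U),
      (∀ σ, (A.Φ σ).map _ _ (le_tw f σ U) w = w) ∧ GenAt w y := by
  obtain ⟨m, hm⟩ := exists_genAt hL (hU.preimage (pullback.fst f (bc k k'))) hy
  let _ : Module k' Γ(L, pullback.fst f (bc k k') ⁻¹ᵁ U) :=
    Module.compHom _ (scalar f (pullback.fst f (bc k k') ⁻¹ᵁ U))
  have hspan := GaloisSpan.mem_span_invariants (k := k) (K := k')
    (fun σ ↦ (A.Φ σ).map _ _ (le_tw f σ U)) (fun σ b v ↦ by
      change (A.Φ σ).map _ _ (le_tw f σ U) (scalar f (pullback.fst f (bc k k') ⁻¹ᵁ U) b • v) =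
        scalar f (pullback.fst f (bc k k') ⁻¹ᵁ U) (σ b) • _
      rw [(A.Φ σ).map_smul, fn_tw_scalar]) (fun σ ρ v ↦ A.mul σ ρ U v)
    (fun v ↦ A.smooth U hU v) m
  obtain ⟨w, hw, hg⟩ := exists_genAt_of_mem_span
    (scalar f (pullback.fst f (bc k k') ⁻¹ᵁ U)) hm hspan
  exact ⟨w, hw, hg⟩

omit [IsGalois k k'] in
/-- The locus where an invariant section generates is invariant. -/
lemma genOpen_le_preimage {U : X.Opens} {w : Γ(L, pullback.fst f (bc k k') ⁻¹ᵁ U)}
    (hw : ∀ σ, (A.Φ σ).map _ _ (le_tw f σ U) w = w) (σ : k' ≃ₐ[k] k') :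
    genOpen w ≤ tw f σ ⁻¹ᵁ genOpen w := by
  have h1 : ∀ ρ : k' ≃ₐ[k] k', tw f ρ ⁻¹ᵁ genOpen w ≤ genOpen w := by
    intro ρ
    have hle : tw f ρ ⁻¹ᵁ genOpen w ≤ pullback.fst f (bc k k') ⁻¹ᵁ U :=
      ((tw f ρ).preimage_mono (genOpen_le w)).trans (tw_preimage f ρ U).le
    refine le_genOpen w hle ?_
    have h2 := (A.Φ ρ).map_gen (genOpen w) (tw f ρ ⁻¹ᵁ genOpen w) le_rfl _ (isGen_genOpen w)
    rw [(A.Φ ρ).map_res] at h2
    have h3 := (A.Φ ρ).res_map _ _ _ (le_tw f ρ U) hle w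
    rw [hw] at h3
    rw [h3]
    exact h2
  have h4 := (tw f σ).preimage_mono (h1 σ⁻¹)
  have h5 : tw f σ ⁻¹ᵁ (tw f σ⁻¹ ⁻¹ᵁ genOpen w) = genOpen w := by
    rw [← Scheme.Hom.comp_preimage, ← tw_mul, mul_inv_cancel, tw_one]
    rfl
  rw [h5] at h4
  exact h4

/-- Local invariant generators. -/
lemma exists_local (hL : PicF.IsInvertible L) (x : X) :
    ∃ (V : X.Opens) (w : Γ(L, pullback.fst f (bc k k') ⁻¹ᵁ V)), x ∈ V ∧ IsGen w ∧
      ∀ σ, (A.Φ σ).map _ _ (le_tw f σ V) w = w := by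
  obtain ⟨y, rfl⟩ := (pullback.fst f (bc k k')).surjective x
  obtain ⟨_, ⟨U, hU, rfl⟩, hxU, -⟩ := X.isBasis_affineOpens.exists_subset_of_mem_open
    (Set.mem_univ (pullback.fst f (bc k k') y)) isOpen_univ
  obtain ⟨w, hw, hg⟩ := A.exists_invariant_genAt hL hU (y := y) hxU
  obtain ⟨V, hV⟩ := exists_open_eq (k' := k') f (genOpen w) (A.genOpen_le_preimage hw)
  have hle : pullback.fst f (bc k k') ⁻¹ᵁ V ≤ pullback.fst f (bc k k') ⁻¹ᵁ U :=
    hV.le.trans (genOpen_le w)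
  refine ⟨V, res L hle w, ?_, ?_, fun σ ↦ ?_⟩
  · have h1 : y ∈ pullback.fst f (bc k k') ⁻¹ᵁ V := by
      rw [hV]
      exact mem_genOpen.2 hg
    exact h1
  · have h1 := (isGen_genOpen w).res hV.le
    rw [res_res] at h1
    exact h1
  · have h2 := (A.Φ σ).res_map _ _ _ (le_tw f σ U) hle w
    rw [hw] at h2
    rw [(A.Φ σ).map_res, h2]

include A in
/-- Descent along a smooth action. -/
theorem exists_descent (hL : PicF.IsInvertible L) :
    ∃ M : X.Modules, PicF.IsInvertible M ∧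
      Nonempty ((Scheme.Modules.pullback (pullback.fst f (bc k k'))).obj M ≅ L) := by
  choose V w hxV hw hinv using fun x : X ↦ A.exists_local hL x
  have hcov : ⨆ x, V x = ⊤ := by
    rw [eq_top_iff]
    intro x _
    exact Opens.mem_iSup.2 ⟨x, hxV x⟩
  choose g' hg' using fun x y ↦ exists_smul (hw y)
    ((pullback.fst f (bc k k')).preimage_mono (inf_le_right : V x ⊓ V y ≤ V y))
    (res L ((pullback.fst f (bc k k')).preimage_mono (inf_le_left : V x ⊓ V y ≤ V x)) (w x))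
  have hfix : ∀ x y (σ : k' ≃ₐ[k] k'), fn (tw f σ) (le_tw f σ (V x ⊓ V y)) (g' x y) = g' x y := by
    intro x y σ
    apply smul_inj (hw y)
      ((pullback.fst f (bc k k')).preimage_mono (inf_le_right : V x ⊓ V y ≤ V y))
    have h1 := congrArg ((A.Φ σ).map _ _ (le_tw f σ (V x ⊓ V y))) (hg' x y)
    rw [(A.Φ σ).map_smul, (A.Φ σ).map_res, (A.Φ σ).map_res] at h1
    have h2 := (A.Φ σ).res_map _ _ _ (le_tw f σ (V x))
      ((pullback.fst f (bc k k')).preimage_mono (inf_le_left : V x ⊓ V y ≤ V x)) (w x)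
    have h3 := (A.Φ σ).res_map _ _ _ (le_tw f σ (V y))
      ((pullback.fst f (bc k k')).preimage_mono (inf_le_right : V x ⊓ V y ≤ V y)) (w y)
    rw [hinv] at h2 h3
    rw [← h2, ← h3] at h1
    exact h1.trans (hg' x y).symm
  choose g hg using fun x y ↦ exists_of_invariant (f := f) (g' x y) (hfix x y)
  obtain ⟨M, m, φ, hm, -, -⟩ := LineDescent.exists_descent (pullback.fst f (bc k k')) V hcov w hw
    (fun V ↦ app_injective f V) g (fun x y ↦ by rw [hg, hg'])
  exact ⟨M, isInvertible_of_gens hcov hm, ⟨φ⟩⟩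

end Act

/-- **Construction of the action.** -/
lemma exists_act [CompactSpace X] [QuasiSeparatedSpace X] [IsIso f.appTop]
    (x : Spec (CommRingCat.of k) ⟶ X) (hx : x ≫ f = 𝟙 _)
    {L : (pullback f (bc k k')).Modules} (hL : PicF.IsInvertible L)
    (hθ : ∀ σ : k' ≃ₐ[k] k', Nonempty ((Scheme.Modules.pullback (tw f σ)).obj L ≅ L)) :
    Nonempty (Act L) := by
  have hcomp : CompactSpace (pullback f (bc k k') : Scheme.{u}) :=
    QuasiCompact.compactSpace_of_compactSpace (pullback.fst f (bc k k'))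
  have hqs : QuasiSeparatedSpace (pullback f (bc k k') : Scheme.{u}) :=
    quasiSeparatedSpace_of_quasiSeparated (pullback.fst f (bc k k'))
  obtain ⟨ι, _, U, e, hcov, hU, he⟩ := exists_finite_atlas hL
  -- the base point
  obtain ⟨i₀, hi₀⟩ : ∃ i, ⊤ ≤ ratPt x hx k' ⁻¹ᵁ U i := by
    have h1 : ratPt x hx k' default ∈ ⨆ i, U i := by rw [hcov]; trivial
    obtain ⟨i, hi⟩ := Opens.mem_iSup.1 h1
    refine ⟨i, fun z _ ↦ ?_⟩
    have hz : z = default := Subsingleton.elim _ _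
    rw [hz]
    exact hi
  have hinj := ratPt_appTop_injective (k' := k') x hx
  choose Φ hΦ using fun σ : k' ≃ₐ[k] k' ↦ exists_norm (s := ratPt x hx k')
    (pullback.snd f (bc k k')) (ratPt_snd x hx) hi₀ (he i₀) (ratPt_tw x hx σ)
    (SemiHom.ofIso (tw f σ) (hθ σ).some)
  -- transition functions
  choose g hg using fun i j ↦ exists_smul (he j) (inf_le_right : U i ⊓ U j ≤ U j)
    (res L (inf_le_left : U i ⊓ U j ≤ U i) (e i))
  have hUUc : ∀ i j, IsCompact ((U i ⊓ U j : (pullback f (bc k k')).Opens) :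
      Set (pullback f (bc k k') : Scheme.{u})) := fun i j ↦
    QuasiSeparatedSpace.inter_isCompact _ _ (U i).isOpen (hU i).isCompact (U j).isOpen
      (hU j).isCompact
  have hev1 : ∀ᶠ σ in 𝓝 (1 : k' ≃ₐ[k] k'), ∀ i, U i ≤ tw f σ ⁻¹ᵁ U i :=
    Filter.eventually_all.2 fun i ↦ eventually_le f (hU i).isCompact
  have hev2 : ∀ᶠ σ in 𝓝 (1 : k' ≃ₐ[k] k'), ∀ i j (V : (pullback f (bc k k')).Opens)
      (h : V ≤ tw f σ ⁻¹ᵁ (U i ⊓ U j)) (h' : V ≤ U i ⊓ U j),
      fn (tw f σ) h (g i j) = ores h' (g i j) :=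
    Filter.eventually_all.2 fun i ↦ Filter.eventually_all.2 fun j ↦
      eventually_fn_eq f (hUUc i j) (g i j)
  have hev3 : ∀ᶠ σ in 𝓝 (1 : k' ≃ₐ[k] k'), ∀ i (h : U i ≤ tw f σ ⁻¹ᵁ U i),
      (Φ σ).map (U i) (U i) h (e i) = e i := by
    filter_upwards [hev1, hev2] with σ h1 h2 i h
    refine Norm.map_eq_self hinj hcov he i₀ hi₀ h1 (fun i j a ha ↦ ?_) (hΦ σ) i
    have h3 : g i j = a := smul_inj (he j) inf_le_right ((hg i j).trans ha)
    rw [← h3, h2 i j _ _ le_rfl, ores_refl]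
  refine ⟨⟨Φ, fun σ ρ V m ↦ ?_, fun V hV m ↦ ?_⟩⟩
  · have h1 := Norm.comp (ratPt_tw x hx σ) (ratPt_tw x hx ρ) hi₀ (he i₀) (hΦ ρ) (hΦ σ)
      (tw f (σ * ρ)) (tw_mul f σ ρ)
    have h2 := Norm.unique hL hinj hi₀ (he i₀) (ratPt_tw x hx (σ * ρ)) h1 (hΦ (σ * ρ)) _ _
      (le_tw f (σ * ρ) V) m
    rw [h2, SemiHom.comp_map _ _ _ _ _ _ _ (le_tw f ρ V) (le_tw f σ V)]
  · -- smoothness
    choose a ha using fun i ↦ exists_smul (he i)
      (inf_le_right : pullback.fst f (bc k k') ⁻¹ᵁ V ⊓ U i ≤ U i) (res L inf_le_left m)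
    have hc : ∀ i, IsCompact ((pullback.fst f (bc k k') ⁻¹ᵁ V ⊓ U i :
        (pullback f (bc k k')).Opens) : Set (pullback f (bc k k') : Scheme.{u})) := fun i ↦
      QuasiSeparatedSpace.inter_isCompact _ _ (Opens.isOpen _)
        (hV.preimage (pullback.fst f (bc k k'))).isCompact (U i).isOpen (hU i).isCompact
    have hev4 : ∀ᶠ σ in 𝓝 (1 : k' ≃ₐ[k] k'), ∀ i (W : (pullback f (bc k k')).Opens)
        (h : W ≤ tw f σ ⁻¹ᵁ (pullback.fst f (bc k k') ⁻¹ᵁ V ⊓ U i))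
        (h' : W ≤ pullback.fst f (bc k k') ⁻¹ᵁ V ⊓ U i),
        fn (tw f σ) h (a i) = ores h' (a i) :=
      Filter.eventually_all.2 fun i ↦ eventually_fn_eq f (hc i) (a i)
    filter_upwards [hev1, hev3, hev4] with σ h1 h3 h4
    refine res_ext L (fun i ↦ pullback.fst f (bc k k') ⁻¹ᵁ V ⊓ U i) (fun i ↦ inf_le_left)
      (cover_inf hcov _) fun i ↦ ?_
    have hle : pullback.fst f (bc k k') ⁻¹ᵁ V ⊓ U i ≤
        tw f σ ⁻¹ᵁ (pullback.fst f (bc k k') ⁻¹ᵁ V ⊓ U i) := inf_le_inf (le_tw f σ V) (h1 i)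
    have h5 := congrArg ((Φ σ).map _ _ hle) (ha i)
    rw [(Φ σ).map_smul, (Φ σ).map_res, (Φ σ).map_res, h4 i _ _ le_rfl, ores_refl] at h5
    have h6 := (Φ σ).res_map _ _ _ (h1 i)
      (inf_le_right : pullback.fst f (bc k k') ⁻¹ᵁ V ⊓ U i ≤ U i) (e i)
    rw [h3] at h6
    rw [(Φ σ).res_map, ← h5, ← h6, ha]

/-- **Galois descent of invertible modules** (Stacks 0CDT). -/
theorem exists_descent_galois [CompactSpace X] [QuasiSeparatedSpace X] [IsIso f.appTop]
    (x : Spec (CommRingCat.of k) ⟶ X) (hx : x ≫ f = 𝟙 _)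
    {L : (pullback f (bc k k')).Modules} (hL : PicF.IsInvertible L)
    (hθ : ∀ σ : k' ≃ₐ[k] k', Nonempty ((Scheme.Modules.pullback (tw f σ)).obj L ≅ L)) :
    ∃ M : X.Modules, PicF.IsInvertible M ∧
      Nonempty ((Scheme.Modules.pullback (pullback.fst f (bc k k'))).obj M ≅ L) := by
  obtain ⟨A⟩ := exists_act x hx hL hθ
  exact A.exists_descent hL

end Groth.Agent.Picfga.GaloisDescent
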