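import Groth.Agent.Picfga.ProjGlue2
import Mathlib.RingTheory.Localization.Away.AdjoinRoot
import Mathlib.RingTheory.Flat.Stability
import Mathlib.RingTheory.RingHom.Flat
import Mathlib.RingTheory.RingHom.FinitePresentation

/-!
# Homogeneous localizations at `w = u v` with `deg v = deg u + 1`

`(A_w)_0` is an algebra retract of `A_w`; hence it is flat and finitely presented over the base when
`A` is.
-/

set_option autoImplicit false

universe u

open HomogeneousLocalization DirectSum

namespace Groth.Agent.Picfga.GrAway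

/-- A retract of a finitely presented algebra is finitely presented. -/
theorem finitePresentation_of_retract {R C B : Type*} [CommRing R] [CommRing C] [CommRing B]
    [Algebra R C] [Algebra R B] [Algebra.FinitePresentation R C] (i : B →ₐ[R] C) (ρ : C →ₐ[R] B)
    (h : ∀ b, ρ (i b) = b) : Algebra.FinitePresentation R B := by
  classical
  obtain ⟨S, hS⟩ := (inferInstance : Algebra.FiniteType R C).out
  have hsurj : Function.Surjective ρ := fun b => ⟨i b, h b⟩
  refine Algebra.FinitePresentation.of_surjective hsurj ⟨S.image (fun c => c - i (ρ c)), ?_⟩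
  apply le_antisymm
  · rw [Ideal.span_le]
    intro x hx
    rw [Finset.coe_image] at hx
    obtain ⟨c, -, rfl⟩ := hx
    rw [SetLike.mem_coe, RingHom.mem_ker]
    simp [h]
  · intro x hx
    set I := Ideal.span ((S.image (fun c => c - i (ρ c)) : Finset C) : Set C) with hI
    have key : (Ideal.Quotient.mkₐ R I) = (Ideal.Quotient.mkₐ R I).comp (i.comp ρ) := by
      apply AlgHom.ext_of_adjoin_eq_top hS
      intro c hc
      change Ideal.Quotient.mk I c = Ideal.Quotient.mk I (i (ρ c))
      rw [Ideal.Quotient.eq]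
      apply Ideal.subset_span
      rw [Finset.coe_image]
      exact ⟨c, hc, rfl⟩
    have h1 : Ideal.Quotient.mk I x = Ideal.Quotient.mk I (i (ρ x)) := congr($key x)
    have h2 : ρ x = 0 := hx
    rw [h2, map_zero, map_zero, Ideal.Quotient.eq_zero_iff_mem] at h1
    exact h1

section

variable {R A : Type u} [CommRing R] [CommRing A] [Algebra R A] (𝒜 : ℕ → Submodule R A)
  [GradedAlgebra 𝒜] {d : ℕ} {u v : A} (hu : u ∈ 𝒜 d) (hv : v ∈ 𝒜 (d + 1))

include hu hv in
lemma w_mem : u * v ∈ 𝒜 (d + (d + 1)) := SetLike.mul_mem_graded hu hv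

include hu in
lemma num_mem (m : ℕ) {a : A} (ha : a ∈ 𝒜 m) : a * u ^ (2 * m) ∈ 𝒜 (m • (d + (d + 1))) := by
  have h1 := SetLike.mul_mem_graded ha (SetLike.pow_mem_graded (2 * m) hu)
  have h2 : m + (2 * m) • d = m • (d + (d + 1)) := by
    simp only [smul_eq_mul]; ring
  rwa [h2] at h1

lemma val_mk_mul {w : A} {e : ℕ} (hw : w ∈ 𝒜 e) (n : ℕ) (x : A) (hx : x ∈ 𝒜 (n • e)) :
    (Away.mk 𝒜 hw n x hx).val * algebraMap A (Localization.Away w) (w ^ n) =
      algebraMap A (Localization.Away w) x := by
  rw [Away.val_mk, Localization.mk_eq_mk']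
  exact IsLocalization.mk'_spec (Localization.Away w) x (⟨w ^ n, ⟨n, rfl⟩⟩ : Submonoid.powers w)

lemma isUnit_w_pow (m : ℕ) :
    IsUnit (algebraMap A (Localization.Away (u * v)) ((u * v) ^ m)) := by
  rw [map_pow]
  exact (IsLocalization.Away.algebraMap_isUnit (u * v)).pow m

/-- degree `m` part of the retraction. -/
noncomputable def retr (m : ℕ) : 𝒜 m →+ Away 𝒜 (u * v) where
  toFun a := Away.mk 𝒜 (w_mem 𝒜 hu hv) m (a * u ^ (2 * m)) (num_mem 𝒜 hu m a.2)
  map_zero' := by
    apply HomogeneousLocalization.val_injective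
    rw [Away.val_mk, val_zero, Localization.mk_eq_mk', ZeroMemClass.coe_zero, zero_mul,
      IsLocalization.mk'_zero]
  map_add' a b := by
    apply HomogeneousLocalization.val_injective
    rw [val_add, ← (isUnit_w_pow (u := u) (v := v) m).mul_left_inj, add_mul, val_mk_mul, val_mk_mul,
      val_mk_mul, Submodule.coe_add, add_mul, map_add]

lemma val_retr (m : ℕ) (a : 𝒜 m) : (retr 𝒜 hu hv m a).val * algebraMap A (Localization.Away (u * v)) ((u * v) ^ m) =
    algebraMap A (Localization.Away (u * v)) (a * u ^ (2 * m)) := by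
  exact val_mk_mul 𝒜 (w_mem 𝒜 hu hv) m (a * u ^ (2 * m)) (num_mem 𝒜 hu m a.2)

/-- The retraction on `A`. -/
noncomputable def retrHom : A →+* Away 𝒜 (u * v) :=
  (DirectSum.toSemiring (retr 𝒜 hu hv) (by
      apply HomogeneousLocalization.val_injective
      rw [← (isUnit_w_pow 0).mul_left_inj, val_retr, val_one]
      simp) (by
      intro m n a b
      apply HomogeneousLocalization.val_injective
      rw [← (isUnit_w_pow (m + n)).mul_left_inj, val_retr, val_mul]
      have h1 := val_retr 𝒜 hu hv m a
      have h2 := val_retr 𝒜 hu hv n b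
      have h3 : algebraMap A (Localization.Away (u * v)) ((u * v) ^ (m + n)) =
          algebraMap A (Localization.Away (u * v)) ((u * v) ^ m) *
          algebraMap A (Localization.Away (u * v)) ((u * v) ^ n) := by
        rw [← map_mul, pow_add]
      rw [h3]
      calc _ = algebraMap A (Localization.Away (u * v)) (a * u ^ (2 * m)) *
            algebraMap A (Localization.Away (u * v)) (b * u ^ (2 * n)) := by
            rw [← map_mul]
            refine congrArg _ ?_
            change (a : A) * b * _ = _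
            ring
        _ = _ := by rw [← h1, ← h2]; ring)).comp
    (decomposeRingEquiv 𝒜 : A →+* ⨁ i, 𝒜 i)

lemma retrHom_of_mem {m : ℕ} {a : A} (ha : a ∈ 𝒜 m) :
    retrHom 𝒜 hu hv a = retr 𝒜 hu hv m ⟨a, ha⟩ := by
  rw [retrHom, RingHom.comp_apply]
  change DirectSum.toSemiring _ _ _ (decompose 𝒜 a) = _
  rw [decompose_of_mem 𝒜 ha, toSemiring_of]

lemma val_retrHom {m : ℕ} {a : A} (ha : a ∈ 𝒜 m) :
    (retrHom 𝒜 hu hv a).val * algebraMap A (Localization.Away (u * v)) ((u * v) ^ m) =
    algebraMap A (Localization.Away (u * v)) (a * u ^ (2 * m)) := by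
  rw [retrHom_of_mem 𝒜 hu hv ha, val_retr]

lemma isUnit_retrHom : IsUnit (retrHom 𝒜 hu hv (u * v)) := by
  have hv2 : v ^ (2 * (d + (d + 1))) ∈ 𝒜 ((d + (d + 1) + 1) • (d + (d + 1))) := by
    have h1 := SetLike.pow_mem_graded (2 * (d + (d + 1))) hv
    have h2 : (2 * (d + (d + 1))) • (d + 1) = (d + (d + 1) + 1) • (d + (d + 1)) := by
      simp only [smul_eq_mul]; ring
    rwa [h2] at h1
  refine IsUnit.of_mul_eq_one (Away.mk 𝒜 (w_mem 𝒜 hu hv) (d + (d + 1) + 1) _ hv2) ?_
  apply HomogeneousLocalization.val_injective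
  have h1 := val_retrHom 𝒜 hu hv (w_mem 𝒜 hu hv)
  have h2 := val_mk_mul 𝒜 (w_mem 𝒜 hu hv) (d + (d + 1) + 1) _ hv2
  rw [val_mul, val_one,
    ← ((isUnit_w_pow (u := u) (v := v) (d + (d + 1))).mul
      (isUnit_w_pow (d + (d + 1) + 1))).mul_left_inj, one_mul]
  calc _ = ((retrHom 𝒜 hu hv (u * v)).val * algebraMap A (Localization.Away (u * v)) ((u * v) ^ (d + (d + 1)))) *
        ((Away.mk 𝒜 (w_mem 𝒜 hu hv) (d + (d + 1) + 1) _ hv2).val *
          algebraMap A (Localization.Away (u * v)) ((u * v) ^ (d + (d + 1) + 1))) := by ring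
    _ = _ := by
      rw [h1, h2, ← map_mul, ← map_mul]
      congr 1
      ring

/-- The retraction `A_w → (A_w)_0`. -/
noncomputable def retrLoc : Localization.Away (u * v) →+* Away 𝒜 (u * v) :=
  IsLocalization.Away.lift (u * v) (isUnit_retrHom 𝒜 hu hv)

lemma retrLoc_algebraMap (a : A) :
    retrLoc 𝒜 hu hv (algebraMap A (Localization.Away (u * v)) a) = retrHom 𝒜 hu hv a :=
  IsLocalization.Away.lift_eq _ _ _

lemma retrLoc_val (b : Away 𝒜 (u * v)) : retrLoc 𝒜 hu hv b.val = b := by
  obtain ⟨n, a, ha, rfl⟩ := Away.mk_surjective 𝒜 (w_mem 𝒜 hu hv) b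
  have h1 := val_mk_mul 𝒜 (w_mem 𝒜 hu hv) n a ha
  have h2 := congrArg (retrLoc 𝒜 hu hv) h1
  rw [map_mul, retrLoc_algebraMap, retrLoc_algebraMap, map_pow] at h2
  have hU := (isUnit_retrHom 𝒜 hu hv).pow n
  rw [← hU.mul_left_inj, h2]
  apply HomogeneousLocalization.val_injective
  rw [val_mul, val_pow]
  have h3 := val_retrHom 𝒜 hu hv ha
  have h4 := val_retrHom 𝒜 hu hv (w_mem 𝒜 hu hv)
  have hN : IsUnit (algebraMap A (Localization.Away (u * v)) ((u * v) ^ (n * (d + (d + 1)) + n))) :=
    isUnit_w_pow _
  rw [← hN.mul_left_inj]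
  have h5 : algebraMap A (Localization.Away (u * v)) ((u * v) ^ (n * (d + (d + 1)) + n)) =
      algebraMap A (Localization.Away (u * v)) ((u * v) ^ (n • (d + (d + 1)))) * algebraMap A (Localization.Away (u * v)) ((u * v) ^ n) := by
    rw [← map_mul, ← pow_add, smul_eq_mul]
  calc (retrHom 𝒜 hu hv a).val * algebraMap A (Localization.Away (u * v)) ((u * v) ^ (n * (d + (d + 1)) + n))
      = ((retrHom 𝒜 hu hv a).val * algebraMap A (Localization.Away (u * v)) ((u * v) ^ (n • (d + (d + 1))))) *
          algebraMap A (Localization.Away (u * v)) ((u * v) ^ n) := by rw [h5]; ring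
    _ = algebraMap A (Localization.Away (u * v)) (a * u ^ (2 * (n • (d + (d + 1)))) * (u * v) ^ n) := by
        rw [h3, ← map_mul]
    _ = algebraMap A (Localization.Away (u * v)) (a * (u * v * u ^ (2 * (d + (d + 1)))) ^ n) := by
        congr 1
        rw [smul_eq_mul]
        ring
    _ = algebraMap A (Localization.Away (u * v)) a * ((retrHom 𝒜 hu hv (u * v)).val *
          algebraMap A (Localization.Away (u * v)) ((u * v) ^ (d + (d + 1)))) ^ n := by
        rw [h4, map_mul, map_pow]
    _ = ((Away.mk 𝒜 (w_mem 𝒜 hu hv) n a ha).val * algebraMap A (Localization.Away (u * v)) ((u * v) ^ n)) *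
          ((retrHom 𝒜 hu hv (u * v)).val ^ n *
          algebraMap A (Localization.Away (u * v)) ((u * v) ^ (n * (d + (d + 1))))) := by
        rw [h1, mul_pow, ← map_pow, ← pow_mul, mul_comm (d + (d + 1)) n]
    _ = _ := by
        have h6 : algebraMap A (Localization.Away (u * v)) ((u * v) ^ (n * (d + (d + 1)) + n)) =
            algebraMap A (Localization.Away (u * v)) ((u * v) ^ (n * (d + (d + 1)))) *
            algebraMap A (Localization.Away (u * v)) ((u * v) ^ n) := by
          rw [← map_mul, pow_add]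
        rw [h6]
        ring

open Groth.Agent.Picfga.ProjGlue

lemma val_baseAway (w : A) (r : R) : (baseAway 𝒜 w r).val =
    algebraMap R (Localization.Away w) r := by
  have h1 : (baseAway 𝒜 w r).val = algebraMap A (Localization.Away w) (algebraMap R A r) := by
    rw [← Localization.mk_one_eq_algebraMap]
    rfl
  rw [h1, ← IsScalarTower.algebraMap_apply]

include hu hv in
/-- Flatness of `(A_w)_0` over the base. -/
theorem flat_baseAway [Module.Flat R A] : (baseAway 𝒜 (u * v)).Flat := by
  letI := (baseAway 𝒜 (u * v)).toAlgebra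
  have : Module.Flat R (Localization.Away (u * v)) := by
    have : Module.Flat A (Localization.Away (u * v)) := IsLocalization.flat _ (Submonoid.powers (u * v))
    exact Module.Flat.trans R A _
  have hi : ∀ r, algebraMap R (Away 𝒜 (u * v)) r = baseAway 𝒜 (u * v) r := fun _ => rfl
  let i : Away 𝒜 (u * v) →ₗ[R] Localization.Away (u * v) :=
    { toFun := fun b => b.val
      map_add' := fun a b => val_add _ _
      map_smul' := fun r b => by
        rw [Algebra.smul_def, hi, val_mul, val_baseAway, RingHom.id_apply, Algebra.smul_def] }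
  let ρ : Localization.Away (u * v) →ₗ[R] Away 𝒜 (u * v) :=
    { toFun := fun b => retrLoc 𝒜 hu hv b
      map_add' := fun a b => map_add _ _ _
      map_smul' := fun r b => by
        rw [Algebra.smul_def, map_mul, RingHom.id_apply, Algebra.smul_def, hi]
        congr 1
        rw [← val_baseAway 𝒜, retrLoc_val] }
  refine Module.Flat.of_retract i ρ (LinearMap.ext fun b => ?_)
  exact retrLoc_val 𝒜 hu hv b

include hu hv in
/-- Finite presentation of `(A_w)_0` over the base. -/
theorem finitePresentation_baseAway [Algebra.FinitePresentation R A] :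
    (baseAway 𝒜 (u * v)).FinitePresentation := by
  letI := (baseAway 𝒜 (u * v)).toAlgebra
  have : Algebra.FinitePresentation R (Localization.Away (u * v)) := by
    have : Algebra.FinitePresentation A (Localization.Away (u * v)) :=
      IsLocalization.Away.finitePresentation (u * v)
    exact Algebra.FinitePresentation.trans R A _
  have hi : ∀ r, algebraMap R (Away 𝒜 (u * v)) r = baseAway 𝒜 (u * v) r := fun _ => rfl
  let i : Away 𝒜 (u * v) →ₐ[R] Localization.Away (u * v) :=
    { algebraMap (Away 𝒜 (u * v)) (Localization.Away (u * v)) with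
      commutes' := fun r => val_baseAway 𝒜 (u * v) r }
  let ρ : Localization.Away (u * v) →ₐ[R] Away 𝒜 (u * v) :=
    { retrLoc 𝒜 hu hv with
      commutes' := fun r => by
        change retrLoc 𝒜 hu hv _ = baseAway 𝒜 _ r
        rw [← val_baseAway 𝒜, retrLoc_val] }
  have := finitePresentation_of_retract i ρ (fun b => by exact retrLoc_val 𝒜 hu hv b)
  exact this

end

end Groth.Agent.Picfga.GrAway
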