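import Mathlib.RingTheory.Finiteness.ModuleFinitePresentation
import Mathlib.RingTheory.GradedAlgebra.Basic
import Mathlib.RingTheory.MvPolynomial.Basic
import Mathlib.RingTheory.TensorProduct.Basic
import Mathlib.LinearAlgebra.TensorProduct.Tower
import Mathlib.LinearAlgebra.TensorProduct.RightExactness

/-!
# Finite presentation of graded algebras

A graded `R`-algebra `A` with finitely presented pieces and finitely many elements `s i` of degree `a`
such that in large degrees `A_k = ∑ s_i A_{k-a}` and the relations among the `s_i` are generated by the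
Koszul ones is finitely presented over `R`.
-/

set_option autoImplicit false

universe u v w

open TensorProduct

namespace Groth.Agent.Picfga.GrFP

section Abstract

variable {R S : Type*} [CommRing R] [CommRing S] {A : Type*} [CommRing A] [Algebra R A]
  {M : Type*} [AddCommGroup M] [Module R M] [Module S M]
  {ι : Type*} [Fintype ι]

lemma sum_antisymm [LinearOrder ι] {g : ι → ι → M} (h : ∀ i j, g i j + g j i = 0)
    (h' : ∀ i, g i i = 0) : ∑ i, ∑ j, g i j = 0 := by
  have h1 : ∑ i, ∑ j, g i j = ∑ i, ∑ j, (if i < j then g i j else 0) +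
      ∑ i, ∑ j, (if j < i then g i j else 0) := by
    rw [← Finset.sum_add_distrib]
    refine Finset.sum_congr rfl fun i _ => ?_
    rw [← Finset.sum_add_distrib]
    refine Finset.sum_congr rfl fun j _ => ?_
    rcases lt_trichotomy i j with hij | rfl | hij
    · rw [if_pos hij, if_neg hij.asymm, add_zero]
    · simp [h']
    · rw [if_neg hij.asymm, if_pos hij, zero_add]
  rw [h1]
  have h2 : ∑ i, ∑ j, (if j < i then g i j else 0) = ∑ i, ∑ j, (if i < j then g j i else 0) := by
    rw [Finset.sum_comm]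
  rw [h2, ← Finset.sum_add_distrib]
  refine Finset.sum_eq_zero fun i _ => ?_
  rw [← Finset.sum_add_distrib]
  refine Finset.sum_eq_zero fun j _ => ?_
  split_ifs with hij
  · exact h i j
  · rw [add_zero]

variable (𝒜 : ℕ → Submodule R A) (s : ι → A) (a N₀ : ℕ) (ha : 0 < a) (haN : 2 * a ≤ N₀)
  (K1 : ∀ K, N₀ ≤ K → ∀ x ∈ 𝒜 K, ∃ y : ι → A, (∀ i, y i ∈ 𝒜 (K - a)) ∧ x = ∑ i, s i * y i)
  (K2 : ∀ K, N₀ ≤ K → ∀ y : ι → A, (∀ i, y i ∈ 𝒜 (K - a)) → ∑ i, s i * y i = 0 →
    ∃ z : ι → ι → A, (∀ i j, z i j ∈ 𝒜 (K - 2 * a)) ∧ (∀ i j, z i j + z j i = 0) ∧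
      (∀ i, z i i = 0) ∧ ∀ i, y i = ∑ j, s j * z i j)
  (H : ℕ → Submodule R M) (ψ : M →ₗ[R] A) (T : ι → S) (K' : Submodule S M)
  (hT : ∀ i m, ψ (T i • m) = s i * ψ m)
  (hψ : ∀ k, ∀ y ∈ H k, ψ y ∈ 𝒜 k)
  (hK' : ∀ y ∈ K', ψ y = 0)
  (hb : ∀ k < N₀, ∀ y ∈ H k, ψ y = 0 → y ∈ K')
  (hb' : ∀ k < N₀, ∀ x ∈ 𝒜 k, ∃ y ∈ H k, ψ y = x)
  (hc : ∀ k, N₀ ≤ k → ∀ y ∈ H k, ∃ y' : ι → M, (∀ j, y' j ∈ H (k - a)) ∧ y = ∑ j, T j • y' j)
  (hd : ∀ k j, ∀ y ∈ H k, T j • y ∈ H (k + a))

include ha haN K1 hT hb' hd in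
theorem surj (k : ℕ) : ∀ x ∈ 𝒜 k, ∃ y ∈ H k, ψ y = x := by
  induction k using Nat.strong_induction_on with
  | _ k ih =>
    intro x hx
    rcases lt_or_ge k N₀ with hk | hk
    · exact hb' k hk x hx
    · obtain ⟨y, hy, rfl⟩ := K1 k hk x hx
      choose z hz hzy using fun i => ih (k - a) (by omega) (y i) (hy i)
      refine ⟨∑ i, T i • z i, Submodule.sum_mem _ fun i _ => ?_, ?_⟩
      · have := hd (k - a) i (z i) (hz i)
        rwa [Nat.sub_add_cancel (by omega)] at this
      · rw [map_sum]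
        refine Finset.sum_congr rfl fun i _ => ?_
        rw [hT, hzy]

include ha haN K1 K2 hT hb hb' hc hd hψ in
theorem inj (k : ℕ) : ∀ y ∈ H k, ψ y = 0 → y ∈ K' := by
  classical
  obtain ⟨n, ⟨e⟩⟩ := Finite.exists_equiv_fin ι
  let _ : LinearOrder ι := LinearOrder.lift' e e.injective
  induction k using Nat.strong_induction_on with
  | _ k ih =>
    intro y hy hy0
    rcases lt_or_ge k N₀ with hk | hk
    · exact hb k hk y hy hy0
    · obtain ⟨y', hy', rfl⟩ := hc k hk y hy
      have h1 : ∑ j, s j * ψ (y' j) = 0 := by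
        rw [← hy0, map_sum]
        exact Finset.sum_congr rfl fun j _ => (hT j _).symm
      obtain ⟨z, hz, hz1, hz2, hz3⟩ := K2 k hk (fun j => ψ (y' j)) (fun j => hψ _ _ (hy' j)) h1
      choose w hw hwz using fun i j => surj 𝒜 s a N₀ ha haN K1 H ψ T hT hb' hd (k - 2 * a)
        (z i j) (hz i j)
      let w' : ι → ι → M := fun i j => if i < j then w i j else if j < i then - w j i else 0
      have hw'1 : ∀ i j, w' i j + w' j i = 0 := by
        intro i j
        simp only [w']
        rcases lt_trichotomy i j with hij | rfl | hij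
        · rw [if_pos hij, if_neg hij.asymm, if_pos hij, add_neg_cancel]
        · simp
        · rw [if_neg hij.asymm, if_pos hij, if_pos hij, neg_add_cancel]
      have hw'2 : ∀ i, w' i i = 0 := fun i => by simp [w']
      have hw'3 : ∀ i j, ψ (w' i j) = z i j := by
        intro i j
        simp only [w']
        rcases lt_trichotomy i j with hij | rfl | hij
        · rw [if_pos hij, hwz]
        · simp [hz2]
        · rw [if_neg hij.asymm, if_pos hij, map_neg, hwz, neg_eq_iff_eq_neg]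
          exact eq_neg_of_add_eq_zero_left (hz1 j i)
      have hw'4 : ∀ i j, w' i j ∈ H (k - 2 * a) := by
        intro i j
        simp only [w']
        split_ifs
        · exact hw i j
        · exact neg_mem (hw j i)
        · exact zero_mem _
      have h2 : ∀ i, y' i - ∑ j, T j • w' i j ∈ K' := by
        intro i
        refine ih (k - a) (by omega) _ (Submodule.sub_mem _ (hy' i)
          (Submodule.sum_mem _ fun j _ => ?_)) ?_
        · have := hd (k - 2 * a) j (w' i j) (hw'4 i j)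
          rwa [show k - 2 * a + a = k - a by omega] at this
        · rw [map_sub, map_sum]
          simp only [hT, hw'3]
          rw [← hz3 i, sub_self]
      have h3 : ∑ j, T j • y' j = ∑ i, T i • (y' i - ∑ j, T j • w' i j) := by
        simp only [smul_sub, Finset.sum_sub_distrib]
        rw [eq_comm, sub_eq_self]
        simp only [Finset.smul_sum]
        apply sum_antisymm
        · intro i j
          rw [smul_smul, smul_smul, mul_comm (T j) (T i), ← smul_add, hw'1, smul_zero]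
        · intro i
          rw [hw'2, smul_zero, smul_zero]
      rw [h3]
      exact Submodule.sum_mem _ fun i _ => Submodule.smul_mem _ _ (h2 i)

end Abstract

section Main

variable {R : Type u} [CommRing R] {A : Type u} [CommRing A] [Algebra R A]
  (𝒜 : ℕ → Submodule R A) {ι : Type*} [Fintype ι] [DecidableEq ι]

open MvPolynomial

/-- `∏_{k < N} A_k`. -/
abbrev Gp (N : ℕ) : Type u := ∀ k : Fin N, 𝒜 k

variable (N : ℕ)

/-- the sum map `∏_{k < N} A_k → A` -/
noncomputable def sumMap : Gp 𝒜 N →ₗ[R] A :=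
  ∑ k : Fin N, (𝒜 k).subtype.comp (LinearMap.proj k)

lemma sumMap_single (k : Fin N) (x : 𝒜 k) : sumMap 𝒜 N (Pi.single k x) = x := by
  rw [sumMap, LinearMap.sum_apply, Finset.sum_eq_single k]
  · simp
  · intro l _ hl
    simp [Pi.single_eq_of_ne hl]
  · intro h; exact absurd (Finset.mem_univ _) h


section

variable {𝒜 N} (s : ι → A)

/-- `A` as an algebra over the polynomial ring. -/
noncomputable abbrev algS : Algebra (MvPolynomial ι R) A := (aeval s).toAlgebra

lemma isScalarTower_algS : letI := algS (R := R) s; IsScalarTower R (MvPolynomial ι R) A :=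
  letI := algS (R := R) s
  IsScalarTower.of_algebraMap_eq fun r => by
    change _ = aeval s (C r)
    rw [aeval_C]

end

variable (s : ι → A) (a : ℕ) [GradedAlgebra 𝒜]

/-- multiplication by `s j` -/
noncomputable def mulS (hs : ∀ i, s i ∈ 𝒜 a) (j : ι) (k : ℕ) : 𝒜 k →ₗ[R] 𝒜 (k + a) :=
  ((LinearMap.mulLeft R (s j)).comp (𝒜 k).subtype).codRestrict _ fun x => by
    have := SetLike.mul_mem_graded (hs j) x.2
    rwa [add_comm] at this

/-- the relations -/
noncomputable def rel (hs : ∀ i, s i ∈ 𝒜 a) (j : ι) (k : Fin N) :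
    𝒜 k →ₗ[R] MvPolynomial ι R ⊗[R] Gp 𝒜 N :=
  if h : (k : ℕ) + a < N then
    (TensorProduct.mk R (MvPolynomial ι R) (Gp 𝒜 N) (X j)).comp (LinearMap.single R _ k) -
    ((TensorProduct.mk R (MvPolynomial ι R) (Gp 𝒜 N) 1).comp
      (LinearMap.single R (fun k : Fin N => 𝒜 k) ⟨k + a, h⟩)).comp (mulS 𝒜 s a hs j k)
  else 0

lemma rel_apply (hs : ∀ i, s i ∈ 𝒜 a) (j : ι) (k : Fin N) (h : (k : ℕ) + a < N) (x : 𝒜 k) :
    rel 𝒜 N s a hs j k x = X j ⊗ₜ Pi.single k x -
      1 ⊗ₜ Pi.single (M := fun k : Fin N => 𝒜 k) ⟨k + a, h⟩ (mulS 𝒜 s a hs j k x) := by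
  rw [rel, dif_pos h]
  rfl

/-- the submodule of relations -/
noncomputable def relMod (hs : ∀ i, s i ∈ 𝒜 a) :
    Submodule (MvPolynomial ι R) (MvPolynomial ι R ⊗[R] Gp 𝒜 N) :=
  ⨆ p : ι × Fin N, Submodule.span (MvPolynomial ι R) (Set.range (rel 𝒜 N s a hs p.1 p.2))

lemma relMod_fg (hfin : ∀ k, Module.Finite R (𝒜 k)) (hs : ∀ i, s i ∈ 𝒜 a) :
    (relMod 𝒜 N s a hs).FG := by
  refine Submodule.fg_iSup _ fun p => ?_
  have h1 : (LinearMap.range (rel 𝒜 N s a hs p.1 p.2)).FG := by
    have := hfin p.2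
    rw [← Module.Finite.iff_fg]
    infer_instance
  obtain ⟨t, ht⟩ := h1
  refine ⟨t, ?_⟩
  rw [← Submodule.span_span_of_tower R (MvPolynomial ι R), ht]
  rfl

/-- the homogeneous pieces -/
noncomputable def hom (k : ℕ) : Submodule R (MvPolynomial ι R ⊗[R] Gp 𝒜 N) :=
  Submodule.span R {b | ∃ (α : ι →₀ ℕ) (m : Fin N) (x : 𝒜 m), a * α.degree + m = k ∧
    b = monomial α (1 : R) ⊗ₜ[R] (Pi.single m x : Gp 𝒜 N)}

lemma mem_hom {k : ℕ} (α : ι →₀ ℕ) (m : Fin N) (x : 𝒜 m) (h : a * α.degree + m = k) :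
    monomial α (1 : R) ⊗ₜ[R] (Pi.single m x : Gp 𝒜 N) ∈ hom 𝒜 (ι := ι) N a k :=
  Submodule.subset_span ⟨α, m, x, h, rfl⟩


omit [Fintype ι] [DecidableEq ι] in
lemma mono_mem (hs : ∀ i, s i ∈ 𝒜 a) (α : ι →₀ ℕ) :
    aeval s (monomial α (1 : R)) ∈ 𝒜 (a * α.degree) := by
  classical
  induction α using Finsupp.induction_linear with
  | zero =>
    simp only [map_zero, mul_zero]
    have : aeval s (monomial (0 : ι →₀ ℕ) (1 : R)) = 1 := by
      simp [aeval_monomial]
    rw [this]
    exact SetLike.one_mem_graded 𝒜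
  | add f g hf hg =>
    have h1 : (monomial (f + g) (1 : R)) = monomial f 1 * monomial g 1 := by
      rw [monomial_mul, mul_one]
    rw [h1, map_mul, map_add, mul_add]
    exact SetLike.mul_mem_graded hf hg
  | single i n =>
    have h1 : aeval s (monomial (Finsupp.single i n) (1 : R)) = s i ^ n := by
      simp [aeval_monomial]
    rw [h1]
    have h2 := SetLike.pow_mem_graded n (hs i)
    rw [smul_eq_mul, mul_comm] at h2
    rwa [Finsupp.degree_single]

omit [Fintype ι] [DecidableEq ι] in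
lemma sum_eq_zero_of_graded (t : Finset ℕ) (y : ℕ → A) (hy : ∀ k, y k ∈ 𝒜 k)
    (h : ∑ k ∈ t, y k = 0) (k : ℕ) (hk : k ∈ t) : y k = 0 := by
  classical
  have h1 := congrArg (fun z => (DirectSum.decompose 𝒜 z k : A)) h
  simp only [DirectSum.decompose_sum, DirectSum.decompose_zero, DirectSum.zero_apply] at h1
  rw [DFinsupp.finsetSum_apply, AddSubmonoidClass.coe_finsetSum, Finset.sum_eq_single k] at h1
  · rwa [DirectSum.decompose_of_mem_same 𝒜 (hy k)] at h1
  · intro l _ hl
    exact DirectSum.decompose_of_mem_ne 𝒜 (hy l) hl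
  · intro h; exact absurd hk h

/-- **Finite presentation** of a graded algebra with Koszul relations in large degrees. -/
theorem finitePresentation (hfp : ∀ k, Module.FinitePresentation R (𝒜 k))
    (hs : ∀ i, s i ∈ 𝒜 a) (ha : 0 < a) (haN : 2 * a ≤ N)
    (K1 : ∀ K, N ≤ K → ∀ x ∈ 𝒜 K, ∃ y : ι → A, (∀ i, y i ∈ 𝒜 (K - a)) ∧ x = ∑ i, s i * y i)
    (K2 : ∀ K, N ≤ K → ∀ y : ι → A, (∀ i, y i ∈ 𝒜 (K - a)) → ∑ i, s i * y i = 0 →
      ∃ z : ι → ι → A, (∀ i j, z i j ∈ 𝒜 (K - 2 * a)) ∧ (∀ i j, z i j + z j i = 0) ∧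
        (∀ i, z i i = 0) ∧ ∀ i, y i = ∑ j, s j * z i j) :
    Algebra.FinitePresentation R A := by
  letI := algS (R := R) s
  haveI := isScalarTower_algS (R := R) s
  let ψS : MvPolynomial ι R ⊗[R] Gp 𝒜 N →ₗ[MvPolynomial ι R] A :=
    (sumMap 𝒜 N).liftBaseChange (MvPolynomial ι R)
  have hψS : ∀ (p : MvPolynomial ι R) (m : Fin N) (x : 𝒜 m),
      ψS (p ⊗ₜ Pi.single m x) = aeval s p * x := by
    intro p m x
    rw [LinearMap.liftBaseChange_tmul, sumMap_single, Algebra.smul_def]
    rfl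
  let ψ : MvPolynomial ι R ⊗[R] Gp 𝒜 N →ₗ[R] A := ψS.restrictScalars R
  have hψψ : ∀ y, ψ y = ψS y := fun _ => rfl
  have hT : ∀ (i : ι) m, ψ ((X i : MvPolynomial ι R) • m) = s i * ψ m := by
    intro i m
    rw [hψψ, hψψ, map_smul, Algebra.smul_def]
    congr 1
    exact aeval_X _ _
  have hψ : ∀ k, ∀ y ∈ hom 𝒜 (ι := ι) N a k, ψ y ∈ 𝒜 k := by
    intro k y hy
    induction hy using Submodule.span_induction with
    | mem y hy =>
      obtain ⟨α, m, x, h, rfl⟩ := hy
      rw [hψψ, hψS, ← h]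
      exact SetLike.mul_mem_graded (mono_mem 𝒜 s a hs α) x.2
    | zero => rw [map_zero]; exact zero_mem _
    | add x y _ _ hx hy => rw [map_add]; exact add_mem hx hy
    | smul c x _ hx => rw [map_smul]; exact Submodule.smul_mem _ _ hx
  set K' := relMod 𝒜 N s a hs with hK'def
  have hrel : ∀ (j : ι) (k : Fin N) (h : (k : ℕ) + a < N) (x : 𝒜 k),
      (X j ⊗ₜ Pi.single k x - 1 ⊗ₜ Pi.single (M := fun k : Fin N => 𝒜 k) ⟨k + a, h⟩
        (mulS 𝒜 s a hs j k x) : MvPolynomial ι R ⊗[R] Gp 𝒜 N) ∈ K' := by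
    intro j k h x
    rw [← rel_apply]
    exact (le_iSup (fun p : ι × Fin N => Submodule.span (MvPolynomial ι R)
      (Set.range (rel 𝒜 N s a hs p.1 p.2))) (j, k)) (Submodule.subset_span ⟨x, rfl⟩)
  have hK' : K' ≤ LinearMap.ker ψS := by
    refine iSup_le fun p => ?_
    rw [Submodule.span_le]
    rintro _ ⟨x, rfl⟩
    rw [SetLike.mem_coe, LinearMap.mem_ker]
    by_cases h : (p.2 : ℕ) + a < N
    · rw [rel_apply 𝒜 N s a hs _ _ h, map_sub, hψS, hψS, aeval_X, map_one, one_mul, sub_eq_zero]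
      rfl
    · rw [rel, dif_neg h, LinearMap.zero_apply, map_zero]
  have key : ∀ (k : ℕ) (hk : k < N) (d : ℕ) (α : ι →₀ ℕ) (m : Fin N) (x : 𝒜 m), α.degree = d →
      a * α.degree + m = k → ∃ x' : 𝒜 k, (monomial α (1 : R) ⊗ₜ (Pi.single m x : Gp 𝒜 N) -
        1 ⊗ₜ (Pi.single (M := fun k : Fin N => 𝒜 k) ⟨k, hk⟩ x') : MvPolynomial ι R ⊗[R] Gp 𝒜 N)
          ∈ K' := by
    intro k hk d
    induction d with
    | zero =>
      intro α m x hα h
      have hα0 : α = 0 := by
        rwa [Finsupp.degree_eq_zero_iff] at hα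
      subst hα0
      have hm : (m : ℕ) = k := by simpa using h
      subst hm
      refine ⟨x, ?_⟩
      have : (monomial (0 : ι →₀ ℕ) (1 : R)) = 1 := rfl
      rw [this, sub_self]
      exact zero_mem _
    | succ d ih =>
      intro α m x hα h
      have hα0 : α ≠ 0 := by
        rintro rfl
        simp at hα
      obtain ⟨j, hj⟩ := Finsupp.ne_iff.mp hα0
      have hαe : α = Finsupp.single j 1 + (α - Finsupp.single j 1) := by
        rw [add_tsub_cancel_of_le]
        rw [Finsupp.single_le_iff]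
        exact Nat.one_le_iff_ne_zero.mpr hj
      set β := α - Finsupp.single j 1 with hβ
      have hβd : β.degree = d := by
        have := congrArg Finsupp.degree hαe
        rw [map_add, Finsupp.degree_single, hα] at this
        omega
      have hlt : (m : ℕ) + a < N := by
        have : a * α.degree = a * d + a := by rw [hα]; ring
        omega
      obtain ⟨x', hx'⟩ := ih β ⟨m + a, hlt⟩ (mulS 𝒜 s a hs j m x) hβd (by
        change a * β.degree + (m + a) = k
        rw [← h, hα, hβd]; ring)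
      refine ⟨x', ?_⟩
      have h1 := Submodule.smul_mem K' (monomial β (1 : R)) (hrel j m hlt x)
      rw [smul_sub, TensorProduct.smul_tmul', TensorProduct.smul_tmul', smul_eq_mul, smul_eq_mul,
        mul_one] at h1
      have h2 : monomial β (1 : R) * X j = monomial α 1 := by
        conv_rhs => rw [hαe]
        rw [X, monomial_mul, mul_one, add_comm]
      rw [h2] at h1
      have := add_mem h1 hx'
      rwa [sub_add_sub_cancel] at this
  have hb0 : ∀ (k : ℕ) (hk : k < N), ∀ y ∈ hom 𝒜 (ι := ι) N a k, ∃ x' : 𝒜 k,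
      (y - 1 ⊗ₜ (Pi.single (M := fun k : Fin N => 𝒜 k) ⟨k, hk⟩ x') :
        MvPolynomial ι R ⊗[R] Gp 𝒜 N) ∈ K' := by
    intro k hk y hy
    induction hy using Submodule.span_induction with
    | mem y hy =>
      obtain ⟨α, m, x, h, rfl⟩ := hy
      exact key k hk _ α m x rfl h
    | zero => exact ⟨0, by rw [Pi.single_zero, TensorProduct.tmul_zero, sub_zero]; exact zero_mem _⟩
    | add x y _ _ hx hy =>
      obtain ⟨x', hx'⟩ := hx
      obtain ⟨y', hy'⟩ := hy
      refine ⟨x' + y', ?_⟩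
      rw [Pi.single_add, TensorProduct.tmul_add, add_sub_add_comm]
      exact add_mem hx' hy'
    | smul c x _ hx =>
      obtain ⟨x', hx'⟩ := hx
      refine ⟨c • x', ?_⟩
      rw [Pi.single_smul, TensorProduct.tmul_smul, ← smul_sub]
      exact Submodule.smul_of_tower_mem K' c hx'
  have hb : ∀ k < N, ∀ y ∈ hom 𝒜 (ι := ι) N a k, ψ y = 0 → y ∈ K' := by
    intro k hk y hy hy0
    obtain ⟨x', hx'⟩ := hb0 k hk y hy
    have h1 := hK' hx'
    rw [LinearMap.mem_ker, map_sub, ← hψψ, hy0, hψS, map_one, one_mul, zero_sub, neg_eq_zero] at h1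
    have h2 : x' = 0 := Subtype.ext h1
    rwa [h2, Pi.single_zero, TensorProduct.tmul_zero, sub_zero] at hx'
  have hb' : ∀ k < N, ∀ x ∈ 𝒜 k, ∃ y ∈ hom 𝒜 (ι := ι) N a k, ψ y = x := by
    intro k hk x hx
    refine ⟨_, mem_hom 𝒜 N a (0 : ι →₀ ℕ) ⟨k, hk⟩ ⟨x, hx⟩ (by simp), ?_⟩
    rw [hψψ, hψS]
    simp [aeval_monomial]
  have hc : ∀ k, N ≤ k → ∀ y ∈ hom 𝒜 (ι := ι) N a k,
      ∃ y' : ι → MvPolynomial ι R ⊗[R] Gp 𝒜 N, (∀ j, y' j ∈ hom 𝒜 (ι := ι) N a (k - a)) ∧
        y = ∑ j, (X j : MvPolynomial ι R) • y' j := by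
    intro k hk y hy
    induction hy using Submodule.span_induction with
    | mem y hy =>
      obtain ⟨α, m, x, h, rfl⟩ := hy
      have hα0 : α ≠ 0 := by
        rintro rfl
        have := m.2
        simp at h
        omega
      obtain ⟨j, hj⟩ := Finsupp.ne_iff.mp hα0
      have hαe : α = Finsupp.single j 1 + (α - Finsupp.single j 1) := by
        rw [add_tsub_cancel_of_le]
        rw [Finsupp.single_le_iff]
        exact Nat.one_le_iff_ne_zero.mpr hj
      set β := α - Finsupp.single j 1 with hβ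
      have hβd : α.degree = 1 + β.degree := by
        have := congrArg Finsupp.degree hαe
        rwa [map_add, Finsupp.degree_single] at this
      refine ⟨Pi.single j (monomial β (1 : R) ⊗ₜ[R] (Pi.single m x : Gp 𝒜 N)), fun l => ?_, ?_⟩
      · by_cases hl : l = j
        · subst hl
          rw [Pi.single_eq_same]
          refine mem_hom 𝒜 N a β m x ?_
          rw [← h, hβd, mul_add, mul_one]
          omega
        · rw [Pi.single_eq_of_ne hl]
          exact zero_mem _
      · rw [Finset.sum_eq_single j, Pi.single_eq_same, TensorProduct.smul_tmul', smul_eq_mul]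
        · congr 1
          conv_lhs => rw [hαe]
          rw [X, monomial_mul, mul_one]
        · intro l _ hl
          rw [Pi.single_eq_of_ne hl, smul_zero]
        · intro h; exact absurd (Finset.mem_univ _) h
    | zero => exact ⟨0, fun j => zero_mem _, by simp⟩
    | add x y _ _ hx hy =>
      obtain ⟨x', hx', rfl⟩ := hx
      obtain ⟨y', hy', rfl⟩ := hy
      refine ⟨x' + y', fun j => add_mem (hx' j) (hy' j), ?_⟩
      simp only [Pi.add_apply, smul_add, Finset.sum_add_distrib]
    | smul c x _ hx =>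
      obtain ⟨x', hx', rfl⟩ := hx
      refine ⟨c • x', fun j => Submodule.smul_mem _ _ (hx' j), ?_⟩
      rw [Finset.smul_sum]
      exact Finset.sum_congr rfl fun j _ => smul_comm _ _ _
  have hd : ∀ k (j : ι), ∀ y ∈ hom 𝒜 (ι := ι) N a k,
      (X j : MvPolynomial ι R) • y ∈ hom 𝒜 (ι := ι) N a (k + a) := by
    intro k j y hy
    induction hy using Submodule.span_induction with
    | mem y hy =>
      obtain ⟨α, m, x, h, rfl⟩ := hy
      rw [TensorProduct.smul_tmul', smul_eq_mul, X, monomial_mul, mul_one]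
      refine mem_hom 𝒜 N a _ m x ?_
      rw [map_add, Finsupp.degree_single, ← h]
      ring
    | zero => rw [smul_zero]; exact zero_mem _
    | add x y _ _ hx hy => rw [smul_add]; exact add_mem hx hy
    | smul c x _ hx =>
      rw [smul_comm]
      exact Submodule.smul_mem _ _ hx
  have hsurj := surj 𝒜 s a N ha haN K1 (hom 𝒜 (ι := ι) N a) ψ X hT hb' hd
  have hinj := inj 𝒜 s a N ha haN K1 K2 (hom 𝒜 (ι := ι) N a) ψ X K' hT hψ hb hb' hc hd
  -- everything is a sum of homogeneous elements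
  have hsup : ∀ y : MvPolynomial ι R ⊗[R] Gp 𝒜 N, y ∈ ⨆ k, hom 𝒜 (ι := ι) N a k := by
    intro y
    induction y using TensorProduct.induction_on with
    | zero => exact zero_mem _
    | add x y hx hy => exact add_mem hx hy
    | tmul p g =>
      have hg : g = ∑ m, (Pi.single m (g m) : Gp 𝒜 N) := (Finset.univ_sum_single g).symm
      rw [hg, TensorProduct.tmul_sum]
      refine Submodule.sum_mem _ fun m _ => ?_
      rw [p.as_sum, TensorProduct.sum_tmul]
      refine Submodule.sum_mem _ fun α _ => ?_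
      have h1 : monomial α (coeff α p) = coeff α p • monomial α (1 : R) := by
        rw [smul_monomial, smul_eq_mul, mul_one]
      rw [h1, ← TensorProduct.smul_tmul']
      refine Submodule.smul_mem _ _ ?_
      exact (le_iSup (hom 𝒜 (ι := ι) N a) _) (mem_hom 𝒜 N a α m (g m) rfl)
  have hker : LinearMap.ker ψS = K' := by
    refine le_antisymm (fun y hy => ?_) hK'
    obtain ⟨f, hf, hfy⟩ := (Submodule.mem_iSup_iff_exists_finsupp _ _).mp (hsup y)
    rw [LinearMap.mem_ker, ← hfy, Finsupp.sum, map_sum] at hy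
    have h1 := sum_eq_zero_of_graded 𝒜 f.support (fun k => ψ (f k)) (fun k => hψ k _ (hf k)) hy
    rw [← hfy]
    exact Submodule.sum_mem _ fun k hk => hinj k _ (hf k) (h1 k hk)
  have hψsurj : Function.Surjective ψS := by
    intro x
    classical
    rw [← DirectSum.sum_support_decompose 𝒜 x]
    choose y _ hyx using fun k => hsurj k (DirectSum.decompose 𝒜 x k) (SetLike.coe_mem _)
    refine ⟨∑ k ∈ (DirectSum.decompose 𝒜 x).support, y k, ?_⟩
    rw [map_sum]
    exact Finset.sum_congr rfl fun k _ => hyx k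
  have hfg : (LinearMap.ker ψS).FG := by
    rw [hker]
    exact relMod_fg 𝒜 N s a (fun k => inferInstance) hs
  have : Module.FinitePresentation (MvPolynomial ι R) A :=
    Module.finitePresentation_of_surjective ψS hψsurj hfg
  have : Algebra.FinitePresentation (MvPolynomial ι R) A := inferInstance
  exact Algebra.FinitePresentation.trans R (MvPolynomial ι R) A

end Main

end Groth.Agent.Picfga.GrFP
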