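import Mathlib.RingTheory.GradedAlgebra.Basic
import Mathlib.Algebra.DirectSum.Decomposition
import Mathlib.Algebra.Polynomial.Eval.Defs
import Mathlib.Algebra.Polynomial.Eval.Coeff
import Mathlib.Algebra.Polynomial.AlgebraMap

/-!
# The graded algebra `⊕ 𝒢 d` inside `P[X]`

For submodules `𝒢 d` of an `R`-algebra `P` with `1 ∈ 𝒢 0` and `𝒢 m * 𝒢 n ⊆ 𝒢 (m + n)` the polynomials
`p` with `coeff p d ∈ 𝒢 d` form an `ℕ`-graded `R`-algebra with pieces `𝒢 d`.
-/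

set_option autoImplicit false

universe u v

open Polynomial DirectSum

namespace Groth.Agent.Picfga.GrRing

variable {R : Type u} [CommRing R] {P : Type v} [CommRing P] [Algebra R P]

/-- A multiplicative family of submodules. -/
structure GFam (R : Type u) [CommRing R] (P : Type v) [CommRing P] [Algebra R P] where
  /-- the pieces -/
  G : ℕ → Submodule R P
  one_mem : (1 : P) ∈ G 0
  mul_mem : ∀ {m n : ℕ} {a b : P}, a ∈ G m → b ∈ G n → a * b ∈ G (m + n)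

namespace GFam

variable (𝒢 : GFam R P)

/-- The algebra. -/
def alg : Subalgebra R P[X] where
  carrier := {p | ∀ d, p.coeff d ∈ 𝒢.G d}
  mul_mem' := fun {p q} hp hq d => by
    rw [coeff_mul]
    refine Submodule.sum_mem _ fun x hx => ?_
    rw [Finset.mem_antidiagonal] at hx
    rw [← hx]
    exact 𝒢.mul_mem (hp _) (hq _)
  add_mem' := fun {p q} hp hq d => by
    rw [coeff_add]
    exact add_mem (hp d) (hq d)
  algebraMap_mem' := fun r d => by
    rw [Polynomial.algebraMap_apply, coeff_C]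
    split_ifs with h
    · subst h
      rw [Algebra.algebraMap_eq_smul_one]
      exact Submodule.smul_mem _ _ 𝒢.one_mem
    · exact zero_mem _

lemma coeff_mem (p : 𝒢.alg) (d : ℕ) : p.1.coeff d ∈ 𝒢.G d := p.2 d

/-- homogeneous elements -/
noncomputable def mono (d : ℕ) : 𝒢.G d →ₗ[R] 𝒢.alg where
  toFun x := ⟨monomial d (x : P), fun k => by
    rw [coeff_monomial]
    split_ifs with h
    · subst h; exact x.2
    · exact zero_mem _⟩
  map_add' x y := Subtype.ext (map_add (monomial d) (x : P) (y : P))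
  map_smul' r x := Subtype.ext (by
    change monomial d (r • (x : P)) = r • monomial d (x : P)
    rw [smul_monomial])

@[simp] lemma coe_mono (d : ℕ) (x : 𝒢.G d) : (𝒢.mono d x).1 = monomial d (x : P) := rfl

/-- the pieces -/
def gr (d : ℕ) : Submodule R 𝒢.alg where
  carrier := {p | p.1 = monomial d (p.1.coeff d)}
  zero_mem' := by simp
  add_mem' := fun {p q} hp hq => by
    change p.1 + q.1 = monomial d ((p.1 + q.1).coeff d)
    rw [coeff_add, map_add, ← hp, ← hq]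
  smul_mem' := fun r p hp => by
    change r • p.1 = monomial d ((r • p.1).coeff d)
    rw [coeff_smul, ← smul_monomial, ← hp]

lemma mem_gr {d : ℕ} {p : 𝒢.alg} : p ∈ 𝒢.gr d ↔ p.1 = monomial d (p.1.coeff d) := Iff.rfl

lemma mono_mem (d : ℕ) (x : 𝒢.G d) : 𝒢.mono d x ∈ 𝒢.gr d := by
  rw [mem_gr, coe_mono, coeff_monomial_same]

lemma mono_surj {d : ℕ} {p : 𝒢.alg} (hp : p ∈ 𝒢.gr d) : 𝒢.mono d ⟨p.1.coeff d, p.2 d⟩ = p :=
  Subtype.ext hp.symm

/-- `𝒢 d ≃ gr d`. -/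
noncomputable def grEquiv (d : ℕ) : 𝒢.G d ≃ₗ[R] 𝒢.gr d where
  toFun x := ⟨𝒢.mono d x, 𝒢.mono_mem d x⟩
  map_add' x y := Subtype.ext (map_add _ _ _)
  map_smul' r x := Subtype.ext (map_smul _ _ _)
  invFun p := ⟨p.1.1.coeff d, p.1.2 d⟩
  left_inv x := Subtype.ext (by simp)
  right_inv p := Subtype.ext (𝒢.mono_surj p.2)

instance gradedMonoid : SetLike.GradedMonoid 𝒢.gr where
  one_mem := by
    change (1 : P[X]) = monomial 0 ((1 : P[X]).coeff 0)
    simp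
  mul_mem := fun {m n} p q hp hq => by
    rw [mem_gr] at hp hq ⊢
    change p.1 * q.1 = monomial (m + n) ((p.1 * q.1).coeff (m + n))
    rw [hp, hq, monomial_mul_monomial, coeff_monomial_same]

lemma coeff_coe (x : ⨁ d, 𝒢.gr d) (d : ℕ) :
    (DirectSum.coeAddMonoidHom 𝒢.gr x).1.coeff d = (x d).1.1.coeff d := by
  induction x using DirectSum.induction_on with
  | zero => simp
  | of i x =>
    rw [DirectSum.coeAddMonoidHom_of]
    by_cases h : i = d
    · subst h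
      rw [DirectSum.of_eq_same]
    · rw [DirectSum.of_eq_of_ne _ _ _ (Ne.symm h)]
      have := x.2
      rw [mem_gr] at this
      rw [this, coeff_monomial, if_neg h]
      rfl
  | add x y hx hy =>
    rw [map_add, DirectSum.add_apply]
    change (_ + _ : P[X]).coeff d = (_ + _ : P[X]).coeff d
    rw [coeff_add, coeff_add, hx, hy]

lemma bijective_coe : Function.Bijective (DirectSum.coeAddMonoidHom 𝒢.gr) := by
  constructor
  · intro x y hxy
    refine DFinsupp.ext fun d => ?_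
    apply Subtype.ext
    apply Subtype.ext
    have h1 := (x d).2
    have h2 := (y d).2
    rw [mem_gr] at h1 h2
    rw [h1, h2, ← coeff_coe, ← coeff_coe, hxy]
  · intro p
    refine ⟨∑ d ∈ p.1.support, DirectSum.of (fun d => 𝒢.gr d) d
      ⟨𝒢.mono d ⟨p.1.coeff d, p.2 d⟩, 𝒢.mono_mem _ _⟩, ?_⟩
    rw [map_sum]
    simp only [DirectSum.coeAddMonoidHom_of]
    apply Subtype.ext
    rw [AddSubmonoidClass.coe_finsetSum]
    conv_rhs => rw [p.1.as_sum_support]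
    rfl

noncomputable instance gradedAlgebra : GradedAlgebra 𝒢.gr :=
  { 𝒢.gradedMonoid with
    toDecomposition := DirectSum.IsInternal.chooseDecomposition 𝒢.gr 𝒢.bijective_coe }

/-- The ring homomorphism `A → B` induced by `P → B` (evaluation at `X = 1`). -/
noncomputable def toB {B : Type*} [CommRing B] (θ : P →+* B) : 𝒢.alg →+* B :=
  (eval₂RingHom θ 1).comp 𝒢.alg.subtype

lemma toB_mono {B : Type*} [CommRing B] (θ : P →+* B) (d : ℕ) (x : 𝒢.G d) :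
    𝒢.toB θ (𝒢.mono d x) = θ x := by
  change eval₂ θ 1 (monomial d (x : P)) = _
  rw [eval₂_monomial, one_pow, mul_one]

lemma toB_of_mem {B : Type*} [CommRing B] (θ : P →+* B) {d : ℕ} {p : 𝒢.alg} (hp : p ∈ 𝒢.gr d) :
    𝒢.toB θ p = θ (p.1.coeff d) := by
  conv_lhs => rw [← 𝒢.mono_surj hp]
  rw [toB_mono]

lemma toB_algebraMap {B : Type*} [CommRing B] (θ : P →+* B) (r : R) :
    𝒢.toB θ (algebraMap R 𝒢.alg r) = θ (algebraMap R P r) := by
  change eval₂ θ 1 (algebraMap R P[X] r) = _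
  rw [Polynomial.algebraMap_apply, eval₂_C]

lemma mono_mul {m n : ℕ} (x : 𝒢.G m) (y : 𝒢.G n) :
    𝒢.mono m x * 𝒢.mono n y = 𝒢.mono (m + n) ⟨x * y, 𝒢.mul_mem x.2 y.2⟩ :=
  Subtype.ext (monomial_mul_monomial _ _ _ _)

lemma gr_ext {d : ℕ} {p q : 𝒢.alg} (hp : p ∈ 𝒢.gr d) (hq : q ∈ 𝒢.gr d)
    (h : p.1.coeff d = q.1.coeff d) : p = q := by
  apply Subtype.ext
  rw [mem_gr] at hp hq
  rw [hp, hq, h]

lemma coeff_mul_gr {m n : ℕ} {p q : 𝒢.alg} (hp : p ∈ 𝒢.gr m) (hq : q ∈ 𝒢.gr n) :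
    (p * q).1.coeff (m + n) = p.1.coeff m * q.1.coeff n := by
  rw [mem_gr] at hp hq
  change (p.1 * q.1).coeff (m + n) = _
  conv_lhs => rw [hp, hq]
  rw [monomial_mul_monomial, coeff_monomial_same]

section Koszul

variable {ι : Type*} [Fintype ι] (s : ι → 𝒢.alg) (a N : ℕ) (hs : ∀ i, s i ∈ 𝒢.gr a) (haN : 2 * a ≤ N)

include hs haN in
/-- Transfer of generation from `𝒢` to `gr`. -/
theorem exists_K1 (K1 : ∀ K, N ≤ K → ∀ x ∈ 𝒢.G K, ∃ y : ι → P, (∀ i, y i ∈ 𝒢.G (K - a)) ∧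
      x = ∑ i, (s i).1.coeff a * y i)
    (K : ℕ) (hK : N ≤ K) (x : 𝒢.alg) (hx : x ∈ 𝒢.gr K) :
    ∃ y : ι → 𝒢.alg, (∀ i, y i ∈ 𝒢.gr (K - a)) ∧ x = ∑ i, s i * y i := by
  obtain ⟨y, hy, hxy⟩ := K1 K hK _ (x.2 K)
  have hm : ∀ i, s i * 𝒢.mono (K - a) ⟨y i, hy i⟩ ∈ 𝒢.gr K := fun i => by
    have := SetLike.mul_mem_graded (hs i) (𝒢.mono_mem (K - a) ⟨y i, hy i⟩)
    rwa [show a + (K - a) = K by omega] at this
  refine ⟨fun i => 𝒢.mono (K - a) ⟨y i, hy i⟩, fun i => 𝒢.mono_mem _ _,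
    𝒢.gr_ext hx (Submodule.sum_mem _ fun i _ => hm i) ?_⟩
  rw [hxy, AddSubmonoidClass.coe_finsetSum, finsetSum_coeff]
  refine Finset.sum_congr rfl fun i _ => ?_
  have h1 := 𝒢.coeff_mul_gr (hs i) (𝒢.mono_mem (K - a) ⟨y i, hy i⟩)
  rw [show a + (K - a) = K by omega] at h1
  rw [h1, coe_mono, coeff_monomial_same]

include hs haN in
/-- Transfer of the relations from `𝒢` to `gr`. -/
theorem exists_K2 (K2 : ∀ K, N ≤ K → ∀ y : ι → P, (∀ i, y i ∈ 𝒢.G (K - a)) →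
      ∑ i, (s i).1.coeff a * y i = 0 → ∃ z : ι → ι → P, (∀ i j, z i j ∈ 𝒢.G (K - 2 * a)) ∧
        (∀ i j, z i j + z j i = 0) ∧ (∀ i, z i i = 0) ∧ ∀ i, y i = ∑ j, (s j).1.coeff a * z i j)
    (K : ℕ) (hK : N ≤ K) (y : ι → 𝒢.alg) (hy : ∀ i, y i ∈ 𝒢.gr (K - a))
    (hy0 : ∑ i, s i * y i = 0) :
    ∃ z : ι → ι → 𝒢.alg, (∀ i j, z i j ∈ 𝒢.gr (K - 2 * a)) ∧ (∀ i j, z i j + z j i = 0) ∧
      (∀ i, z i i = 0) ∧ ∀ i, y i = ∑ j, s j * z i j := by
  obtain ⟨z, hz, hz1, hz2, hz3⟩ := K2 K hK (fun i => (y i).1.coeff (K - a))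
    (fun i => (y i).2 _) (by
      have h1 := congrArg (fun p : 𝒢.alg => p.1.coeff K) hy0
      rw [AddSubmonoidClass.coe_finsetSum, finsetSum_coeff] at h1
      rw [show (0 : 𝒢.alg).1.coeff K = 0 from coeff_zero K] at h1
      rw [← h1]
      refine Finset.sum_congr rfl fun i _ => ?_
      have h2 := 𝒢.coeff_mul_gr (hs i) (hy i)
      rw [show a + (K - a) = K by omega] at h2
      exact h2.symm)
  refine ⟨fun i j => 𝒢.mono (K - 2 * a) ⟨z i j, hz i j⟩, fun i j => 𝒢.mono_mem _ _,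
    fun i j => ?_, fun i => ?_, fun i => ?_⟩
  · rw [← map_add]
    have : (⟨z i j, hz i j⟩ + ⟨z j i, hz j i⟩ : 𝒢.G (K - 2 * a)) = 0 := Subtype.ext (hz1 i j)
    rw [this, map_zero]
  · have : (⟨z i i, hz i i⟩ : 𝒢.G (K - 2 * a)) = 0 := Subtype.ext (hz2 i)
    change 𝒢.mono (K - 2 * a) ⟨z i i, hz i i⟩ = 0
    rw [this, map_zero]
  · have hm : ∀ j, s j * 𝒢.mono (K - 2 * a) ⟨z i j, hz i j⟩ ∈ 𝒢.gr (K - a) := fun j => by
      have := SetLike.mul_mem_graded (hs j) (𝒢.mono_mem (K - 2 * a) ⟨z i j, hz i j⟩)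
      rwa [show a + (K - 2 * a) = K - a by omega] at this
    refine 𝒢.gr_ext (hy i) (Submodule.sum_mem _ fun j _ => hm j) ?_
    rw [hz3 i, AddSubmonoidClass.coe_finsetSum, finsetSum_coeff]
    refine Finset.sum_congr rfl fun j _ => ?_
    have h1 := 𝒢.coeff_mul_gr (hs j) (𝒢.mono_mem (K - 2 * a) ⟨z i j, hz i j⟩)
    rw [show a + (K - 2 * a) = K - a by omega] at h1
    rw [h1, coe_mono, coeff_monomial_same]

end Koszul

end GFam

end Groth.Agent.Picfga.GrRing
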