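import Groth.Agent.Picfga.HilbPull
import Groth.Agent.Picfga.IdealDescent
import Groth.Agent.Picfga.FiniteDescent

/-!
# fpqc descent for the Hilbert functor of points
-/

set_option autoImplicit false
set_option backward.isDefEq.respectTransparency false

universe u

open CategoryTheory CategoryTheory.Limits AlgebraicGeometry

namespace Groth.Agent.Picfga.HilbFpqc

open Groth.Agent.Picfga.HilbPull

variable {X S : Scheme.{u}} (f : X ⟶ S)

/-- `T ↦ X_T` preserves pullback squares. -/
lemma isPullback_XTmap_of_isPullback {R T₁ T₂ T : Over S} {a : R ⟶ T₁} {b : R ⟶ T₂} {c : T₁ ⟶ T}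
    {e : T₂ ⟶ T} (H : IsPullback a.left b.left c.left e.left) :
    IsPullback (PicF.XTmap f a) (PicF.XTmap f b) (PicF.XTmap f c) (PicF.XTmap f e) := by
  refine (IsPullback.of_right (h₁₂ := PicF.XTproj f T₂) (v₁₃ := e.left)
    (h₂₂ := PicF.XTproj f T) ?_ ?_ (isPullback_XTmap f e).flip).flip
  · rw [XTmap_snd, XTmap_snd]
    exact (isPullback_XTmap f a).flip.paste_horiz H.flip
  · have h : b ≫ e = a ≫ c := Over.OverMorphism.ext H.w.symm
    rw [← XTmap_comp, ← XTmap_comp, h]

variable {f} {d : ℕ} {T : Over S} {T' : Scheme.{u}} (g : T' ⟶ T.left)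

/-- The Hilbert functor of points satisfies the sheaf condition for a single fpqc cover. -/
theorem existsUnique_descent [QuasiCompact g] [Flat g] [Surjective g]
    (Z' : HilbD.Obj f d (HilbD.coverOver T g))
    (hZ' : HilbD.pull f (HilbD.overlapFst T g) Z'.1 = HilbD.pull f (HilbD.overlapSnd T g) Z'.1) :
    ∃! I : (PicF.XT f T).IdealSheafData, Mor2.IsFinLocFreeOfDeg d (I.subschemeι ≫ PicF.XTproj f T) ∧
      HilbD.pull f (HilbD.coverHom T g) I = Z'.1 := by
  have Hp := isPullback_XTmap f (HilbD.coverHom T g)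
  have h1 : Flat (HilbD.coverHom T g).left := ‹Flat g›
  have h2 : Surjective (HilbD.coverHom T g).left := ‹Surjective g›
  have h3 : QuasiCompact (HilbD.coverHom T g).left := ‹QuasiCompact g›
  have p1 : Flat (PicF.XTmap f (HilbD.coverHom T g)) :=
    MorphismProperty.of_isPullback Hp.flip h1
  have p2 : Surjective (PicF.XTmap f (HilbD.coverHom T g)) :=
    MorphismProperty.of_isPullback Hp.flip h2
  have p3 : QuasiCompact (PicF.XTmap f (HilbD.coverHom T g)) :=
    MorphismProperty.of_isPullback Hp.flip h3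
  have HR : IsPullback (PicF.XTmap f (HilbD.overlapFst T g)) (PicF.XTmap f (HilbD.overlapSnd T g))
      (PicF.XTmap f (HilbD.coverHom T g)) (PicF.XTmap f (HilbD.coverHom T g)) :=
    isPullback_XTmap_of_isPullback f (IsPullback.of_hasPullback g g)
  rw [pull_eq_comap, pull_eq_comap] at hZ'
  have hdesc := IdealDescent.comap_map_eq_of_descent HR Z'.1 hZ'
  refine ⟨Z'.1.map (PicF.XTmap f (HilbD.coverHom T g)), ⟨?_, ?_⟩, ?_⟩
  · obtain ⟨m, hm⟩ := isPullback_pull_base f (HilbD.coverHom T g)
      (Z'.1.map (PicF.XTmap f (HilbD.coverHom T g)))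
    refine FiniteDescent.isFinLocFreeOfDeg_of_isPullback hm.flip ?_
    rw [pull_eq_comap, hdesc]
    exact Z'.2
  · rw [pull_eq_comap, hdesc]
  · rintro J ⟨-, hJ⟩
    rw [pull_eq_comap] at hJ
    rw [← hJ, IdealDescent.map_comap_of_fpqc]

end Groth.Agent.Picfga.HilbFpqc
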