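import Mathlib.LinearAlgebra.ExteriorPower.Basis
import Mathlib.LinearAlgebra.Alternating.Curry
import Mathlib.LinearAlgebra.Alternating.Uncurry.Fin
import Mathlib.LinearAlgebra.Alternating.Basic
import Mathlib.Algebra.Module.Projective

/-!
# Koszul versus Čech: generators and relations in bounded degrees

Let `N p` (`p ≥ 0`) be a complex of modules with a family of submodules `F p k` (`k` a weight), `σ j`
commuting endomorphisms of the complex raising the weight by `a`, which locally (on each `N p`, not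
compatibly with the differential) generate the unit ideal.  If the `F · k` are exact in positive degrees for
all `k ≥ k₀`, then the Koszul complex of `σ` on the kernels of `F 0 k → F 1 k` is exact in degrees `0`
and `1` for large weights.
-/

set_option autoImplicit false

universe u v w

namespace Groth.Agent.Picfga.KoszulChase

open Matrix

section Koszul

variable {R : Type u} [CommRing R] {J : Type v} [Fintype J] [DecidableEq J]
  {N : Type w} [AddCommGroup N] [Module R N]

/-- Alternating `q`-forms on `R^J` with values in `N`. -/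
abbrev Alt (R : Type u) [CommRing R] (J : Type v) (N : Type w) [AddCommGroup N] [Module R N]
    (q : ℕ) := (J → R) [⋀^Fin q]→ₗ[R] N

lemma alt_sum_apply {I : Type*} (s : Finset I) {q : ℕ} (f : I → Alt R J N q)
    (v : Fin q → (J → R)) : (∑ i ∈ s, f i) v = ∑ i ∈ s, f i v := by
  classical
  induction s using Finset.induction_on with
  | empty => simp
  | insert i s hi ih => rw [Finset.sum_insert hi, Finset.sum_insert hi, AlternatingMap.add_apply, ih]

/-- Contraction with `σ`. -/
noncomputable def kos (σ : J → Module.End R N) {q : ℕ} (z : Alt R J N (q + 1)) : Alt R J N q :=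
  ∑ j, (σ j).compAlternatingMap (z.curryLeft (Pi.single j 1))

lemma kos_apply (σ : J → Module.End R N) {q : ℕ} (z : Alt R J N (q + 1)) (v : Fin q → (J → R)) :
    kos σ z v = ∑ j, σ j (z (vecCons (Pi.single j 1) v)) := by
  rw [kos, alt_sum_apply]
  rfl

/-- The covector with values in endomorphisms. -/
noncomputable def cov (ε : J → Module.End R N) {q : ℕ} (z : Alt R J N q) :
    (J → R) →ₗ[R] Alt R J N q where
  toFun v := ∑ j, v j • (ε j).compAlternatingMap z
  map_add' v w := by
    simp only [Pi.add_apply, add_smul, Finset.sum_add_distrib]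
  map_smul' r v := by
    simp only [Pi.smul_apply, smul_eq_mul, mul_smul, RingHom.id_apply, Finset.smul_sum]

lemma cov_apply (ε : J → Module.End R N) {q : ℕ} (z : Alt R J N q) (v : J → R)
    (x : Fin q → (J → R)) : cov ε z v x = ∑ j, v j • ε j (z x) := by
  change (∑ j, v j • (ε j).compAlternatingMap z) x = _
  rw [alt_sum_apply]
  rfl

/-- Exterior multiplication with `ε`. -/
noncomputable def ext (ε : J → Module.End R N) {q : ℕ} (z : Alt R J N q) : Alt R J N (q + 1) :=
  AlternatingMap.alternatizeUncurryFin (cov ε z)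

lemma ext_apply (ε : J → Module.End R N) {q : ℕ} (z : Alt R J N q)
    (v : Fin (q + 1) → (J → R)) :
    ext ε z v = ∑ i : Fin (q + 1), (-1) ^ (i : ℕ) • ∑ j, v i j • ε j (z (i.removeNth v)) := by
  rw [ext, AlternatingMap.alternatizeUncurryFin_apply]
  refine Finset.sum_congr rfl fun i _ => ?_
  rw [cov_apply]

variable {σ ε : J → Module.End R N}

lemma ext_vecCons (z : Alt R J N 0) (j : J) (v : Fin 0 → (J → R)) :
    ext ε z (vecCons (Pi.single j 1) v) = ε j (z v) := by
  rw [ext_apply, Fin.sum_univ_succ]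
  simp only [Fin.val_zero, pow_zero, one_smul, Finset.univ_eq_empty, Finset.sum_empty, add_zero]
  rw [Finset.sum_eq_single j]
  · simp only [cons_val_zero, Pi.single_eq_same, one_smul]
    congr 2
  · intro l _ hl
    simp [Pi.single_eq_of_ne hl]
  · intro h; exact absurd (Finset.mem_univ _) h

lemma kos_ext_zero (hone : ∀ x, ∑ j, σ j (ε j x) = x) (z : Alt R J N 0) :
    kos σ (ext ε z) = z := by
  ext v
  rw [kos_apply]
  simp only [ext_vecCons]
  exact hone _

lemma removeNth_succ_vecCons {α : Type*} {q : ℕ} (x : α) (v : Fin (q + 1) → α) (i : Fin (q + 1)) :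
    (i.succ).removeNth (vecCons x v : Fin (q + 2) → α) = vecCons x (i.removeNth v) := by
  funext k
  refine Fin.cases ?_ (fun k => ?_) k
  · simp [Fin.removeNth]
  · simp [Fin.removeNth, Fin.succ_succAbove_succ]

/-- The homotopy formula on cocycles. -/
lemma kos_ext_succ (hcomm : ∀ i j x, σ i (ε j x) = ε j (σ i x))
    (hone : ∀ x, ∑ j, σ j (ε j x) = x) {q : ℕ} (z : Alt R J N (q + 1)) (hz : kos σ z = 0) :
    kos σ (ext ε z) = z := by
  ext v
  rw [kos_apply]
  have h1 : ∀ j, ext ε z (vecCons (Pi.single j 1) v) = ε j (z v) +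
      ∑ i : Fin (q + 1), (-1) ^ ((i : ℕ) + 1) • ∑ l, v i l •
        ε l (z (vecCons (Pi.single j 1) (i.removeNth v))) := by
    intro j
    rw [ext_apply, Fin.sum_univ_succ]
    congr 1
    · simp only [Fin.val_zero, pow_zero, one_smul]
      rw [Finset.sum_eq_single j]
      · simp only [cons_val_zero, Pi.single_eq_same, one_smul]
        congr 2
      · intro l _ hl
        simp [Pi.single_eq_of_ne hl]
      · intro h; exact absurd (Finset.mem_univ _) h
    · refine Finset.sum_congr rfl fun i _ => ?_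
      rw [removeNth_succ_vecCons]
      simp only [Fin.val_succ, cons_val_succ]
  simp only [h1, map_add, Finset.sum_add_distrib, map_sum]
  rw [hone]
  have h2 : ∀ (i : Fin (q + 1)) (l : J),
      ∑ j, σ j (z (vecCons (Pi.single j 1) (i.removeNth v))) = 0 := by
    intro i l
    rw [← kos_apply, hz]
    rfl
  suffices h : ∑ j, ∑ i : Fin (q + 1), σ j ((-1) ^ ((i : ℕ) + 1) • ∑ l, v i l •
        ε l (z (vecCons (Pi.single j 1) (i.removeNth v)))) = 0 by
    rw [h, add_zero]
  rw [Finset.sum_comm]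
  refine Finset.sum_eq_zero fun i _ => ?_
  have h3 : ∀ j, σ j ((-1) ^ ((i : ℕ) + 1) • ∑ l, v i l •
      ε l (z (vecCons (Pi.single j 1) (i.removeNth v)))) =
      (-1) ^ ((i : ℕ) + 1) • ∑ l, v i l •
      ε l (σ j (z (vecCons (Pi.single j 1) (i.removeNth v)))) := by
    intro j
    rw [map_zsmul_pow, map_sum]
    congr 1
    refine Finset.sum_congr rfl fun l _ => ?_
    rw [map_smul, hcomm]
  simp only [h3]
  rw [← Finset.smul_sum, Finset.sum_comm]
  have h4 : ∀ l, ∑ j, v i l • ε l (σ j (z (vecCons (Pi.single j 1) (i.removeNth v)))) = 0 := by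
    intro l
    rw [← Finset.smul_sum, ← map_sum, h2 i l, map_zero, smul_zero]
  simp only [h4, Finset.sum_const_zero, smul_zero]
where
  map_zsmul_pow {f : Module.End R N} {n : ℕ} {x : N} : f ((-1 : ℤ) ^ n • x) = (-1 : ℤ) ^ n • f x :=
    map_zsmul f _ _

/-- A sum of an antisymmetric family vanishes. -/
lemma sum_antisymm {g : J → J → N} (h : ∀ i j, g i j + g j i = 0) (h' : ∀ i, g i i = 0) :
    ∑ i, ∑ j, g i j = 0 := by
  rw [← Finset.sum_product']
  refine Finset.sum_involution (fun p _ => p.swap) ?_ ?_ ?_ ?_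
  · rintro ⟨i, j⟩ _
    exact h i j
  · rintro ⟨i, j⟩ _ hne heq
    have : j = i := congrArg Prod.fst heq
    subst this
    exact hne (h' _)
  · rintro ⟨i, j⟩ _
    simp
  · rintro ⟨i, j⟩ _
    rfl

lemma antisymm_two {q : ℕ} (w : Alt R J N (q + 2)) (x y : J → R) (v : Fin q → (J → R)) :
    w (vecCons x (vecCons y v)) + w (vecCons y (vecCons x v)) = 0 := by
  have h : ∀ m : J → R, w (vecCons m (vecCons m v)) = 0 := by
    intro m
    exact congr($(AlternatingMap.curryLeft_same w m) v)
  have hB' : ∀ a b, w (vecCons a (vecCons b v)) = (w.curryLeft a).curryLeft b v := fun a b => rfl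
  have hadd1 : ∀ a b c, w (vecCons (a + b) (vecCons c v)) =
      w (vecCons a (vecCons c v)) + w (vecCons b (vecCons c v)) := by
    intro a b c
    rw [hB', hB', hB', map_add, AlternatingMap.curryLeft_add]
    rfl
  have hadd2 : ∀ a b c, w (vecCons c (vecCons (a + b) v)) =
      w (vecCons c (vecCons a v)) + w (vecCons c (vecCons b v)) := by
    intro a b c
    rw [hB', hB', hB', map_add]
    rfl
  have h1 := h (x + y)
  rw [hadd1, hadd2, hadd2, h x, h y, zero_add, add_zero] at h1
  exact h1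

lemma kos_kos (hσ : ∀ i j x, σ i (σ j x) = σ j (σ i x)) {q : ℕ} (w : Alt R J N (q + 2)) :
    kos σ (kos σ w) = 0 := by
  ext v
  rw [kos_apply]
  simp only [kos_apply, map_sum, AlternatingMap.zero_apply]
  refine sum_antisymm (fun i j => ?_) (fun i => ?_)
  · rw [hσ i j, ← map_add, ← map_add, antisymm_two, map_zero, map_zero]
  · have h' : w (vecCons (Pi.single i 1) (vecCons (Pi.single i 1) v)) = 0 :=
      congr($(AlternatingMap.curryLeft_same w (Pi.single i 1)) v)
    rw [h', map_zero, map_zero]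

lemma kos_sub {q : ℕ} (z w : Alt R J N (q + 1)) : kos σ (z - w) = kos σ z - kos σ w := by
  ext v
  simp [kos_apply, Finset.sum_sub_distrib]

lemma alt_eq_zero {q : ℕ} (hq : Fintype.card J < q) (z : Alt R J N q) : z = 0 := by
  refine Module.Basis.ext_alternating (Pi.basisFun R J) fun v hv => ?_
  have := Fintype.card_le_of_injective v hv
  rw [Fintype.card_fin] at this
  omega

end Koszul

section Lift

variable {R : Type u} [CommRing R] {J : Type v} [Fintype J] [DecidableEq J]
  {N N' : Type w} [AddCommGroup N] [Module R N] [AddCommGroup N'] [Module R N']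

/-- Alternating forms lift through surjections. -/
lemma exists_lift (d : N →ₗ[R] N') (F : Submodule R N) (G : Submodule R N')
    (hG : ∀ x ∈ G, ∃ y ∈ F, d y = x) (hF : ∀ x ∈ F, d x ∈ G) {q : ℕ} (z : Alt R J N' q)
    (hz : ∀ v, z v ∈ G) :
    ∃ w : Alt R J N q, (∀ v, w v ∈ F) ∧ ∀ v, d (w v) = z v := by
  let φ : F →ₗ[R] G := (d.comp F.subtype).codRestrict G (fun x => hF x.1 x.2)
  have hφ : Function.Surjective φ := by
    rintro ⟨x, hx⟩
    obtain ⟨y, hy, rfl⟩ := hG x hx
    exact ⟨⟨y, hy⟩, rfl⟩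
  let zG : Alt R J G q := z.codRestrict G hz
  let zh := exteriorPower.alternatingMapLinearEquiv zG
  have : Module.Projective R (⋀[R]^q (J → R)) := inferInstance
  obtain ⟨wh, hwh⟩ := Module.projective_lifting_property φ zh hφ
  let wF : Alt R J F q := exteriorPower.alternatingMapLinearEquiv.symm wh
  refine ⟨F.subtype.compAlternatingMap wF, fun v => (wF v).2, fun v => ?_⟩
  have h1 : φ (wF v) = zG v := by
    have h2 : wF v = wh (exteriorPower.ιMulti R q v) :=
      exteriorPower.alternatingMapLinearEquiv_symm_apply _ _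
    rw [h2]
    have h3 := congr($hwh (exteriorPower.ιMulti R q v))
    rw [LinearMap.comp_apply] at h3
    rw [h3]
    exact exteriorPower.alternatingMapLinearEquiv_apply_ιMulti _ _
  exact congrArg Subtype.val h1

end Lift

section Chase

variable {R : Type u} [CommRing R] {J : Type v} [Fintype J] [DecidableEq J]
  {N : ℕ → Type w} [∀ p, AddCommGroup (N p)] [∀ p, Module R (N p)]

/-- The data of the chase. -/
structure Data (d : ∀ p, N p →ₗ[R] N (p + 1)) (σ ε : ∀ p, J → Module.End R (N p))
    (F : ∀ p, ℕ → Submodule R (N p)) (a k₀ : ℕ) : Prop where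
  hdd : ∀ p x, d (p + 1) (d p x) = 0
  hdσ : ∀ p j x, d p (σ p j x) = σ (p + 1) j (d p x)
  hσσ : ∀ p i j x, σ p i (σ p j x) = σ p j (σ p i x)
  hσε : ∀ p i j x, σ p i (ε p j x) = ε p j (σ p i x)
  hone : ∀ p x, ∑ j, σ p j (ε p j x) = x
  hdF : ∀ p k x, x ∈ F p k → d p x ∈ F (p + 1) k
  hσF : ∀ p j k x, x ∈ F p k → σ p j x ∈ F p (k + a)
  hεF : ∀ p j k x, x ∈ F p (k + a) → ε p j x ∈ F p k
  hex : ∀ p k, k₀ ≤ k → ∀ x ∈ F (p + 1) k, d (p + 1) x = 0 → ∃ y ∈ F p k, d p y = x

variable {d : ∀ p, N p →ₗ[R] N (p + 1)} {σ ε : ∀ p, J → Module.End R (N p)}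
  {F : ∀ p, ℕ → Submodule R (N p)} {a k₀ : ℕ} (D : Data d σ ε F a k₀)
include D

lemma kos_d {p q : ℕ} (z : Alt R J (N p) (q + 1)) :
    kos (σ (p + 1)) ((d p).compAlternatingMap z) = (d p).compAlternatingMap (kos (σ p) z) := by
  ext v
  simp only [kos_apply, LinearMap.compAlternatingMap_apply, map_sum, D.hdσ]

lemma kos_mem {p q k : ℕ} (z : Alt R J (N p) (q + 1)) (hz : ∀ v, z v ∈ F p k) (v) :
    kos (σ p) z v ∈ F p (k + a) := by
  rw [kos_apply]
  exact Submodule.sum_mem _ fun j _ => D.hσF _ _ _ _ (hz _)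

lemma ext_mem {p q k : ℕ} (z : Alt R J (N p) q) (hz : ∀ v, z v ∈ F p (k + a)) (v) :
    ext (ε p) z v ∈ F p k := by
  rw [ext_apply]
  refine Submodule.sum_mem _ fun i _ => ?_
  refine Submodule.smul_of_tower_mem _ _ (Submodule.sum_mem _ fun j _ => ?_)
  exact Submodule.smul_mem _ _ (D.hεF _ _ _ _ (hz _))

/-- The main claim, by descending induction on the Koszul degree. -/
theorem claim (K : ℕ) (hK : k₀ + (Fintype.card J + 2) * a ≤ K) :
    ∀ (m q p : ℕ), q + m = Fintype.card J + 1 → ∀ z : Alt R J (N p) q,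
      (∀ v, z v ∈ F p (K - q * a)) → (∀ v, d p (z v) = 0) → kos (σ p) (ext (ε p) z) = z →
      ∃ y : Alt R J (N p) (q + 1), (∀ v, y v ∈ F p (K - (q + 1) * a)) ∧ (∀ v, d p (y v) = 0) ∧
        kos (σ p) y = z := by
  intro m
  induction m with
  | zero =>
    intro q p hq z _ _ _
    have hz0 : z = 0 := alt_eq_zero (by omega) z
    refine ⟨0, fun v => zero_mem _, fun v => map_zero _, ?_⟩
    rw [hz0]
    ext v
    simp [kos_apply]
  | succ m ih =>
    intro q p hq z hz hdz hkz
    have ha1 : K - q * a = (K - (q + 1) * a) + a := by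
      have h1 : (q + 1) * a ≤ (Fintype.card J + 2) * a := Nat.mul_le_mul_right a (by omega)
      have h2 : (q + 1) * a = q * a + a := by ring
      omega
    have ha2 : K - (q + 1) * a = (K - (q + 1 + 1) * a) + a := by
      have h1 : (q + 2) * a ≤ (Fintype.card J + 2) * a := Nat.mul_le_mul_right a (by omega)
      have h2 : (q + 1 + 1) * a = (q + 1) * a + a := by ring
      have h3 : (q + 2) * a = (q + 1 + 1) * a := by ring
      omega
    have hk2 : k₀ ≤ K - (q + 1 + 1) * a := by
      have h1 : (q + 2) * a ≤ (Fintype.card J + 2) * a := Nat.mul_le_mul_right a (by omega)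
      have h3 : (q + 2) * a = (q + 1 + 1) * a := by ring
      omega
    set y₀ : Alt R J (N p) (q + 1) := ext (ε p) z with hy₀
    have hy₀m : ∀ v, y₀ v ∈ F p (K - (q + 1) * a) :=
      ext_mem D z (by rw [← ha1]; exact hz)
    let x : Alt R J (N (p + 1)) (q + 1) := (d p).compAlternatingMap y₀
    have hxm : ∀ v, x v ∈ F (p + 1) (K - (q + 1) * a) := fun v => D.hdF _ _ _ (hy₀m v)
    have hdx : ∀ v, d (p + 1) (x v) = 0 := fun v => D.hdd _ _
    have hkx : kos (σ (p + 1)) x = 0 := by
      rw [kos_d D, hkz]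
      ext v
      exact hdz v
    have hkex : kos (σ (p + 1)) (ext (ε (p + 1)) x) = x :=
      kos_ext_succ (D.hσε (p + 1)) (D.hone (p + 1)) x hkx
    obtain ⟨x', hx'm, hdx', hkx'⟩ := ih (q + 1) (p + 1) (by omega) x hxm hdx hkex
    obtain ⟨w, hwm, hdw⟩ := exists_lift (d p) (F p (K - (q + 1 + 1) * a))
      (F (p + 1) (K - (q + 1 + 1) * a) ⊓ LinearMap.ker (d (p + 1)))
      (fun y hy => D.hex p _ hk2 y hy.1 hy.2)
      (fun y hy => ⟨D.hdF _ _ _ hy, D.hdd _ _⟩) x' (fun v => ⟨hx'm v, hdx' v⟩)
    refine ⟨y₀ - kos (σ p) w, fun v => ?_, fun v => ?_, ?_⟩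
    · rw [AlternatingMap.sub_apply]
      refine Submodule.sub_mem _ (hy₀m v) ?_
      rw [ha2]
      exact kos_mem D w hwm v
    · rw [AlternatingMap.sub_apply, map_sub]
      have h1 : (d p).compAlternatingMap w = x' := by
        ext v; exact hdw v
      have h2 : (d p) (kos (σ p) w v) = kos (σ (p + 1)) x' v := by
        rw [← h1, kos_d D]; rfl
      rw [h2, hkx']
      exact sub_self _
    · rw [kos_sub, kos_kos (D.hσσ p), sub_zero, hkz]

/-- Generation in large weights. -/
theorem exists_K1 (K : ℕ) (hK : k₀ + (Fintype.card J + 2) * a ≤ K) (x : N 0) (hx : x ∈ F 0 K)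
    (hdx : d 0 x = 0) : ∃ y : J → N 0, (∀ j, y j ∈ F 0 (K - a)) ∧ (∀ j, d 0 (y j) = 0) ∧
      x = ∑ j, σ 0 j (y j) := by
  let z : Alt R J (N 0) 0 := AlternatingMap.constOfIsEmpty R (J → R) (Fin 0) x
  obtain ⟨y, h1, h2, h3⟩ := claim D K hK (Fintype.card J + 1) 0 0 (by omega) z
    (fun v => by simpa [z] using hx) (fun v => hdx) (kos_ext_zero (D.hone 0) z)
  refine ⟨fun j => y (vecCons (Pi.single j 1) ![]), fun j => ?_, fun j => h2 _, ?_⟩
  · have := h1 (vecCons (Pi.single j 1) ![])
    simpa using this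
  · have : z ![] = x := rfl
    rw [← this, ← h3, kos_apply]

/-- Relations in large weights. -/
theorem exists_K2 (K : ℕ) (hK : k₀ + (Fintype.card J + 2) * a ≤ K) (y : J → N 0)
    (hy : ∀ j, y j ∈ F 0 (K - a)) (hdy : ∀ j, d 0 (y j) = 0) (h : ∑ j, σ 0 j (y j) = 0) :
    ∃ z : J → J → N 0, (∀ i j, z i j ∈ F 0 (K - 2 * a)) ∧ (∀ i j, d 0 (z i j) = 0) ∧
      (∀ i j, z i j + z j i = 0) ∧ (∀ i, z i i = 0) ∧ ∀ i, y i = ∑ j, σ 0 j (z i j) := by
  let yl : (J → R) →ₗ[R] N 0 := Fintype.linearCombination R y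
  have hyl : ∀ v, yl v = ∑ j, v j • y j := fun v => Fintype.linearCombination_apply _ _ _
  have hyl1 : ∀ j, yl (Pi.single j 1) = y j := by
    intro j
    rw [hyl, Finset.sum_eq_single j]
    · simp
    · intro l _ hl
      simp [Pi.single_eq_of_ne hl]
    · intro h; exact absurd (Finset.mem_univ _) h
  let z : Alt R J (N 0) 1 := AlternatingMap.ofSubsingleton R (J → R) (N 0) (0 : Fin 1) yl
  have hz : ∀ v, z v = yl (v 0) := fun v => rfl
  have hkz : kos (σ 0) z = 0 := by
    ext v
    rw [kos_apply, AlternatingMap.zero_apply]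
    simp only [hz, cons_val_zero, hyl1]
    exact h
  obtain ⟨w, h1, h2, h3⟩ := claim D K hK (Fintype.card J) 1 0 (by omega) z
    (fun v => by
      rw [hz, hyl]
      refine Submodule.sum_mem _ fun j _ => Submodule.smul_mem _ _ ?_
      simpa using hy j)
    (fun v => by
      rw [hz, hyl, map_sum]
      refine Finset.sum_eq_zero fun j _ => ?_
      rw [map_smul, hdy, smul_zero])
    (kos_ext_succ (D.hσε 0) (D.hone 0) z hkz)
  refine ⟨fun i j => w (vecCons (Pi.single j 1) (vecCons (Pi.single i 1) ![])), fun i j => ?_,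
    fun i j => h2 _, fun i j => ?_, fun i => ?_, fun i => ?_⟩
  · have := h1 (vecCons (Pi.single j 1) (vecCons (Pi.single i 1) ![]))
    simpa using this
  · exact antisymm_two w _ _ _
  · exact congr($(AlternatingMap.curryLeft_same w (Pi.single i 1)) ![])
  · have h4 : z (vecCons (Pi.single i 1) ![]) = y i := by
      rw [hz, cons_val_zero, hyl1]
    rw [← h4, ← h3, kos_apply]

end Chase

end Groth.Agent.Picfga.KoszulChase
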