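import Groth.Prelude.Def_Coh
import Groth.Prelude.Def_CohB1
import Groth.Prelude.Def_FlatMod2
import Mathlib.AlgebraicGeometry.Morphisms.Flat
import Mathlib.AlgebraicGeometry.Morphisms.Proper
import Groth.Agent.Flat2H.FamDict

/-!
# Interface for S1155: sections of powers of a trivialized invertible module as families of functions

`str a U : R →+* Γ(X, U)` is the structure map for `a : X ⟶ Spec R`; `Fam a W g k` is the `R`-module
of the families `b_j ∈ Γ(X, W j)` with `b_i g_ij^k = b_j`, i.e. `Γ(X, L^k)` in terms of a trivialization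
`Trivs L W g` of `L`.
-/

set_option autoImplicit false
universe u

open AlgebraicGeometry CategoryTheory CategoryTheory.Limits Opposite TopologicalSpace
open Groth.Agent.Fdesc.LocGen Groth.Agent.Flat2H.FamExt Groth.Agent.Flat2H.FamDict

namespace Groth.Agent.Picfga.Level

variable {R : Type u} [CommRing R] {X : Scheme.{u}}

/-- `R → Γ(X, U)`. -/
noncomputable def str (a : X ⟶ Spec (CommRingCat.of R)) (U : X.Opens) : R →+* Γ(X, U) :=
  (a.appLE ⊤ U le_top).hom.comp (Scheme.ΓSpecIso (CommRingCat.of R)).inv.hom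

lemma ores_str (a : X ⟶ Spec (CommRingCat.of R)) {U V : X.Opens} (h : V ≤ U) (r : R) :
    ores h (str a U r) = str a V r := by
  change (ConcreteCategory.hom (X.presheaf.map (homOfLE h).op))
    ((ConcreteCategory.hom (a.appLE ⊤ U le_top)) _) = (ConcreteCategory.hom (a.appLE ⊤ V le_top)) _
  rw [← ConcreteCategory.comp_apply, Scheme.Hom.appLE_map]

variable {ι : Type*}

lemma IsFam.zero {W : ι → X.Opens} {g : ∀ i j, Γ(X, W i ⊓ W j)} :
    IsFam W g (fun _ => 0) := fun i j => by rw [map_zero, map_zero, zero_mul]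

lemma IsFam.add {W : ι → X.Opens} {g : ∀ i j, Γ(X, W i ⊓ W j)} {b c : ∀ j, Γ(X, W j)}
    (hb : IsFam W g b) (hc : IsFam W g c) : IsFam W g (fun j => b j + c j) := fun i j => by
  rw [map_add, map_add, add_mul, hb i j, hc i j]

lemma IsFam.neg {W : ι → X.Opens} {g : ∀ i j, Γ(X, W i ⊓ W j)} {b : ∀ j, Γ(X, W j)}
    (hb : IsFam W g b) : IsFam W g (fun j => - b j) := fun i j => by
  rw [map_neg, map_neg, neg_mul, hb i j]

lemma IsFam.str_mul (a : X ⟶ Spec (CommRingCat.of R)) (r : R) {W : ι → X.Opens}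
    {g : ∀ i j, Γ(X, W i ⊓ W j)} {b : ∀ j, Γ(X, W j)} (hb : IsFam W g b) :
    IsFam W g (fun j => str a (W j) r * b j) := fun i j => by
  rw [map_mul, map_mul, ores_str, ores_str, mul_assoc, hb i j]

/-- The `R`-module of families `b_j ∈ Γ(X, W j)` with `b_i g_ij^k = b_j` on `W i ⊓ W j`. -/
def Fam (_ : X ⟶ Spec (CommRingCat.of R)) (W : ι → X.Opens) (g : ∀ i j, Γ(X, W i ⊓ W j)) (k : ℕ) :=
  {b : ∀ j, Γ(X, W j) // IsFam W (fun i j => g i j ^ k) b}

variable {a : X ⟶ Spec (CommRingCat.of R)} {W : ι → X.Opens} {g : ∀ i j, Γ(X, W i ⊓ W j)} {k : ℕ}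

instance : Zero (Fam a W g k) := ⟨⟨fun _ => 0, IsFam.zero⟩⟩
instance : Add (Fam a W g k) := ⟨fun b c => ⟨fun j => b.1 j + c.1 j, IsFam.add b.2 c.2⟩⟩
instance : Neg (Fam a W g k) := ⟨fun b => ⟨fun j => - b.1 j, IsFam.neg b.2⟩⟩

@[simp] lemma Fam.zero_val (j : ι) : (0 : Fam a W g k).1 j = 0 := rfl
@[simp] lemma Fam.add_val (b c : Fam a W g k) (j : ι) : (b + c).1 j = b.1 j + c.1 j := rfl
@[simp] lemma Fam.neg_val (b : Fam a W g k) (j : ι) : (-b).1 j = -b.1 j := rfl

lemma Fam.ext {b c : Fam a W g k} (h : ∀ j, b.1 j = c.1 j) : b = c := Subtype.ext (funext h)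

instance : AddCommGroup (Fam a W g k) where
  add_assoc b c d := Fam.ext fun j => add_assoc _ _ _
  zero_add b := Fam.ext fun j => zero_add _
  add_zero b := Fam.ext fun j => add_zero _
  add_comm b c := Fam.ext fun j => add_comm _ _
  neg_add_cancel b := Fam.ext fun j => neg_add_cancel _
  nsmul := nsmulRec
  zsmul := zsmulRec

noncomputable instance : SMul R (Fam a W g k) :=
  ⟨fun r b => ⟨fun j => str a (W j) r * b.1 j, IsFam.str_mul a r b.2⟩⟩

@[simp] lemma Fam.smul_val (r : R) (b : Fam a W g k) (j : ι) :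
    (r • b).1 j = str a (W j) r * b.1 j := rfl

noncomputable instance : Module R (Fam a W g k) where
  one_smul b := Fam.ext fun j => by rw [Fam.smul_val, map_one, one_mul]
  mul_smul r s b := Fam.ext fun j => by simp only [Fam.smul_val, map_mul, mul_assoc]
  smul_zero r := Fam.ext fun j => by simp
  smul_add r b c := Fam.ext fun j => by simp [mul_add]
  add_smul r s b := Fam.ext fun j => by simp [add_mul]
  zero_smul b := Fam.ext fun j => by simp

end Groth.Agent.Picfga.Level
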