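import Groth.Agent.Picfga.TwCech
import Groth.Agent.Picfga.KoszulChase
import Groth.Agent.Picfga.LevelIface
import Groth.Agent.Ega2.QCohLocal

/-!
# Generators and relations for families in large weights

`koszul_fam`: if `s l` (`l ∈ J`) are sections of `L^d` without common zero and the powers `L^k`, `k ≥ k₀`, have
vanishing higher cohomology, then for `K ≥ k₀ + (#J + 2) d` every section of `L^K` is a combination
`∑ s_l y_l`, and the relations `∑ s_l y_l = 0` are generated by the Koszul relations.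
-/

set_option autoImplicit false
universe u

open AlgebraicGeometry CategoryTheory CategoryTheory.Limits Opposite TopologicalSpace
open Groth.Agent.Fdesc.LocGen Groth.Agent.Flat2H.FamExt Groth.Agent.Flat2H.FamDict

namespace Groth.Agent.Picfga.Level

attribute [local instance] HasDerivedCategory.standard

section Graded

variable {X : Scheme.{u}} {ι : Type u} (W : ι → X.Opens)

/-- Cochains in all weights. -/
abbrev GN (p : ℕ) : Type u := ℤ → TwCech.Fun W p

/-- The differential in all weights. -/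
noncomputable def gd (γ : ℤ → ∀ i j, Γ(X, W i ⊓ W j)) (p : ℕ) : GN W p →ₗ[ℤ] GN W (p + 1) :=
  LinearMap.pi fun k => (TwCech.dT W (γ k) p).toIntLinearMap.comp (LinearMap.proj k)

lemma gd_apply (γ : ℤ → ∀ i j, Γ(X, W i ⊓ W j)) (p : ℕ) (c : GN W p) (k : ℤ) :
    gd W γ p c k = TwCech.dT W (γ k) p (c k) := rfl

/-- Multiplication by a family of weight `a`. -/
noncomputable def gmul (s : ∀ j, Γ(X, W j)) (a : ℤ) (p : ℕ) : Module.End ℤ (GN W p) :=
  LinearMap.pi fun k => (TwCech.mulF W s p).toIntLinearMap.comp (LinearMap.proj (k - a))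

lemma gmul_apply (s : ∀ j, Γ(X, W j)) (a : ℤ) (p : ℕ) (c : GN W p) (k : ℤ) :
    gmul W s a p c k = TwCech.mulF W s p (c (k - a)) := rfl

/-- Cochains of weight `k`. -/
def gF (p k : ℕ) : Submodule ℤ (GN W p) where
  carrier := {c | ∀ l : ℤ, l ≠ (k : ℤ) → c l = 0}
  zero_mem' := fun _ _ => rfl
  add_mem' := fun hx hy l hl => by
    rw [Pi.add_apply, hx l hl, hy l hl, add_zero]
  smul_mem' := fun n x hx l hl => by
    rw [Pi.smul_apply, hx l hl, smul_zero]

lemma mem_gF {p k : ℕ} {c : GN W p} : c ∈ gF W p k ↔ ∀ l : ℤ, l ≠ (k : ℤ) → c l = 0 := Iff.rfl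

/-- The transition functions of weight `k`. -/
noncomputable def gam {g : ∀ i j, Γ(X, W i ⊓ W j)} (hu : ∀ i j, IsUnit (g i j)) (k : ℤ) (i j : ι) :
    Γ(X, W i ⊓ W j) := (((hu i j).unit ^ k : Γ(X, W i ⊓ W j)ˣ) : Γ(X, W i ⊓ W j))

variable {W}

lemma gam_natCast {g : ∀ i j, Γ(X, W i ⊓ W j)} (hu : ∀ i j, IsUnit (g i j)) (k : ℕ) :
    gam W hu (k : ℤ) = fun i j => g i j ^ k := by
  funext i j
  rw [gam, zpow_natCast, Units.val_pow_eq_pow_val, IsUnit.unit_spec]

lemma gam_sub {g : ∀ i j, Γ(X, W i ⊓ W j)} (hu : ∀ i j, IsUnit (g i j)) (k : ℤ) (a : ℕ) :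
    gam W hu k = fun i j => gam W hu (k - a) i j * g i j ^ a := by
  funext i j
  have h : (hu i j).unit ^ k = (hu i j).unit ^ (k - a) * (hu i j).unit ^ a := by
    rw [← zpow_natCast, ← zpow_add, sub_add_cancel]
  rw [gam, h, Units.val_mul, Units.val_pow_eq_pow_val, IsUnit.unit_spec]
  rfl

lemma gam_self {L : X.Modules} {g : ∀ i j, Γ(X, W i ⊓ W j)} (hT : Trivs L W g) (k : ℤ) (i : ι) :
    gam W hT.isUnit k i i = 1 := by
  have h : (hT.isUnit i i).unit = 1 := Units.ext (by rw [IsUnit.unit_spec, hT.self]; rfl)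
  rw [gam, h, one_zpow, Units.val_one]

lemma gam_cocycle {L : X.Modules} {g : ∀ i j, Γ(X, W i ⊓ W j)} (hT : Trivs L W g) (k : ℤ)
    (i j l : ι) (T : X.Opens) (hi : T ≤ W i) (hj : T ≤ W j) (hl : T ≤ W l) :
    ores (le_inf hi hl) (gam W hT.isUnit k i l) =
      ores (le_inf hi hj) (gam W hT.isUnit k i j) * ores (le_inf hj hl) (gam W hT.isUnit k j l) := by
  have key : ∀ (i j : ι) (h : T ≤ W i ⊓ W j), ores h (gam W hT.isUnit k i j) =
      ((Units.map (ores h).toMonoidHom (hT.isUnit i j).unit ^ k : Γ(X, T)ˣ) : Γ(X, T)) := by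
    intro i j h
    rw [gam, ← map_zpow]
    rfl
  rw [key, key, key, ← Units.val_mul, ← mul_zpow]
  congr 2
  refine Units.ext ?_
  change ores _ (g i l) = ores _ (g i j) * ores _ (g j l)
  exact (hT.cocycle i j l hi hj hl).symm

end Graded

section Main

variable {X : Scheme.{u}} {ι : Type u} {W : ι → X.Opens}

lemma isAffineOpen_iInf [X.IsSeparated] (hW : ∀ j, IsAffineOpen (W j)) :
    ∀ (p : ℕ) (a : Fin (p + 1) → ι), IsAffineOpen (iInf fun k => W (a k))
  | 0, a => by
      have : (iInf fun k => W (a k)) = W (a 0) := by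
        refine le_antisymm (iInf_le _ 0) (le_iInf fun k => ?_)
        rw [Fin.fin_one_eq_zero k]
      rw [this]
      exact hW _
  | p + 1, a => by
      have : (iInf fun k => W (a k)) = W (a 0) ⊓ iInf fun k => W (a (Fin.succ k)) := by
        refine le_antisymm (le_inf (iInf_le _ 0) (le_iInf fun k => iInf_le _ (Fin.succ k)))
          (le_iInf fun k => ?_)
        refine Fin.cases inf_le_left (fun k => inf_le_right.trans (iInf_le _ k)) k
      rw [this]
      exact (hW _).inf (isAffineOpen_iInf hW p _)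

variable {L : X.Modules} {g : ∀ i j, Γ(X, W i ⊓ W j)}

/-- The data of the chase. -/
theorem chaseData [X.IsSeparated] (hT : Trivs L W g) (hW : ∀ j, IsAffineOpen (W j)) (k₀ : ℕ)
    (hH : ∀ k, k₀ ≤ k → ∀ p : ℕ, 0 < p → Subsingleton (Coh.HHon X (CohB1.tensorPow L k) ⊤ p))
    {J : Type} [Fintype J] [DecidableEq J] (d : ℕ) (s t : J → ∀ j, Γ(X, W j))
    (hs : ∀ l, IsFam W (fun i j => g i j ^ d) (s l)) (hst : ∀ j, ∑ l, s l j * t l j = 1) :
    KoszulChase.Data (R := ℤ) (J := J) (N := GN W) (gd W (gam W hT.isUnit))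
      (fun p l => gmul W (s l) d p) (fun p l => gmul W (t l) (-d) p) (gF W) d k₀ where
  hdd p x := by
    funext k
    rw [gd_apply, gd_apply, TwCech.dT_dT W (gam_self hT k) (gam_cocycle hT k)]
    rfl
  hdσ p l x := by
    funext k
    rw [gd_apply, gmul_apply, gmul_apply, gam_sub hT.isUnit k d]
    exact TwCech.dT_mulF W _ _ (s l) (hs l) p _
  hσσ p i j x := by
    funext k
    rw [gmul_apply, gmul_apply, gmul_apply, gmul_apply]
    funext τ
    simp only [TwCech.mulF_apply]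
    ring
  hσε p i j x := by
    funext k
    rw [gmul_apply, gmul_apply, gmul_apply, gmul_apply]
    have h1 : k - (d : ℤ) - -(d : ℤ) = k := by ring
    have h2 : k - -(d : ℤ) - (d : ℤ) = k := by ring
    rw [h1, h2]
    funext τ
    simp only [TwCech.mulF_apply]
    ring
  hone p x := by
    funext k
    rw [Finset.sum_apply]
    have h1 : k - (d : ℤ) - -(d : ℤ) = k := by ring
    simp only [gmul_apply, h1]
    funext τ
    rw [Finset.sum_apply]
    simp only [TwCech.mulF_apply, ← mul_assoc, ← map_mul]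
    rw [← Finset.sum_mul, ← map_sum, hst, map_one, one_mul]
  hdF p k x hx l hl := by
    rw [gd_apply, hx l hl, map_zero]
  hσF p j k x hx l hl := by
    have : x (l - d) = 0 := hx _ (fun h => hl (by push_cast; linarith))
    rw [gmul_apply, this, map_zero]
  hεF p j k x hx l hl := by
    have : x (l - -(d : ℤ)) = 0 := hx _ (fun h => hl (by push_cast at h; linarith))
    rw [gmul_apply, this, map_zero]
  hex p k hk x hx hdx := by
    have hT' := hT.tensorPow k
    have : Coh.IsQCoh (CohB1.tensorPow L k) := Ega2.QCohLocal.isQCoh_of_isInvertible hT'.isInvertible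
    have h1 : TwCech.dT W (fun i j => g i j ^ k) (p + 1) (x k) = 0 := by
      have := congrFun hdx (k : ℤ)
      rw [gd_apply, gam_natCast] at this
      exact this
    obtain ⟨b, hb⟩ := TwCech.exact_dT W hT.iSup_eq (isAffineOpen_iInf hW) hT' p
      (hH k hk (p + 1) (Nat.succ_pos p)) (x k) h1
    refine ⟨Pi.single (k : ℤ) b, fun l hl => Pi.single_eq_of_ne hl _, ?_⟩
    funext l
    rw [gd_apply]
    by_cases hl : l = k
    · subst hl
      rw [Pi.single_eq_same, gam_natCast, hb]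
    · rw [Pi.single_eq_of_ne hl, map_zero, hx l hl]

end Main

section Zero

variable {X : Scheme.{u}} {ι : Type u} {W : ι → X.Opens}

/-- The 0-cochain of a family. -/
noncomputable def zc (x : ∀ j, Γ(X, W j)) : TwCech.Fun W 0 :=
  fun τ => ores (TwCech.le_zero W τ) (x (τ 0))

lemma le_const (W : ι → X.Opens) (j : ι) : W j ≤ ⨅ a : Fin (0 + 1), W ((fun _ => j : Fin (0 + 1) → ι) a) :=
  le_iInf fun _ => le_rfl

/-- The family of a 0-cochain. -/
noncomputable def cz (c : TwCech.Fun W 0) : ∀ j, Γ(X, W j) :=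
  fun j => ores (le_const W j) (c (fun _ => j))

lemma cz_zc (x : ∀ j, Γ(X, W j)) : cz (zc x) = x := by
  funext j
  rw [cz, zc, ores_ores, ores_refl]

lemma cz_add (c c' : TwCech.Fun W 0) : cz (c + c') = fun j => cz c j + cz c' j := by
  funext j
  rw [cz, Pi.add_apply, map_add]; rfl

lemma cz_zero : cz (0 : TwCech.Fun W 0) = fun _ => 0 := by
  funext j
  rw [cz, Pi.zero_apply, map_zero]

lemma cz_sum {J : Type} (S : Finset J) (c : J → TwCech.Fun W 0) :
    cz (∑ l ∈ S, c l) = fun j => ∑ l ∈ S, cz (c l) j := by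
  funext j
  rw [cz, Finset.sum_apply, map_sum]; rfl

lemma cz_mulF (s : ∀ j, Γ(X, W j)) (c : TwCech.Fun W 0) :
    cz (TwCech.mulF W s 0 c) = fun j => s j * cz c j := by
  funext j
  rw [cz, TwCech.mulF_apply, map_mul, ores_ores, ores_refl]; rfl

lemma ores_cz (c : TwCech.Fun W 0) (τ : Fin (0 + 1) → ι) {V : X.Opens} (h : V ≤ ⨅ a, W (τ a))
    (h' : V ≤ W (τ 0)) : ores h (c τ) = ores h' (cz c (τ 0)) := by
  have hτ : τ = fun _ => τ 0 := funext fun k => by rw [Fin.fin_one_eq_zero k]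
  generalize hj : τ 0 = j at hτ h'
  subst hτ
  rw [cz, ores_ores]

lemma dT_zero_apply (γ : ∀ i j, Γ(X, W i ⊓ W j)) (hγ : ∀ i, γ i i = 1) (c : TwCech.Fun W 0)
    (τ : Fin (0 + 2) → ι) (h : ⨅ a, W (τ a) ≤ W (τ 1) ⊓ W (τ 0)) :
    TwCech.dT W γ 0 c τ = ores h (γ (τ 1) (τ 0)) * ores (h.trans inf_le_left) (cz c (τ 1)) -
      ores (h.trans inf_le_right) (cz c (τ 0)) := by
  rw [TwCech.dT_apply, Fin.sum_univ_two]
  simp only [Fin.val_zero, pow_zero, one_smul, Fin.val_one, pow_one, neg_smul]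
  rw [ores_cz c (τ ∘ Fin.succAbove 0) _ (h.trans inf_le_left),
    ores_cz c (τ ∘ Fin.succAbove 1) _ (h.trans inf_le_right), sub_eq_add_neg]
  congr 1
  congr 1
  have h1 := hγ (τ 0)
  change ores _ (γ (τ 0) (τ 0)) * ores _ (cz c (τ 0)) = _
  rw [h1, map_one, one_mul]

lemma isFam_cz {γ : ∀ i j, Γ(X, W i ⊓ W j)} (hγ : ∀ i, γ i i = 1) {c : TwCech.Fun W 0}
    (hc : TwCech.dT W γ 0 c = 0) : IsFam W γ (cz c) := by
  intro i j
  have hle : ⨅ a, W ((![j, i] : Fin (0 + 2) → ι) a) ≤ W i ⊓ W j :=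
    le_inf (iInf_le _ 1) (iInf_le _ 0)
  have hle' : W i ⊓ W j ≤ ⨅ a, W ((![j, i] : Fin (0 + 2) → ι) a) := by
    refine le_iInf fun a => ?_
    fin_cases a
    · exact inf_le_right
    · exact inf_le_left
  have h1 := congrFun hc (![j, i] : Fin (0 + 2) → ι)
  rw [dT_zero_apply γ hγ c _ hle] at h1
  have h2 : ores hle (γ i j) * ores (hle.trans inf_le_left) (cz c i) =
    ores (hle.trans inf_le_right) (cz c j) := sub_eq_zero.1 h1
  have h3 := congrArg (ores hle') h2
  rw [map_mul, ores_ores, ores_ores, ores_ores, ores_refl] at h3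
  rw [mul_comm]
  exact h3

lemma dT_zc {γ : ∀ i j, Γ(X, W i ⊓ W j)} (hγ : ∀ i, γ i i = 1) {x : ∀ j, Γ(X, W j)}
    (hx : IsFam W γ x) : TwCech.dT W γ 0 (zc x) = 0 := by
  funext τ
  have hle : ⨅ a, W (τ a) ≤ W (τ 1) ⊓ W (τ 0) := le_inf (iInf_le _ 1) (iInf_le _ 0)
  rw [dT_zero_apply γ hγ _ _ hle, cz_zc]
  have h1 := congrArg (ores hle) (hx (τ 1) (τ 0))
  simp only [map_mul, ores_ores] at h1
  rw [mul_comm, h1, sub_self]
  rfl

end Zero

section Final

variable {X : Scheme.{u}} {ι : Type u} {W : ι → X.Opens}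

/-- Partition of unity on the charts. -/
lemma exists_partition {L : X.Modules} {g : ∀ i j, Γ(X, W i ⊓ W j)} (hT : Trivs L W g)
    (hW : ∀ j, IsAffineOpen (W j)) {J : Type} [Fintype J] (d : ℕ) (s : J → ∀ j, Γ(X, W j))
    (hs : ∀ l, IsFam W (fun i j => g i j ^ d) (s l))
    (hcov : ∀ x : X, ∃ (l : J) (j : ι), x ∈ X.basicOpen (s l j)) :
    ∃ t : J → ∀ j, Γ(X, W j), ∀ j, ∑ l, s l j * t l j = 1 := by
  have key : ∀ j, ∃ c : J → Γ(X, W j), ∑ l, s l j * c l = 1 := by
    intro j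
    have h1 : Ideal.span (Set.range fun l => s l j) = ⊤ := by
      rw [← IsAffineOpen.iSup_basicOpen_eq_self_iff (hW j)]
      refine le_antisymm (iSup_le fun f => X.basicOpen_le _) fun x hx => ?_
      obtain ⟨l, i, hl⟩ := hcov x
      refine Opens.mem_iSup.2 ⟨⟨s l j, l, rfl⟩, ?_⟩
      have hxi : x ∈ W i := X.basicOpen_le _ hl
      have h2 := hs l i j
      have h3 : X.basicOpen (ores (inf_le_left : W i ⊓ W j ≤ W i) (s l i) * g i j ^ d) =
          X.basicOpen (ores (inf_le_right : W i ⊓ W j ≤ W j) (s l j)) := by rw [h2]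
      rw [Scheme.basicOpen_mul, basicOpen_res, basicOpen_res,
        X.basicOpen_of_isUnit ((hT.isUnit i j).pow d)] at h3
      have h4 : x ∈ (W i ⊓ W j ⊓ X.basicOpen (s l i)) ⊓ (W i ⊓ W j) := ⟨⟨⟨hxi, hx⟩, hl⟩, hxi, hx⟩
      rw [h3] at h4
      exact h4.2
    have h2 : (1 : Γ(X, W j)) ∈ Ideal.span (Set.range fun l => s l j) := by
      rw [h1]; exact Submodule.mem_top
    rw [Ideal.mem_span_range_iff_exists_fun] at h2
    obtain ⟨c, hc⟩ := h2
    refine ⟨c, ?_⟩
    rw [← hc]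
    exact Finset.sum_congr rfl fun l _ => mul_comm _ _
  choose t ht using key
  exact ⟨fun l j => t j l, ht⟩

variable {R : Type u} [CommRing R]

/-- **(F3)** Generators and relations for families in large weights. -/
theorem koszul_fam (a : X ⟶ Spec (CommRingCat.of R)) [IsProper a] {L : X.Modules}
    {g : ∀ i j, Γ(X, W i ⊓ W j)} (hT : Trivs L W g) (hW : ∀ j, IsAffineOpen (W j)) (k₀ : ℕ)
    (hH : ∀ k, k₀ ≤ k → ∀ p : ℕ, 0 < p → Subsingleton (Coh.HHon X (CohB1.tensorPow L k) ⊤ p))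
    {J : Type} [Fintype J] [DecidableEq J] (d : ℕ) (s : J → ∀ j, Γ(X, W j))
    (hs : ∀ l, IsFam W (fun i j => g i j ^ d) (s l))
    (hcov : ∀ x : X, ∃ (l : J) (j : ι), x ∈ X.basicOpen (s l j))
    (K : ℕ) (hK : k₀ + (Fintype.card J + 2) * d ≤ K) :
    (∀ x, IsFam W (fun i j => g i j ^ K) x → ∃ y : J → ∀ j, Γ(X, W j),
      (∀ l, IsFam W (fun i j => g i j ^ (K - d)) (y l)) ∧ ∀ j, x j = ∑ l, s l j * y l j) ∧
    (∀ y : J → ∀ j, Γ(X, W j), (∀ l, IsFam W (fun i j => g i j ^ (K - d)) (y l)) →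
      (∀ j, ∑ l, s l j * y l j = 0) → ∃ z : J → J → ∀ j, Γ(X, W j),
        (∀ l m, IsFam W (fun i j => g i j ^ (K - 2 * d)) (z l m)) ∧
        (∀ l m j, z l m j + z m l j = 0) ∧ (∀ l j, z l l j = 0) ∧
        ∀ l j, y l j = ∑ m, s m j * z l m j) := by
  have hsep : X.IsSeparated := by
    have h1 : IsSeparated (a ≫ Limits.terminal.from _) := inferInstance
    have h2 : a ≫ Limits.terminal.from _ = Limits.terminal.from X := Limits.terminal.hom_ext _ _
    rw [h2] at h1
    exact ⟨h1⟩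
  obtain ⟨t, ht⟩ := exists_partition hT hW d s hs hcov
  have D := chaseData hT hW k₀ hH d s t hs ht
  have hKd : d ≤ K := by
    have : 2 * d ≤ (Fintype.card J + 2) * d := Nat.mul_le_mul_right d (by omega)
    omega
  have hKd2 : 2 * d ≤ K := by
    have : 2 * d ≤ (Fintype.card J + 2) * d := Nat.mul_le_mul_right d (by omega)
    omega
  have hself : ∀ (k : ℕ) (i : ι), (fun i j => g i j ^ k : ∀ i j, Γ(X, W i ⊓ W j)) i i = 1 := by
    intro k i
    change g i i ^ k = 1
    rw [hT.self, one_pow]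
  have hfam : ∀ (k : ℕ) (c : GN W 0), gd W (gam W hT.isUnit) 0 c = 0 →
      IsFam W (fun i j => g i j ^ k) (cz (c (k : ℤ))) := by
    intro k c hc
    have h1 := congrFun hc (k : ℤ)
    rw [gd_apply, gam_natCast] at h1
    exact isFam_cz (hself k) h1
  have hfam' : ∀ (k : ℕ) (x : ∀ j, Γ(X, W j)), IsFam W (fun i j => g i j ^ k) x →
      gd W (gam W hT.isUnit) 0 (Pi.single (k : ℤ) (zc x)) = 0 := by
    intro k x hx
    funext l
    rw [gd_apply]
    by_cases hl : l = k
    · subst hl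
      rw [Pi.single_eq_same, gam_natCast, dT_zc (hself k) hx]
      rfl
    · rw [Pi.single_eq_of_ne hl, map_zero]
      rfl
  have hmemF : ∀ (k : ℕ) (x : ∀ j, Γ(X, W j)), (Pi.single (k : ℤ) (zc x) : GN W 0) ∈ gF W 0 k :=
    fun k x l hl => Pi.single_eq_of_ne hl _
  have hc1 : (K : ℤ) - (d : ℤ) = ((K - d : ℕ) : ℤ) := by omega
  have hc2 : ((K - d : ℕ) : ℤ) - (d : ℤ) = ((K - 2 * d : ℕ) : ℤ) := by omega
  refine ⟨fun x hx => ?_, fun y hy hsum => ?_⟩
  · obtain ⟨y, hy1, hy2, hy3⟩ := KoszulChase.exists_K1 D K hK (Pi.single (K : ℤ) (zc x))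
      (hmemF K x) (hfam' K x hx)
    refine ⟨fun l => cz (y l ((K - d : ℕ) : ℤ)), fun l => hfam _ _ (hy2 l), fun j => ?_⟩
    have h1 := congrFun hy3 (K : ℤ)
    rw [Pi.single_eq_same, Finset.sum_apply] at h1
    simp only [gmul_apply, hc1] at h1
    have h2 := congrFun (congrArg cz h1) j
    rw [cz_zc, cz_sum] at h2
    simp only [cz_mulF] at h2
    exact h2
  · obtain ⟨z, hz1, hz2, hz3, hz4, hz5⟩ := KoszulChase.exists_K2 D K hK
      (fun l => Pi.single ((K - d : ℕ) : ℤ) (zc (y l))) (fun l => hmemF _ _)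
      (fun l => hfam' _ _ (hy l)) (by
        funext k
        rw [Finset.sum_apply]
        simp only [gmul_apply]
        by_cases hk : k = K
        · subst hk
          simp only [hc1, Pi.single_eq_same]
          funext τ
          rw [Finset.sum_apply]
          have h1 := congrArg (ores (TwCech.le_zero W τ)) (hsum (τ 0))
          simp only [map_sum, map_mul, map_zero] at h1
          exact h1
        · refine Finset.sum_eq_zero fun l _ => ?_
          rw [Pi.single_eq_of_ne (fun h => hk (by omega)), map_zero])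
    refine ⟨fun l m => cz (z l m ((K - 2 * d : ℕ) : ℤ)), fun l m => hfam _ _ (hz2 l m),
      fun l m j => ?_, fun l j => ?_, fun l j => ?_⟩
    · have h1 := congrFun (congrArg cz (congrFun (hz3 l m) ((K - 2 * d : ℕ) : ℤ))) j
      rw [Pi.add_apply, cz_add, Pi.zero_apply, cz_zero] at h1
      exact h1
    · have h1 := congrFun (congrArg cz (congrFun (hz4 l) ((K - 2 * d : ℕ) : ℤ))) j
      rw [Pi.zero_apply, cz_zero] at h1
      exact h1
    · have h1 := congrFun (hz5 l) ((K - d : ℕ) : ℤ)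
      rw [Pi.single_eq_same, Finset.sum_apply] at h1
      simp only [gmul_apply, hc2] at h1
      have h2 := congrFun (congrArg cz h1) j
      rw [cz_zc, cz_sum] at h2
      simp only [cz_mulF] at h2
      exact h2

end Final

end Groth.Agent.Picfga.Level
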