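import Groth.Agent.Ega3B.AcyclicBC
import Groth.Agent.CohqA.HOpen
import Groth.Agent.Picfga.LevelIface
import Groth.Agent.PerfB.StructFlat
import Groth.Agent.Models2.FlatIso
import Groth.Agent.Ega3B.FlatRestrict
import Groth.Agent.Sga4B.PicAffine

/-!
# Lifting sections of powers of an invertible module (item (F2) of S1155)
-/

set_option autoImplicit false
universe u

open CategoryTheory CategoryTheory.Limits AlgebraicGeometry Opposite TopologicalSpace TensorProduct

namespace Groth.Agent.Picfga.LiftFam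

open Groth.Agent.Ega3B Groth.Agent.VarietyB.FlatH0 Groth.Agent.VarietyB.BCAlg
  Groth.Agent.VarietyB.PullSec
open Groth.Agent.Fdesc.LocGen Groth.Agent.Flat2H.FamExt Groth.Agent.Flat2H.FamDict
  Groth.Agent.Picfga.Level

theorem isFlatOver_of_isInvertible {X S : Scheme.{u}} (f : X ⟶ S) [Flat f] {L : X.Modules}
    (hL : PicF.IsInvertible L) : FlatMod.IsFlatOver f L := by
  intro x
  obtain ⟨U, hxU, ⟨e⟩⟩ := hL x
  have h1 : FlatMod.IsFlatOver (U.ι ≫ f) (Coh.structureModule (U : Scheme.{u})) :=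
    PerfB.StructFlat.isFlatOver_structure _
  have h2 := Models2.FlatIso.isFlatOver_of_iso (U.ι ≫ f) e.symm h1 ⟨x, hxU⟩
  exact (Ega3B.FlatRestrict.isFlatOverAt_restrict_iff_comp f U.ι L ⟨x, hxU⟩).1 h2

section dict

variable {X : Scheme.{u}} {M : X.Modules} {ι : Type*} {W : ι → X.Opens}
  {g : ∀ i j, Γ(X, W i ⊓ W j)} (e : ∀ j, Γ(M, W j)) (he : ∀ j, IsGen (e j))
  (hg : ∀ i j, res M inf_le_left (e i) = g i j • res M inf_le_right (e j))

include he hg

/-- a global section gives a family -/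
lemma exists_fam (m : Γ(M, ⊤)) : ∃ b : ∀ j, Γ(X, W j), IsFam W g b ∧
    ∀ j, res M le_top m = b j • e j := by
  choose b hb using fun j ↦ (he j).exists_eq (res M (le_top : W j ≤ ⊤) m)
  refine ⟨b, ?_, hb⟩
  intro i j
  have h1 : res M inf_le_left (res M (le_top : W i ≤ ⊤) m) =
      res M (inf_le_right : W i ⊓ W j ≤ W j) (res M (le_top : W j ≤ ⊤) m) := by
    rw [res_res, res_res]
  rw [hb i, hb j, res_smul, res_smul, hg i j, smul_smul] at h1
  exact ((he j).res inf_le_right).ext h1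

omit he in
/-- a family gives a global section -/
lemma exists_sec (hcov : ⨆ i, W i = ⊤) (b : ∀ j, Γ(X, W j)) (hb : IsFam W g b) :
    ∃ m : Γ(M, ⊤), ∀ j, res M le_top m = b j • e j := by
  refine res_glue M W (V := ⊤) (fun _ ↦ le_top) hcov.ge (fun j ↦ b j • e j) ?_
  intro i j
  rw [res_smul, res_smul, hg i j, smul_smul, hb i j]

end dict

section alg

variable {A B N : Type*} [CommRing A] [CommRing B] [Algebra A B] [AddCommGroup N] [Module A N]

lemma mem_smul_of_one_tmul_eq_zero (h : Function.Surjective (algebraMap A B)) (n : N)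
    (hn : (1 : B) ⊗ₜ[A] n = 0) : n ∈ RingHom.ker (algebraMap A B) • (⊤ : Submodule A N) := by
  rw [← LinearMap.ker_tensorProductMk, LinearMap.mem_ker, TensorProduct.mk_apply]
  let φ : (A ⧸ RingHom.ker (algebraMap A B)) ≃ₐ[A] B :=
    Ideal.quotientKerAlgEquivOfSurjective (f := Algebra.ofId A B) h
  have h1 : (φ.symm.toLinearMap.rTensor N) ((1 : B) ⊗ₜ[A] n) = 1 ⊗ₜ[A] n := by
    simp
  rw [← h1, hn, map_zero]

end alg

section main

variable {R : Type u} [CommRing R] {X : Scheme.{u}} {ι : Type*}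

lemma subsingleton_HH (X : Scheme.{u}) (M : X.Modules) (n : ℕ)
    (h : Subsingleton (Coh.HHon X M ⊤ n)) : Subsingleton (Coh.HH X M n) :=
  ((CohqA.HOpen.HHTopEquiv M n).trans (CohqA.HOpen.HHonEquiv M ⊤ n)).toEquiv.subsingleton

lemma appLE_specMap {R' : Type u} [CommRing R'] (t : R' →+* R)
    (h : (⊤ : (Spec (CommRingCat.of R)).Opens) ≤ Spec.map (CommRingCat.ofHom t) ⁻¹ᵁ ⊤) :
    (Spec.map (CommRingCat.ofHom t)).appLE ⊤ ⊤ h = (Scheme.ΓSpecIso (CommRingCat.of R')).hom ≫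
      CommRingCat.ofHom t ≫ (Scheme.ΓSpecIso (CommRingCat.of R)).inv := by
  rw [← Scheme.ΓSpecIso_naturality_assoc, Iso.hom_inv_id, Category.comp_id]
  exact Scheme.Hom.appLE_eq_app _

/-- pullback of sections for the cartesian square over a surjection of rings. -/
theorem lift_global {R' : Type u} [CommRing R'] (t : R' →+* R) (ht : Function.Surjective t)
    {X' : Scheme.{u}} (a : X ⟶ Spec (CommRingCat.of R)) (a' : X' ⟶ Spec (CommRingCat.of R'))
    [IsProper a'] (i : X ⟶ X') (hc : IsPullback i a a' (Spec.map (CommRingCat.ofHom t)))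
    (M : X'.Modules) (hM : Coh.IsQCoh M) (hfl : FlatMod.IsFlatOver a' M)
    (hH : ∀ p, Subsingleton (Coh.HH X' M (p + 1))) :
    (∀ m : Γ((Scheme.Modules.pullback i).obj M, ⊤), ∃ m' : Γ(M, ⊤),
      sec i M (le_top : (⊤ : X.Opens) ≤ i ⁻¹ᵁ ⊤) m' = m) ∧
    (∀ m' : Γ(M, ⊤), sec i M (le_top : (⊤ : X.Opens) ≤ i ⁻¹ᵁ ⊤) m' = 0 →
      letI := modOver a' M (US := ⊤) (UX := ⊤) le_top
      letI := algOver (Spec.map (CommRingCat.ofHom t)) (US := ⊤) (UT := ⊤) le_top
      m' ∈ RingHom.ker (algebraMap Γ(Spec (CommRingCat.of R'), ⊤) Γ(Spec (CommRingCat.of R), ⊤)) •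
        (⊤ : Submodule Γ(Spec (CommRingCat.of R'), ⊤) Γ(M, ⊤))) := by
  obtain ⟨-, hbc, -⟩ := AcyclicBC.acyclicBC hc M hM hfl hH
  let i1 := modOver a' M (US := ⊤) (UX := ⊤) le_top
  let i2 := algOver (Spec.map (CommRingCat.ofHom t)) (US := ⊤) (UT := ⊤) le_top
  let i3 := modOver a ((Scheme.Modules.pullback i).obj M) (US := ⊤) (UX := ⊤) le_top
  have hs : Function.Surjective (algebraMap Γ(Spec (CommRingCat.of R'), ⊤)
      Γ(Spec (CommRingCat.of R), ⊤)) := by
    change Function.Surjective ((Spec.map (CommRingCat.ofHom t)).appLE ⊤ ⊤ _)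
    rw [appLE_specMap]
    exact ((ConcreteCategory.bijective_of_isIso (Scheme.ΓSpecIso (CommRingCat.of R)).inv).2.comp
      ht).comp (ConcreteCategory.bijective_of_isIso (Scheme.ΓSpecIso (CommRingCat.of R')).hom).2
  constructor
  · intro m
    obtain ⟨z, hz⟩ := hbc.2 m
    obtain ⟨m', rfl⟩ := TensorProduct.mk_surjective _ Γ(M, ⊤) _ hs z
    refine ⟨m', ?_⟩
    rw [TensorProduct.mk_apply, bc_tmul, one_smul] at hz
    exact hz
  · intro m' hm'
    refine mem_smul_of_one_tmul_eq_zero hs m' ?_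
    apply hbc.1
    rw [map_zero, bc_tmul, one_smul]
    exact hm'


lemma str_hom {R' : Type u} [CommRing R'] {X' : Scheme.{u}} (a' : X' ⟶ Spec (CommRingCat.of R'))
    (U : X'.Opens) (r : Γ(Spec (CommRingCat.of R'), ⊤)) :
    str a' U ((Scheme.ΓSpecIso (CommRingCat.of R')).hom r) = a'.appLE ⊤ U le_top r := by
  rw [str, RingHom.comp_apply]
  congr 1
  exact congr($((Scheme.ΓSpecIso (CommRingCat.of R')).hom_inv_id) r)

lemma sec_eq_pullSec {Y Z : Scheme.{u}} (i : Y ⟶ Z) {M : Z.Modules} {U : Z.Opens} (m : Γ(M, U)) :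
    sec i M (le_rfl : i ⁻¹ᵁ U ≤ i ⁻¹ᵁ U) m = pullSec i m :=
  res_refl _ _

/-- **(F2)** sections of powers of `L` lift along a thickening of the base if the higher cohomology
vanishes, and the sections which restrict to zero are in `ker t` times the sections. -/
theorem exists_lift_fam {R' : Type u} [CommRing R'] (t : R' →+* R) (ht : Function.Surjective t)
    {X' : Scheme.{u}} (a : X ⟶ Spec (CommRingCat.of R)) (a' : X' ⟶ Spec (CommRingCat.of R'))
    [IsProper a'] [Flat a'] (i : X ⟶ X') (hc : IsPullback i a a' (Spec.map (CommRingCat.ofHom t)))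
    {L' : X'.Modules} {W' : ι → X'.Opens} {g' : ∀ i j, Γ(X', W' i ⊓ W' j)} (hT : Trivs L' W' g')
    (W : ι → X.Opens) (hW : ∀ j, i ⁻¹ᵁ W' j = W j)
    (g : ∀ i j, Γ(X, W i ⊓ W j))
    (hg : ∀ j l, i.appLE (W' j ⊓ W' l) (W j ⊓ W l) (inf_le_inf (hW j).ge (hW l).ge) (g' j l) = g j l)
    (k : ℕ) (hH : ∀ p : ℕ, 0 < p → Subsingleton (Coh.HHon X' (CohB1.tensorPow L' k) ⊤ p)) :
    (∀ b : Fam a W g k, ∃ b' : Fam a' W' g' k, ∀ j, i.appLE (W' j) (W j) (hW j).ge (b'.1 j) = b.1 j) ∧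
    (∀ b' : Fam a' W' g' k, (∀ j, i.appLE (W' j) (W j) (hW j).ge (b'.1 j) = 0) →
      b' ∈ RingHom.ker t • (⊤ : Submodule R' (Fam a' W' g' k))) := by
  obtain rfl : W = fun j => i ⁻¹ᵁ W' j := funext fun j => (hW j).symm
  obtain rfl : g = fun j l => i.appLE (W' j ⊓ W' l) (i ⁻¹ᵁ W' j ⊓ i ⁻¹ᵁ W' l)
    (inf_le_inf (hW j).ge (hW l).ge) (g' j l) := by
    funext j l
    exact (hg j l).symm
  have hinv : PicF.IsInvertible (CohB1.tensorPow L' k) := (hT.tensorPow k).isInvertible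
  have hMq : Coh.IsQCoh (CohB1.tensorPow L' k) := Sga4B.PicAffine.isQuasicoherent_of_isInvertible _ hinv
  have hfl := isFlatOver_of_isInvertible a' hinv
  have hvan : ∀ p, Subsingleton (Coh.HH X' (CohB1.tensorPow L' k) (p + 1)) := fun p =>
    subsingleton_HH X' _ (p + 1) (hH (p + 1) (Nat.succ_pos p))
  obtain ⟨h1, h2⟩ := lift_global t ht a a' i hc (CohB1.tensorPow L' k) hMq hfl hvan
  have hcov := hT.iSup_eq
  have hcov' : ⨆ j, i ⁻¹ᵁ W' j = ⊤ := by
    rw [← Scheme.Hom.preimage_iSup, hcov]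
    rfl
  obtain ⟨-, e, he, hge⟩ := hT.tensorPow k
  have he' : ∀ j, IsGen (pullSec i (e j)) := fun j => (he j).pullSec i
  have hge' : ∀ j l, res _ inf_le_left (pullSec i (e j)) =
      (i.appLE (W' j ⊓ W' l) (i ⁻¹ᵁ W' j ⊓ i ⁻¹ᵁ W' l)
        (inf_le_inf (hW j).ge (hW l).ge) (g' j l)) ^ k • res _ inf_le_right (pullSec i (e l)) := by
    intro j l
    have h := congrArg (pullSec i) (hge j l)
    rw [pullSec_smul, ← res_pullSec, ← res_pullSec, map_pow] at h
    have h3 : i.appLE (W' j ⊓ W' l) (i ⁻¹ᵁ W' j ⊓ i ⁻¹ᵁ W' l) (inf_le_inf (hW j).ge (hW l).ge) =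
      i.app (W' j ⊓ W' l) := Scheme.Hom.appLE_eq_app _
    rw [h3]
    exact h
  have key : ∀ (m' : Γ(CohB1.tensorPow L' k, ⊤)) (j : ι),
      res _ (le_top : i ⁻¹ᵁ W' j ≤ ⊤) (sec i (CohB1.tensorPow L' k)
        (le_top : (⊤ : X.Opens) ≤ i ⁻¹ᵁ ⊤) m') = pullSec i (res _ (le_top : W' j ≤ ⊤) m') := by
    intro m' j
    rw [← sec_eq_pullSec]
    exact sec_res i (CohB1.tensorPow L' k) _ _ _ _ m'
  have key' : ∀ (j : ι) (c : Γ(X', W' j)), pullSec i (c • e j) =
      (i.appLE (W' j) (i ⁻¹ᵁ W' j) (hW j).ge c) • pullSec i (e j) := by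
    intro j c
    have h3 : i.appLE (W' j) (i ⁻¹ᵁ W' j) (hW j).ge = i.app (W' j) := Scheme.Hom.appLE_eq_app _
    rw [pullSec_smul, h3]
  constructor
  · intro b
    obtain ⟨m, hm⟩ := exists_sec (fun j => pullSec i (e j)) hge' hcov' b.1 b.2
    obtain ⟨m', hm'⟩ := h1 m
    obtain ⟨b', hb', hb''⟩ := exists_fam e he hge m'
    refine ⟨⟨b', hb'⟩, fun j => (he' j).ext ?_⟩
    rw [← key', ← hb'' j, ← key, hm']
    exact hm j
  · intro b' hb'
    obtain ⟨m', hm'⟩ := exists_sec e hge hcov b'.1 b'.2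
    have h0 : sec i (CohB1.tensorPow L' k) (le_top : (⊤ : X.Opens) ≤ i ⁻¹ᵁ ⊤) m' = 0 := by
      refine res_ext _ (fun j => i ⁻¹ᵁ W' j) (fun j => le_top) hcov'.ge fun j => ?_
      rw [key, hm' j, key', hb' j, zero_smul, map_zero]
    have h3 := h2 m' h0
    let i1 := modOver a' (CohB1.tensorPow L' k) (US := ⊤) (UX := ⊤) le_top
    let i2 := algOver (Spec.map (CommRingCat.ofHom t)) (US := ⊤) (UT := ⊤) le_top
    have h4 : ∀ b : Fam a' W' g' k, (∀ j, res _ (le_top : W' j ≤ ⊤) m' = b.1 j • e j) →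
        b ∈ RingHom.ker t • (⊤ : Submodule R' (Fam a' W' g' k)) := by
      refine Submodule.smul_induction_on (p := fun m => ∀ b : Fam a' W' g' k,
        (∀ j, res _ (le_top : W' j ≤ ⊤) m = b.1 j • e j) →
        b ∈ RingHom.ker t • (⊤ : Submodule R' (Fam a' W' g' k))) h3 ?_ ?_
      · intro r hr n _ b hb
        obtain ⟨c, hc, hc'⟩ := exists_fam e he hge n
        let r' : R' := (Scheme.ΓSpecIso (CommRingCat.of R')).hom r
        let C : Fam a' W' g' k := ⟨c, hc⟩
        have hb2 : b = r' • C := by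
          apply Fam.ext
          intro j
          apply (he j).ext
          have h5 : str a' (W' j) r' = a'.appLE ⊤ (W' j) le_top r := str_hom a' (W' j) r
          rw [← hb j, Fam.smul_val, h5, mul_smul, ← hc' j]
          have h6 : r • n = (a'.appLE ⊤ ⊤ le_top r : Γ(X', ⊤)) • n := rfl
          rw [h6, res_smul]
          congr 1
          change X'.presheaf.map (homOfLE _).op (a'.appLE ⊤ ⊤ le_top r) = _
          rw [← ConcreteCategory.comp_apply, Scheme.Hom.appLE_map]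
        rw [hb2]
        refine Submodule.smul_mem_smul ?_ trivial
        have h7 : (Spec.map (CommRingCat.ofHom t)).appLE ⊤ ⊤ le_top r = 0 := hr
        rw [appLE_specMap] at h7
        apply (ConcreteCategory.bijective_of_isIso (Scheme.ΓSpecIso (CommRingCat.of R)).inv).1
        rw [map_zero]
        exact h7
      · intro x y hx hy b hb
        obtain ⟨c, hc, hc'⟩ := exists_fam e he hge x
        obtain ⟨d, hd, hd'⟩ := exists_fam e he hge y
        let C : Fam a' W' g' k := ⟨c, hc⟩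
        let D : Fam a' W' g' k := ⟨d, hd⟩
        have hb2 : b = C + D := by
          apply Fam.ext
          intro j
          apply (he j).ext
          rw [← hb j, Fam.add_val, add_smul, map_add, hc' j, hd' j]
        rw [hb2]
        exact Submodule.add_mem _ (hx _ hc') (hy _ hd')
    exact h4 b' hm'

end main

end Groth.Agent.Picfga.LiftFam
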