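import Mathlib.Algebra.Module.Projective
import Mathlib.LinearAlgebra.Basis.Basic
import Mathlib.LinearAlgebra.StdBasis
import Mathlib.RingTheory.Nakayama
import Mathlib.RingTheory.Jacobson.Ideal
import Mathlib.RingTheory.Nilpotent.Basic
import Mathlib.RingTheory.Finiteness.Basic
import Mathlib.LinearAlgebra.Pi

/-!
# Limits of finite projective modules along surjections with locally nilpotent kernels

Stacks, Tag 0D4B: let `R = lim R_n` with `R_{n+1} → R_n` surjective with locally nilpotent kernels
and `M_n` finite projective over `R_n`, `M_{n+1} → M_n` inducing `M_{n+1} ⊗ R_n ≅ M_n`.  Then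
`M = lim M_n` is finite projective over `R` and `M ⊗ R_n ≅ M_n`.
-/

set_option autoImplicit false

universe u v w

namespace Groth.Agent.Picfga.LimProj

/-- In a tower of surjections every element is a member of a compatible sequence. -/
lemma exists_seq {M : ℕ → Type v} (τ : ∀ n, M (n + 1) → M n)
    (hτ : ∀ n, Function.Surjective (τ n)) (n : ℕ) (c : M n) :
    ∃ x : ∀ m, M m, (∀ m, τ m (x (m + 1)) = x m) ∧ x n = c := by
  induction n generalizing M with
  | zero =>
    choose s hs using hτ
    refine ⟨fun m => Nat.rec (motive := fun m => M m) c (fun m y => s m y) m, fun m => ?_, rfl⟩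
    exact hs m _
  | succ n ih =>
    obtain ⟨x, hx, hxc⟩ := ih (M := fun m => M (m + 1)) (fun m => τ (m + 1)) (fun m => hτ (m + 1)) c
    refine ⟨fun m => match m with
      | 0 => τ 0 (x 0)
      | m + 1 => x m, fun m => ?_, hxc⟩
    cases m with
    | zero => rfl
    | succ m => exact hx m

/-- Dependent choice along `ℕ`. -/
lemma exists_chain {S : ℕ → Type v} (Rel : ∀ n, S n → S (n + 1) → Prop)
    (h : ∀ n s, ∃ s', Rel n s s') (s₀ : S 0) : ∃ s : ∀ n, S n, ∀ n, Rel n (s n) (s (n + 1)) := by
  choose f hf using h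
  exact ⟨fun m => Nat.rec (motive := fun m => S m) s₀ (fun m y => f m y) m, fun m => hf m _⟩

/-- A ring `Rinf` presented as the limit of a tower `R n` of surjections with locally nilpotent
kernels. -/
structure RingTower (R : ℕ → Type u) [∀ n, CommRing (R n)] (Rinf : Type u) [CommRing Rinf] where
  t : ∀ n, R (n + 1) →+* R n
  ht : ∀ n, Function.Surjective (t n)
  hnil : ∀ n (x : R (n + 1)), t n x = 0 → IsNilpotent x
  π : ∀ n, Rinf →+* R n
  hπ : ∀ n, (t n).comp (π (n + 1)) = π n
  hlim₁ : ∀ x y : Rinf, (∀ n, π n x = π n y) → x = y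
  hlim₂ : ∀ c : ∀ n, R n, (∀ n, t n (c (n + 1)) = c n) → ∃ x : Rinf, ∀ n, π n x = c n

namespace RingTower

variable {R : ℕ → Type u} [∀ n, CommRing (R n)] {Rinf : Type u} [CommRing Rinf]
  (T : RingTower R Rinf)

lemma t_π (n : ℕ) (x : Rinf) : T.t n (T.π (n + 1) x) = T.π n x := by
  rw [← T.hπ n]; rfl

lemma π_surjective (n : ℕ) : Function.Surjective (T.π n) := by
  intro c
  obtain ⟨x, hx, hxc⟩ := exists_seq (fun n => T.t n) T.ht n c
  obtain ⟨y, hy⟩ := T.hlim₂ x hx
  exact ⟨y, by rw [hy, hxc]⟩

/-- Units lift along surjections with nil kernel. -/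
lemma isUnit_of_isUnit_map {A B : Type*} [CommRing A] [CommRing B] (f : A →+* B)
    (hf : Function.Surjective f) (hnil : ∀ x, f x = 0 → IsNilpotent x) {a : A}
    (ha : IsUnit (f a)) : IsUnit a := by
  obtain ⟨b, hb⟩ := ha.exists_right_inv
  obtain ⟨c, rfl⟩ := hf b
  have h1 : IsNilpotent (a * c - 1) := hnil _ (by rw [map_sub, map_mul, hb, map_one, sub_self])
  have h2 : IsUnit (a * c) := by
    have := h1.isUnit_add_one
    rwa [sub_add_cancel] at this
  exact isUnit_of_mul_isUnit_left h2

lemma isUnit_π_of_isUnit_π_zero {x : Rinf} (hx : IsUnit (T.π 0 x)) (n : ℕ) :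
    IsUnit (T.π n x) := by
  induction n with
  | zero => exact hx
  | succ n ih =>
    refine isUnit_of_isUnit_map (T.t n) (T.ht n) (T.hnil n) ?_
    rwa [t_π]

/-- An element of the limit is a unit iff it is at level zero. -/
lemma isUnit_of_isUnit_π_zero {x : Rinf} (hx : IsUnit (T.π 0 x)) : IsUnit x := by
  have h := T.isUnit_π_of_isUnit_π_zero hx
  choose y hy using fun n => (h n).exists_right_inv
  obtain ⟨z, hz⟩ := T.hlim₂ y (fun n => by
    have h1 := congrArg (T.t n) (hy (n + 1))
    rw [map_mul, t_π, map_one] at h1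
    have h2 := hy n
    calc T.t n (y (n + 1)) = (T.π n x * y n) * T.t n (y (n + 1)) := by rw [h2, one_mul]
      _ = (T.π n x * T.t n (y (n + 1))) * y n := by ring
      _ = y n := by rw [h1, one_mul])
  refine IsUnit.of_mul_eq_one z (T.hlim₁ _ _ fun n => ?_)
  rw [map_mul, hz, hy, map_one]

lemma ker_π_zero_le_jacobson : RingHom.ker (T.π 0) ≤ Ideal.jacobson ⊥ := by
  intro x hx
  rw [Ideal.mem_jacobson_bot]
  intro y
  apply T.isUnit_of_isUnit_π_zero
  rw [map_add, map_mul, (RingHom.mem_ker).mp hx, zero_mul, zero_add, map_one]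
  exact isUnit_one

lemma ker_π_succ_le (n : ℕ) : RingHom.ker (T.π (n + 1)) ≤ RingHom.ker (T.π n) := by
  intro x hx
  rw [RingHom.mem_ker] at hx ⊢
  rw [← T.t_π, hx, map_zero]

lemma ker_π_le_ker_π_zero (n : ℕ) : RingHom.ker (T.π n) ≤ RingHom.ker (T.π 0) := by
  induction n with
  | zero => exact le_rfl
  | succ n ih => exact (T.ker_π_succ_le n).trans ih

lemma ker_π_le_jacobson (n : ℕ) : RingHom.ker (T.π n) ≤ Ideal.jacobson ⊥ :=
  (T.ker_π_le_ker_π_zero n).trans T.ker_π_zero_le_jacobson

/-! ### Modules -/

section Module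

variable {M : ℕ → Type w} [∀ n, AddCommGroup (M n)] [∀ n, Module (R n) (M n)]
  [∀ n, Module Rinf (M n)]

/-- The limit of a tower of modules. -/
def lim (τ : ∀ n, M (n + 1) →ₗ[Rinf] M n) : Submodule Rinf (∀ n, M n) where
  carrier := {x | ∀ n, τ n (x (n + 1)) = x n}
  zero_mem' := fun n => map_zero _
  add_mem' := fun {x y} hx hy n => by
    simp only [Pi.add_apply, map_add]
    rw [hx, hy]
  smul_mem' := fun r x hx n => by
    simp only [Pi.smul_apply, map_smul]
    rw [hx]

/-- A tower of modules over a tower of rings: the `M n` are finite projective over `R n` and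
`M (n+1) ⊗ R n = M n`. -/
structure ModTower (M : ℕ → Type w) [∀ n, AddCommGroup (M n)] [∀ n, Module (R n) (M n)]
    [∀ n, Module Rinf (M n)] (τ : ∀ n, M (n + 1) →ₗ[Rinf] M n) : Prop where
  smul_eq : ∀ n (r : Rinf) (x : M n), r • x = T.π n r • x
  finite : ∀ n, Module.Finite (R n) (M n)
  projective : ∀ n, Module.Projective (R n) (M n)
  surj : ∀ n, Function.Surjective (τ n)
  ker : ∀ n (x : M (n + 1)), τ n x = 0 →
    x ∈ (RingHom.ker (T.t n)) • (⊤ : Submodule (R (n + 1)) (M (n + 1)))

variable {T} {τ : ∀ n, M (n + 1) →ₗ[Rinf] M n} (H : T.ModTower M τ)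
include H

namespace ModTower

lemma t_smul (n : ℕ) (r : R (n + 1)) (x : M (n + 1)) : τ n (r • x) = T.t n r • τ n x := by
  obtain ⟨r, rfl⟩ := T.π_surjective (n + 1) r
  rw [← H.smul_eq, map_smul, H.smul_eq, T.t_π]

lemma finite_inf (n : ℕ) : Module.Finite Rinf (M n) := by
  have := H.finite n
  obtain ⟨s, hs⟩ := Module.finite_def.mp this
  refine Module.finite_def.mpr ⟨s, ?_⟩
  rw [eq_top_iff]
  intro x _
  have hx : x ∈ Submodule.span (R n) (s : Set (M n)) := by rw [hs]; trivial
  induction hx using Submodule.span_induction with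
  | mem x hx => exact Submodule.subset_span hx
  | zero => exact zero_mem _
  | add x y _ _ hx hy => exact add_mem (hx trivial) (hy trivial)
  | smul a x _ hx =>
    obtain ⟨r, rfl⟩ := T.π_surjective n a
    rw [← H.smul_eq]
    exact Submodule.smul_mem _ _ (hx trivial)

/-- Version over `Rinf` of the kernel condition. -/
lemma ker_inf (n : ℕ) (x : M (n + 1)) (hx : τ n x = 0) :
    x ∈ (RingHom.ker (T.π n)) • (⊤ : Submodule Rinf (M (n + 1))) := by
  have h := H.ker n x hx
  refine Submodule.smul_induction_on h ?_ ?_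
  · intro r hr y _
    obtain ⟨r, rfl⟩ := T.π_surjective (n + 1) r
    rw [← H.smul_eq]
    refine Submodule.smul_mem_smul ?_ trivial
    rw [RingHom.mem_ker] at hr ⊢
    rw [← T.t_π, hr]
  · intro x y hx hy
    exact add_mem hx hy

/-- The composite `M n → M 0`. -/
lemma exists_to_zero (n : ℕ) : ∃ ρ : M n →ₗ[Rinf] M 0,
    (∀ x, ρ x = 0 → x ∈ (RingHom.ker (T.π 0)) • (⊤ : Submodule Rinf (M n))) ∧
    ∀ y : ∀ m, M m, (∀ m, τ m (y (m + 1)) = y m) → ρ (y n) = y 0 := by
  induction n with
  | zero => exact ⟨LinearMap.id, fun x hx => by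
      rw [LinearMap.id_apply] at hx; rw [hx]; exact zero_mem _, fun y hy => rfl⟩
  | succ n ih =>
    obtain ⟨ρ, h1, h2⟩ := ih
    refine ⟨ρ.comp (τ n), fun x hx => ?_, fun y hy => ?_⟩
    · have h3 := h1 (τ n x) hx
      have h4 : τ n x ∈ Submodule.map (τ n)
          ((RingHom.ker (T.π 0)) • (⊤ : Submodule Rinf (M (n + 1)))) := by
        rw [Submodule.map_smul'', Submodule.map_top, LinearMap.range_eq_top.mpr (H.surj n)]
        exact h3
      obtain ⟨z, hz, hzx⟩ := h4
      have h5 : τ n (x - z) = 0 := by rw [map_sub, hzx, sub_self]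
      have h6 := H.ker_inf n _ h5
      have h7 : x - z ∈ (RingHom.ker (T.π 0)) • (⊤ : Submodule Rinf (M (n + 1))) :=
        Submodule.smul_mono_left (T.ker_π_le_ker_π_zero n) h6
      have := add_mem h7 hz
      rwa [sub_add_cancel] at this
    · rw [LinearMap.comp_apply, hy, h2 y hy]

/-- The key splitting: a free module `F = Rinf^k`, a surjection `p : F → lim M` with a section `s`,
such that `p` is onto at every level and `s x` vanishes modulo `ker (π n)` when `x n = 0`. -/
lemma exists_split : ∃ (k : ℕ) (p : (Fin k → Rinf) →ₗ[Rinf] lim τ)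
    (s : lim τ →ₗ[Rinf] (Fin k → Rinf)), p.comp s = LinearMap.id ∧
    (∀ n (x : M n), ∃ a, (p a).1 n = x) ∧
    (∀ n (x : lim τ), x.1 n = 0 → ∀ i, s x i ∈ RingHom.ker (T.π n)) := by
  classical
  have := H.finite_inf
  have hfin0 := this 0
  obtain ⟨k, v, hv⟩ := Module.Finite.exists_fin (R := Rinf) (M := M 0)
  -- lift the generators
  have hlift : ∀ i : Fin k, ∃ x : ∀ m, M m, (∀ m, τ m (x (m + 1)) = x m) ∧ x 0 = v i :=
    fun i => exists_seq (fun n => τ n) H.surj 0 (v i)
  choose e he hev using hlift
  let E : Fin k → lim τ := fun i => ⟨e i, he i⟩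
  let p : (Fin k → Rinf) →ₗ[Rinf] lim τ := Fintype.linearCombination Rinf E
  let q : ∀ n, (Fin k → R n) →ₗ[R n] M n := fun n => Fintype.linearCombination (R n) (fun i => e i n)
  have hpq : ∀ n (a : Fin k → Rinf), (p a).1 n = q n (fun i => T.π n (a i)) := by
    intro n a
    simp only [p, q, Fintype.linearCombination_apply, E]
    rw [AddSubmonoidClass.coe_finset_sum, Finset.sum_apply]
    refine Finset.sum_congr rfl fun i _ => ?_
    exact H.smul_eq n _ _
  -- surjectivity of `q n`
  have hq : ∀ n, Function.Surjective (q n) := by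
    intro n
    let pn : (Fin k → Rinf) →ₗ[Rinf] M n := Fintype.linearCombination Rinf (fun i => e i n)
    obtain ⟨ρ, hρ1, hρ2⟩ := H.exists_to_zero n
    have hle : (⊤ : Submodule Rinf (M n)) ≤ LinearMap.range pn ⊔ (RingHom.ker (T.π 0)) • ⊤ := by
      intro x _
      have h1 : ρ x ∈ Submodule.span Rinf (Set.range v) := by rw [hv]; trivial
      obtain ⟨a, ha⟩ := (Submodule.mem_span_range_iff_exists_fun Rinf).mp h1
      have h2 : ρ (x - pn a) = 0 := by
        rw [map_sub, ← ha, sub_eq_zero]
        simp only [pn, Fintype.linearCombination_apply, map_sum, map_smul]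
        refine Finset.sum_congr rfl fun i _ => ?_
        rw [hρ2 (e i) (he i), hev]
      have h3 := hρ1 _ h2
      have : x = pn a + (x - pn a) := by abel
      rw [this]
      exact add_mem (Submodule.mem_sup_left ⟨a, rfl⟩) (Submodule.mem_sup_right h3)
    have hfin : (⊤ : Submodule Rinf (M n)).FG := (H.finite_inf n).fg_top
    have hN := Submodule.le_of_le_smul_of_le_jacobson_bot hfin T.ker_π_zero_le_jacobson hle
    intro x
    obtain ⟨a, ha⟩ := hN (Submodule.mem_top (x := x))
    refine ⟨fun i => T.π n (a i), ?_⟩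
    rw [← ha]
    simp only [pn, q, Fintype.linearCombination_apply]
    refine Finset.sum_congr rfl fun i _ => ?_
    exact (H.smul_eq n _ _).symm
  -- compatibility of `q`
  have hqt : ∀ n (a : Fin k → R (n + 1)), τ n (q (n + 1) a) = q n (fun i => T.t n (a i)) := by
    intro n a
    simp only [q, Fintype.linearCombination_apply, map_sum]
    refine Finset.sum_congr rfl fun i _ => ?_
    rw [H.t_smul, he i]
  -- sections
  let S : ℕ → Type _ := fun n => {s : M n →ₗ[R n] (Fin k → R n) // (q n).comp s = LinearMap.id}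
  have hS0 : Nonempty (S 0) := by
    have := H.projective 0
    obtain ⟨s, hs⟩ := Module.projective_lifting_property (q 0) LinearMap.id (hq 0)
    exact ⟨⟨s, hs⟩⟩
  have hstep : ∀ n (s : S n), ∃ s' : S (n + 1), ∀ x i, T.t n (s'.1 x i) = s.1 (τ n x) i := by
    intro n s
    letI : Module (R (n + 1)) (M n) := Module.compHom _ (T.t n)
    letI : Module (R (n + 1)) (Fin k → R n) := Module.compHom _ (T.t n)
    have hc1 : ∀ (r : R (n + 1)) (x : M n), r • x = T.t n r • x := fun _ _ => rfl
    have hc2 : ∀ (r : R (n + 1)) (x : Fin k → R n), r • x = T.t n r • x := fun _ _ => rfl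
    -- the fibre product
    let Q : Submodule (R (n + 1)) ((Fin k → R n) × M (n + 1)) :=
      { carrier := {z | q n z.1 = τ n z.2}
        zero_mem' := by simp
        add_mem' := by
          rintro ⟨a, b⟩ ⟨c, d⟩ h1 h2
          simp only [Set.mem_setOf_eq, Prod.mk_add_mk, map_add] at h1 h2 ⊢
          rw [h1, h2]
        smul_mem' := by
          rintro r ⟨a, b⟩ h1
          simp only [Set.mem_setOf_eq, Prod.smul_mk] at h1 ⊢
          rw [hc2, map_smul, h1, H.t_smul] }
    let φ : (Fin k → R (n + 1)) →ₗ[R (n + 1)] Q :=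
      { toFun := fun a => ⟨(fun i => T.t n (a i), q (n + 1) a), by
          change q n _ = τ n _
          rw [hqt]⟩
        map_add' := fun a b => by
          apply Subtype.ext
          apply Prod.ext
          · funext i; simp
          · simp
        map_smul' := fun r a => by
          apply Subtype.ext
          apply Prod.ext
          · funext i
            simp only [Pi.smul_apply, smul_eq_mul, map_mul, RingHom.id_apply, SetLike.mk_smul_mk,
              Prod.smul_mk, hc2]
          · simp }
    have hφ : Function.Surjective φ := by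
      rintro ⟨⟨a, m⟩, ham⟩
      change q n a = τ n m at ham
      choose a' ha' using fun i => T.ht n (a i)
      have h1 : τ n (m - q (n + 1) a') = 0 := by
        rw [map_sub, hqt, ← ham, sub_eq_zero]
        congr 1
        funext i
        exact (ha' i).symm
      have h2 := H.ker n _ h1
      have h3 : m - q (n + 1) a' ∈ Submodule.map (q (n + 1))
          ((RingHom.ker (T.t n)) • (⊤ : Submodule (R (n + 1)) (Fin k → R (n + 1)))) := by
        rw [Submodule.map_smul'', Submodule.map_top, LinearMap.range_eq_top.mpr (hq (n + 1))]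
        exact h2
      obtain ⟨b, hb, hbm⟩ := h3
      have hb' : ∀ i, T.t n (b i) = 0 := by
        intro i
        refine Submodule.smul_induction_on
          (p := fun b : Fin k → R (n + 1) => T.t n (b i) = 0) hb ?_ ?_
        · intro r hr c _
          simp [(RingHom.mem_ker).mp hr]
        · intro x y hx hy
          simp [hx, hy]
      refine ⟨a' + b, ?_⟩
      apply Subtype.ext
      apply Prod.ext
      · funext i
        change T.t n (a' i + b i) = a i
        rw [map_add, ha', hb', add_zero]
      · change q (n + 1) (a' + b) = m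
        rw [map_add, hbm]
        abel
    let ψ : M (n + 1) →ₗ[R (n + 1)] Q :=
      { toFun := fun x => ⟨(s.1 (τ n x), x), by
          change q n _ = τ n _
          exact congr($(s.2) (τ n x))⟩
        map_add' := fun a b => by
          apply Subtype.ext
          apply Prod.ext
          · simp
          · simp
        map_smul' := fun r a => by
          apply Subtype.ext
          apply Prod.ext
          · simp only [RingHom.id_apply, SetLike.mk_smul_mk, Prod.smul_mk, hc2]
            rw [H.t_smul, map_smul]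
          · simp }
    have := H.projective (n + 1)
    obtain ⟨s', hs'⟩ := Module.projective_lifting_property φ ψ hφ
    refine ⟨⟨s', ?_⟩, ?_⟩
    · ext x
      have := congrArg (fun z : Q => z.1.2) (congr($hs' x))
      exact this
    · intro x i
      have := congrArg (fun z : Q => z.1.1 i) (congr($hs' x))
      exact this
  obtain ⟨s, hs⟩ := exists_chain (S := S)
    (fun n s s' => ∀ x i, T.t n (s'.1 x i) = s.1 (τ n x) i) hstep hS0.some
  -- the section in the limit
  have hsl : ∀ (x : lim τ) (i : Fin k), ∃ r : Rinf, ∀ n, T.π n r = (s n).1 (x.1 n) i := by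
    intro x i
    apply T.hlim₂ (fun n => (s n).1 (x.1 n) i)
    intro n
    rw [hs n]
    rw [x.2 n]
  choose σ hσ using hsl
  let sinf : lim τ →ₗ[Rinf] (Fin k → Rinf) :=
    { toFun := fun x i => σ x i
      map_add' := fun x y => by
        funext i
        apply T.hlim₁
        intro n
        rw [hσ, Pi.add_apply, map_add, hσ, hσ]
        simp
      map_smul' := fun r x => by
        funext i
        apply T.hlim₁
        intro n
        simp only [RingHom.id_apply, Pi.smul_apply, smul_eq_mul, map_mul]
        rw [hσ, hσ]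
        have : (r • x).1 n = T.π n r • x.1 n := by
          rw [← H.smul_eq]; rfl
        rw [this, map_smul]
        rfl }
  refine ⟨k, p, sinf, ?_, ?_, ?_⟩
  · ext x n
    simp only [LinearMap.comp_apply, LinearMap.id_apply]
    rw [hpq]
    have : (fun i => T.π n (sinf x i)) = (s n).1 (x.1 n) := by
      funext i
      exact hσ x i n
    rw [this]
    exact congr($((s n).2) (x.1 n))
  · intro n x
    obtain ⟨a, ha⟩ := hq n x
    choose b hb using fun i => T.π_surjective n (a i)
    refine ⟨b, ?_⟩
    rw [hpq, ← ha]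
    congr 1
    funext i
    exact hb i
  · intro n x hx i
    rw [RingHom.mem_ker]
    change T.π n (σ x i) = 0
    rw [hσ, hx, map_zero]
    rfl

/-- `lim M` is a finite module. -/
theorem finite_lim : Module.Finite Rinf (lim τ) := by
  obtain ⟨k, p, s, hps, -, -⟩ := H.exists_split
  refine Module.Finite.of_surjective p fun x => ⟨s x, ?_⟩
  exact congr($hps x)

/-- `lim M` is projective. -/
theorem projective_lim : Module.Projective Rinf (lim τ) := by
  obtain ⟨k, p, s, hps, -, -⟩ := H.exists_split
  exact Module.Projective.of_split s p hps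

/-- `lim M → M n` is onto. -/
theorem surjective_lim (n : ℕ) (x : M n) : ∃ y : lim τ, y.1 n = x := by
  obtain ⟨k, p, s, hps, h, -⟩ := H.exists_split
  obtain ⟨a, ha⟩ := h n x
  exact ⟨p a, ha⟩

/-- The kernel of `lim M → M n` is `ker (π n) • lim M`. -/
theorem mem_of_eq_zero (n : ℕ) (x : lim τ) (hx : x.1 n = 0) :
    x ∈ (RingHom.ker (T.π n)) • (⊤ : Submodule Rinf (lim τ)) := by
  obtain ⟨k, p, s, hps, -, h⟩ := H.exists_split
  have h1 : p (s x) = x := congr($hps x)
  rw [← h1]
  have h2 : s x = ∑ i, s x i • (Pi.single i (1 : Rinf) : Fin k → Rinf) := by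
    funext j
    simp [Finset.sum_apply, Pi.single_apply]
  rw [h2, map_sum]
  refine Submodule.sum_mem _ fun i _ => ?_
  rw [map_smul]
  exact Submodule.smul_mem_smul (h n x hx i) trivial

end ModTower

end Module

end RingTower

end Groth.Agent.Picfga.LimProj
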