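import Mathlib.RingTheory.Nakayama
import Mathlib.Algebra.Module.Projective
import Mathlib.RingTheory.Finiteness.Basic
import Mathlib.Algebra.Algebra.Basic
import Mathlib.Algebra.Algebra.Pi
import Mathlib.RingTheory.Ideal.Maps

/-!
# Lifting generation and Koszul relations by Nakayama's lemma
-/

set_option autoImplicit false

universe u v w

namespace Groth.Agent.Picfga.NakKoszul

section

variable {R : Type u} [CommRing R] {P : Type v} [CommRing P] [Algebra R P] {P0 : Type w}
  [CommRing P0] (θ : P →+* P0) (G : ℕ → Submodule R P) (G0 : ℕ → Set P0) (J : Ideal R)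
  {ι : Type*} [Fintype ι] (s : ι → P) (a N k₀ : ℕ)

variable (hmul : ∀ {m n : ℕ} {x y : P}, x ∈ G m → y ∈ G n → x * y ∈ G (m + n))
  (hs : ∀ i, s i ∈ G a) (hJ : J ≤ Ideal.jacobson ⊥)
  (hfin : ∀ k, k₀ ≤ k → (G k).FG) (hproj : ∀ k, k₀ ≤ k → Module.Projective R (G k))
  (hθ : ∀ k, k₀ ≤ k → ∀ x ∈ G k, θ x ∈ G0 k)
  (hsurj : ∀ k, k₀ ≤ k → ∀ x ∈ G0 k, ∃ y ∈ G k, θ y = x)
  (hker : ∀ k, k₀ ≤ k → ∀ x ∈ G k, θ x = 0 → x ∈ J • G k)
  (hN : k₀ + 2 * a ≤ N)
  (K1 : ∀ K, N ≤ K → ∀ x ∈ G0 K, ∃ y : ι → P0, (∀ i, y i ∈ G0 (K - a)) ∧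
    x = ∑ i, θ (s i) * y i)
  (K2 : ∀ K, N ≤ K → ∀ y : ι → P0, (∀ i, y i ∈ G0 (K - a)) → ∑ i, θ (s i) * y i = 0 →
    ∃ z : ι → ι → P0, (∀ i j, z i j ∈ G0 (K - 2 * a)) ∧ (∀ i j, z i j + z j i = 0) ∧
      (∀ i, z i i = 0) ∧ ∀ i, y i = ∑ j, θ (s j) * z i j)

include hmul hs hJ hfin hθ hsurj hker hN K1 in
theorem exists_K1 (K : ℕ) (hK : N ≤ K) (x : P) (hx : x ∈ G K) :
    ∃ y : ι → P, (∀ i, y i ∈ G (K - a)) ∧ x = ∑ i, s i * y i := by
  let f : (ι → G (K - a)) →ₗ[R] P := ∑ i, ((LinearMap.mulLeft R (s i)).comp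
    (G (K - a)).subtype).comp (LinearMap.proj i)
  have hf : ∀ y, f y = ∑ i, s i * (y i : P) := by
    intro y
    simp only [f, LinearMap.sum_apply]
    rfl
  have key : G K ≤ LinearMap.range f := by
    refine Submodule.le_of_le_smul_of_le_jacobson_bot (hfin K (by omega)) hJ ?_
    intro x hx
    obtain ⟨y0, hy0, hxy⟩ := K1 K hK (θ x) (hθ K (by omega) x hx)
    choose y hy hyθ using fun i => hsurj (K - a) (by omega) (y0 i) (hy0 i)
    have h1 : f (fun i => ⟨y i, hy i⟩) ∈ G K := by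
      rw [hf]
      refine Submodule.sum_mem _ fun i _ => ?_
      have := hmul (hs i) (hy i)
      rwa [show a + (K - a) = K by omega] at this
    have h2 : θ (x - f (fun i => ⟨y i, hy i⟩)) = 0 := by
      rw [map_sub, hf, map_sum, hxy, sub_eq_zero]
      refine Finset.sum_congr rfl fun i _ => ?_
      rw [map_mul, hyθ]
    have h3 := hker K (by omega) _ (sub_mem hx h1) h2
    have h4 : x = f (fun i => ⟨y i, hy i⟩) + (x - f (fun i => ⟨y i, hy i⟩)) := by abel
    rw [h4]
    exact add_mem (Submodule.mem_sup_left ⟨_, rfl⟩) (Submodule.mem_sup_right h3)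
  obtain ⟨y, hy⟩ := key hx
  exact ⟨fun i => y i, fun i => (y i).2, by rw [← hy, hf]⟩

lemma mem_smul_top_pi {M : Type*} [AddCommGroup M] [Module R M] (J : Ideal R) (y : ι → M)
    (hy : ∀ i, y i ∈ J • (⊤ : Submodule R M)) : y ∈ J • (⊤ : Submodule R (ι → M)) := by
  classical
  rw [← Finset.univ_sum_single y]
  refine Submodule.sum_mem _ fun i _ => ?_
  have h1 : LinearMap.single R (fun _ : ι => M) i (y i) ∈
      Submodule.map (LinearMap.single R (fun _ : ι => M) i) (J • (⊤ : Submodule R M)) :=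
    ⟨y i, hy i, rfl⟩
  rw [Submodule.map_smul''] at h1
  exact Submodule.smul_mono le_rfl le_top h1

lemma mem_smul_top_subtype {M : Type*} [AddCommGroup M] [Module R M] (J : Ideal R)
    (G : Submodule R M) (x : G) (hx : (x : M) ∈ J • G) : x ∈ J • (⊤ : Submodule R G) := by
  have h1 : (J • (⊤ : Submodule R G)).map G.subtype = J • G := by
    rw [Submodule.map_smul'', Submodule.map_top, Submodule.range_subtype]
  rw [← h1] at hx
  obtain ⟨y, hy, hyx⟩ := hx
  have : y = x := Subtype.ext hyx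
  rwa [← this]

include hmul hs hJ hfin hproj hθ hsurj hker hN K1 K2 in
theorem exists_K2 (K : ℕ) (hK : N ≤ K) (y : ι → P) (hy : ∀ i, y i ∈ G (K - a))
    (hy0 : ∑ i, s i * y i = 0) :
    ∃ z : ι → ι → P, (∀ i j, z i j ∈ G (K - 2 * a)) ∧ (∀ i j, z i j + z j i = 0) ∧
      (∀ i, z i i = 0) ∧ ∀ i, y i = ∑ j, s j * z i j := by
  classical
  obtain ⟨n, ⟨e⟩⟩ := Finite.exists_equiv_fin ι
  let _ : LinearOrder ι := LinearOrder.lift' e e.injective
  have hmemK : ∀ (i : ι) (x : G (K - a)), s i * x ∈ G K := fun i x => by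
    have := hmul (hs i) x.2
    rwa [show a + (K - a) = K by omega] at this
  have hmemK' : ∀ (i : ι) (x : G (K - 2 * a)), s i * x ∈ G (K - a) := fun i x => by
    have := hmul (hs i) x.2
    rwa [show a + (K - 2 * a) = K - a by omega] at this
  let m : ι → G (K - a) →ₗ[R] G K := fun i =>
    ((LinearMap.mulLeft R (s i)).comp (G (K - a)).subtype).codRestrict _ (hmemK i)
  let m' : ι → G (K - 2 * a) →ₗ[R] G (K - a) := fun i =>
    ((LinearMap.mulLeft R (s i)).comp (G (K - 2 * a)).subtype).codRestrict _ (hmemK' i)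
  have hm : ∀ i x, (m i x : P) = s i * x := fun i x => rfl
  have hm' : ∀ i x, (m' i x : P) = s i * x := fun i x => rfl
  let f : (ι → G (K - a)) →ₗ[R] G K := ∑ i, (m i).comp (LinearMap.proj i)
  have hf : ∀ y, (f y : P) = ∑ i, s i * (y i : P) := by
    intro y
    simp only [f, LinearMap.sum_apply]
    rw [AddSubmonoidClass.coe_finsetSum]
    rfl
  have hfsurj : Function.Surjective f := by
    intro x
    obtain ⟨y, hy, hxy⟩ := exists_K1 θ G G0 J s a N k₀ hmul hs hJ hfin hθ hsurj hker hN K1 K hK x x.2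
    refine ⟨fun i => ⟨y i, hy i⟩, Subtype.ext ?_⟩
    rw [hf, hxy]
  have := hproj K (by omega)
  obtain ⟨σ, hσ⟩ := Module.projective_lifting_property f LinearMap.id hfsurj
  have hσ' : ∀ x, f (σ x) = x := fun x => congr($hσ x)
  let p : (ι → G (K - a)) →ₗ[R] (ι → G (K - a)) := LinearMap.id - σ.comp f
  have hp : ∀ y, p y = y - σ (f y) := fun y => rfl
  have hpker : ∀ y, p y ∈ LinearMap.ker f := fun y => by
    rw [LinearMap.mem_ker, hp, map_sub, hσ', sub_self]
  have hpid : ∀ y ∈ LinearMap.ker f, p y = y := fun y hy => by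
    rw [hp, (LinearMap.mem_ker).mp hy, map_zero, sub_zero]
  have hZ : LinearMap.ker f = LinearMap.range p := by
    apply le_antisymm
    · intro y hy
      exact ⟨y, hpid y hy⟩
    · rintro _ ⟨y, rfl⟩
      exact hpker y
  have hfinK : Module.Finite R (G (K - a)) := Module.Finite.iff_fg.mpr (hfin _ (by omega))
  have hZfg : (LinearMap.ker f).FG := by
    rw [hZ, ← Module.Finite.iff_fg]
    infer_instance
  -- the Koszul map
  let ev : ι → ι → (ι → ι → G (K - 2 * a)) →ₗ[R] G (K - 2 * a) := fun i j =>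
    (LinearMap.proj j : (ι → G (K - 2 * a)) →ₗ[R] G (K - 2 * a)).comp (LinearMap.proj i)
  let H : (ι → ι → G (K - 2 * a)) →ₗ[R] (ι → G (K - a)) :=
    LinearMap.pi fun i => ∑ j, (m' j).comp (ev i j - ev j i)
  have hH : ∀ z i, (H z i : P) = ∑ j, s j * ((z i j : P) - z j i) := by
    intro z i
    simp only [H, LinearMap.pi_apply, LinearMap.sum_apply]
    rw [AddSubmonoidClass.coe_finsetSum]
    rfl
  have hHker : ∀ z, H z ∈ LinearMap.ker f := by
    intro z
    rw [LinearMap.mem_ker]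
    apply Subtype.ext
    rw [hf]
    simp only [hH]
    have h1 : ∑ i, s i * ∑ j, s j * ((z i j : P) - z j i) =
        ∑ i, ∑ j, s i * s j * (z i j : P) - ∑ i, ∑ j, s i * s j * (z j i : P) := by
      rw [← Finset.sum_sub_distrib]
      refine Finset.sum_congr rfl fun i _ => ?_
      rw [Finset.mul_sum, ← Finset.sum_sub_distrib]
      refine Finset.sum_congr rfl fun j _ => ?_
      ring
    rw [h1, ZeroMemClass.coe_zero, sub_eq_zero, Finset.sum_comm]
    refine Finset.sum_congr rfl fun i _ => Finset.sum_congr rfl fun j _ => ?_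
    ring
  have key : LinearMap.ker f ≤ LinearMap.range H := by
    refine Submodule.le_of_le_smul_of_le_jacobson_bot hZfg hJ ?_
    intro y hy
    have hy1 : ∑ i, θ (s i) * θ (y i) = 0 := by
      have h1 := congrArg (fun x : G K => θ (x : P)) ((LinearMap.mem_ker).mp hy)
      simp only [hf, map_sum, map_mul, ZeroMemClass.coe_zero, map_zero] at h1
      exact h1
    obtain ⟨z0, hz0, hz1, hz2, hz3⟩ := K2 K hK (fun i => θ (y i))
      (fun i => hθ _ (by omega) _ (y i).2) hy1
    choose w hw hwθ using fun i j => hsurj (K - 2 * a) (by omega) (z0 i j) (hz0 i j)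
    let z : ι → ι → G (K - 2 * a) := fun i j => if i < j then ⟨w i j, hw i j⟩ else 0
    have hz : ∀ i j, θ ((z i j : P) - z j i) = z0 i j := by
      intro i j
      simp only [z]
      rcases lt_trichotomy i j with hij | rfl | hij
      · rw [if_pos hij, if_neg hij.asymm, ZeroMemClass.coe_zero, sub_zero, hwθ]
      · rw [sub_self, map_zero, hz2]
      · rw [if_neg hij.asymm, if_pos hij, ZeroMemClass.coe_zero, zero_sub, map_neg, hwθ]
        rw [neg_eq_iff_eq_neg]
        exact eq_neg_of_add_eq_zero_left (hz1 j i)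
    have h1 : y - H z ∈ J • (⊤ : Submodule R (ι → G (K - a))) := by
      refine mem_smul_top_pi J _ fun i => mem_smul_top_subtype J _ _ ?_
      refine hker _ (by omega) _ (SetLike.coe_mem _) ?_
      change θ ((y i : P) - (H z i : P)) = 0
      rw [map_sub, hH, map_sum]
      simp only [map_mul, hz]
      rw [← hz3 i, sub_self]
    have h2 : y - H z ∈ LinearMap.ker f := sub_mem hy (hHker z)
    have h3 : y - H z ∈ J • LinearMap.ker f := by
      have h4 : p (y - H z) ∈ (J • (⊤ : Submodule R (ι → G (K - a)))).map p := ⟨_, h1, rfl⟩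
      rw [Submodule.map_smul'', Submodule.map_top, ← hZ, hpid _ h2] at h4
      exact h4
    have h5 : y = H z + (y - H z) := by abel
    rw [h5]
    exact add_mem (Submodule.mem_sup_left ⟨_, rfl⟩) (Submodule.mem_sup_right h3)
  have hyker : (fun i => ⟨y i, hy i⟩ : ι → G (K - a)) ∈ LinearMap.ker f := by
    rw [LinearMap.mem_ker]
    apply Subtype.ext
    rw [hf]
    exact hy0
  obtain ⟨z, hz⟩ := key hyker
  refine ⟨fun i j => (z i j : P) - z j i, fun i j => sub_mem (z i j).2 (z j i).2,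
    fun i j => by ring, fun i => sub_self _, fun i => ?_⟩
  rw [← hH, hz]

end

end Groth.Agent.Picfga.NakKoszul
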