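import Groth.Agent.Picfga.ProjFinal
import Groth.Agent.Picfga.LevelIface

/-!
# Assembling a polarized scheme: version with arbitrary units and `Trivs`

`ChartData D a L ρ`: for a scheme `a : X ⟶ Spec R'` with an invertible module `L`: a trivialization
`Trivs L W g` over affine opens `W i` and ring homomorphisms `Φ i : A → Γ(X, W i)` with
`Φ_i(f) g_ij^k = Φ_j(f)` for `f ∈ 𝒜 k`, such that `Φ i (u i)`, `Φ i (v i)` are units, `D(Φ_j(u_i v_i)) = W i ⊓ W j` and
`Γ(X, W i) = (A_{u_i v_i})_0 ⊗_R R'`.  Then `X = Proj 𝒜 ×_R R'` and `L` is the pullback of `D.mod`.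
-/

set_option autoImplicit false
set_option backward.isDefEq.respectTransparency false

universe u

open CategoryTheory CategoryTheory.Limits AlgebraicGeometry HomogeneousLocalization TopologicalSpace
  Opposite
open Groth.Agent.Picfga.AwayLift Groth.Agent.Fdesc.LocGen Groth.Agent.Flat2H.FamExt
  Groth.Agent.Flat2H.FamDict Groth.Agent.Picfga.Level

namespace Groth.Agent.Picfga.ProjGlue

section Iso

variable {A : Type u} {σ : Type*} [CommRing A] [SetLike σ A] [AddSubgroupClass σ A] {𝒜 : ℕ → σ}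
  [GradedRing 𝒜]

/-- Chart data for a trivialized invertible module, with arbitrary units. -/
structure TrivCharts (D : TwistData 𝒜) {X : Scheme.{u}} (L : X.Modules) where
  /-- the open cover -/
  W : D.ι → X.Opens
  /-- transition functions -/
  g : ∀ i j, Γ(X, W i ⊓ W j)
  trivs : Trivs L W g
  /-- the ring homomorphisms -/
  Φ : ∀ i, A →+* Γ(X, W i)
  isUnit_u : ∀ i, IsUnit (Φ i (D.u i))
  isUnit_v : ∀ i, IsUnit (Φ i (D.v i))
  isFam : ∀ (k : ℕ) (f : A), f ∈ 𝒜 k → IsFam W (fun i j => g i j ^ k) (fun j => Φ j f)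

namespace TrivCharts

variable {D : TwistData 𝒜} {X : Scheme.{u}} {L : X.Modules} (P : TrivCharts D L)

/-- The underlying charts. -/
noncomputable def charts : Charts 𝒜 X where
  ι := D.ι
  U := P.W
  iSup_U := P.trivs.iSup_eq
  deg i := D.d i + (D.d i + 1)
  deg_pos i := by omega
  w i := D.u i * D.v i
  w_mem i := SetLike.mul_mem_graded (D.u_mem i) (D.v_mem i)
  Φ := P.Φ
  isUnit i := by rw [map_mul]; exact (P.isUnit_u i).mul (P.isUnit_v i)
  g := P.g
  compat i j k f hf := by rw [← P.isFam k f hf i j, mul_comm]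

/-- The morphism to `Proj`. -/
noncomputable def toProj : X ⟶ Proj 𝒜 := P.charts.toProj

lemma isUnit_w (i : D.ι) : IsUnit (P.Φ i (D.u i * D.v i)) := P.charts.isUnit i

lemma W_le (i : D.ι) : P.W i ≤ P.toProj ⁻¹ᵁ D.V i := P.charts.U_le i

lemma appLE_g (i j : D.ι) :
    P.toProj.appLE (D.V i ⊓ D.V j) (P.W i ⊓ P.W j)
      (le_inf (inf_le_left.trans (P.W_le i)) (inf_le_right.trans (P.W_le j))) (D.g i j) *
      (ores inf_le_left (P.Φ i (D.u i)) * ores inf_le_right (P.Φ j (D.v j))) =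
      P.g i j * (ores inf_le_left (P.Φ i (D.v i)) * ores inf_le_right (P.Φ j (D.u j))) := by
  have h1 := SetLike.mul_mem_graded (D.v_mem i) (D.u_mem j)
  have h2 := SetLike.mul_mem_graded (D.u_mem i) (D.v_mem j)
  rw [← add_assoc, add_right_comm] at h2
  have hT : D.V i ⊓ D.V j ≤ Proj.basicOpen 𝒜 (D.u i * D.v j) := by
    rw [Proj.basicOpen_mul]
    exact le_inf (inf_le_left.trans (D.V_le_u i)) (inf_le_right.trans (D.V_le_v j))
  have h3 := P.charts.appLE_frac j (by omega) h1 h2 (D.V i ⊓ D.V j) hT (P.W i ⊓ P.W j)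
    (le_inf (inf_le_left.trans (P.W_le i)) (inf_le_right.trans (P.W_le j))) inf_le_right
  have h4 := P.isFam (D.d i) (D.u i) (D.u_mem i) i j
  have h5 := P.isFam (D.d i + 1) (D.v i) (D.v_mem i) i j
  change P.toProj.appLE _ _ _ (D.g i j) * ores inf_le_right (P.Φ j (D.u i * D.v j)) =
    ores inf_le_right (P.Φ j (D.v i * D.u j)) at h3
  rw [map_mul, map_mul, map_mul, map_mul, ← h4, ← h5] at h3
  have hg : IsUnit (P.g i j ^ D.d i) := (P.trivs.isUnit i j).pow _
  rw [← hg.mul_left_inj]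
  calc _ = P.toProj.appLE _ _ _ (D.g i j) * (ores inf_le_left (P.Φ i (D.u i)) * P.g i j ^ D.d i *
        ores inf_le_right (P.Φ j (D.v j))) := by ring
    _ = _ := by rw [h3]; ring

/-- **The pullback of the ample module is `L`.** -/
theorem nonempty_iso : Nonempty ((Scheme.Modules.pullback P.toProj).obj D.mod ≅ L) := by
  obtain ⟨hcov, e, he, hge⟩ := P.trivs
  have htop : ⨆ i, P.W i = ⊤ := P.trivs.iSup_eq
  -- multiply the generators on both sides by the units `Φ i (u i)`, `Φ i (v i)`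
  set e' : ∀ i, Γ((Scheme.Modules.pullback P.toProj).obj D.mod, P.W i) :=
    fun i => P.Φ i (D.u i) • res _ (P.W_le i) (pullSec P.toProj (D.gen i)) with he'
  set n : ∀ i, Γ(L, P.W i) := fun i => P.Φ i (D.v i) • e i with hn
  have hgen0 : ∀ i, IsGen (res _ (P.W_le i) (pullSec P.toProj (D.gen i))) :=
    fun i => ((D.isGen_gen i).pullSec P.toProj).res _
  have hgen : ∀ i, IsGen (e' i) := fun i => (hgen0 i).unit_smul (P.isUnit_u i)
  have hngen : ∀ i, IsGen (n i) := fun i => (he i).unit_smul (P.isUnit_v i)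
  have htr : ∀ i j, res _ (inf_le_left : P.W i ⊓ P.W j ≤ P.W i)
        (res _ (P.W_le i) (pullSec P.toProj (D.gen i))) =
      P.toProj.appLE (D.V i ⊓ D.V j) (P.W i ⊓ P.W j)
        (le_inf (inf_le_left.trans (P.W_le i)) (inf_le_right.trans (P.W_le j))) (D.g i j) •
        res _ (inf_le_right : P.W i ⊓ P.W j ≤ P.W j)
          (res _ (P.W_le j) (pullSec P.toProj (D.gen j))) := by
    intro i j
    have hle : P.W i ⊓ P.W j ≤ P.toProj ⁻¹ᵁ (D.V i ⊓ D.V j) :=
      le_inf (inf_le_left.trans (P.W_le i)) (inf_le_right.trans (P.W_le j))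
    have h1 := congrArg (fun z => res _ hle (pullSec P.toProj z)) (D.gen_eq i j)
    simp only [pullSec_smul, ← res_pullSec, res_smul, res_res] at h1
    simp only [res_res]
    rw [h1]
    congr 1
  have hrel : ∀ i j, ∃ a : Γ(X, P.W i ⊓ P.W j),
      res _ (inf_le_left : P.W i ⊓ P.W j ≤ P.W i) (e' i) =
        a • res _ (inf_le_right : P.W i ⊓ P.W j ≤ P.W j) (e' j) ∧
      res _ (inf_le_left : P.W i ⊓ P.W j ≤ P.W i) (n i) =
        a • res _ (inf_le_right : P.W i ⊓ P.W j ≤ P.W j) (n j) := by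
    intro i j
    obtain ⟨z, hz⟩ := ((P.isUnit_v j).map (ores (inf_le_right : P.W i ⊓ P.W j ≤ P.W j))).exists_right_inv
    refine ⟨ores inf_le_left (P.Φ i (D.v i)) * P.g i j * z, ?_, ?_⟩
    · have h1 := P.appLE_g i j
      simp only [he', res_smul]
      rw [htr i j, smul_smul, smul_smul]
      congr 1
      have hu := (P.isUnit_v j).map (ores (inf_le_right : P.W i ⊓ P.W j ≤ P.W j))
      rw [← hu.mul_left_inj]
      calc _ = P.toProj.appLE (D.V i ⊓ D.V j) (P.W i ⊓ P.W j)
            (le_inf (inf_le_left.trans (P.W_le i)) (inf_le_right.trans (P.W_le j))) (D.g i j) *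
            (ores inf_le_left (P.Φ i (D.u i)) * ores inf_le_right (P.Φ j (D.v j))) := by ring
        _ = P.g i j * (ores inf_le_left (P.Φ i (D.v i)) * ores inf_le_right (P.Φ j (D.u j))) *
            (ores inf_le_right (P.Φ j (D.v j)) * z) := by rw [h1, hz, mul_one]
        _ = _ := by ring
    · simp only [hn, res_smul]
      rw [hge i j, smul_smul, smul_smul]
      congr 1
      calc _ = ores inf_le_left (P.Φ i (D.v i)) * P.g i j * (ores inf_le_right (P.Φ j (D.v j)) * z) := by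
            rw [hz, mul_one]
        _ = _ := by ring
  obtain ⟨φ, -⟩ := LineHom.exists_iso htop hgen (n := n)
    (LineHom.trans_of_inf hgen hrel) hngen
  exact ⟨φ⟩

end TrivCharts

end Iso

section Assemble

variable {R A : Type u} [CommRing R] [CommRing A] [Algebra R A] {𝒜 : ℕ → Submodule R A}
  [GradedAlgebra 𝒜]

lemma str_eq_toSec {R' : Type u} [CommRing R'] {X : Scheme.{u}} (a : X ⟶ Spec (.of R'))
    (U : X.Opens) : str a U = toSec a U := rfl

/-- **The cartesian square criterion** for trivialized charts. -/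
theorem TrivCharts.isPullback {D : TwistData 𝒜} {X : Scheme.{u}} {L : X.Modules} {R' : Type u}
    [CommRing R'] (P : TrivCharts D L) (ρ : R →+* R') (a : X ⟶ Spec (.of R'))
    (haff : ∀ i, IsAffineOpen (P.W i))
    (hU : ∀ i j, X.basicOpen (P.Φ j (D.u i * D.v i)) = P.W i ⊓ P.W j)
    (hpush : ∀ i, IsPushout (CommRingCat.ofHom (baseAway 𝒜 (D.u i * D.v i)))
      (CommRingCat.ofHom ρ) (CommRingCat.ofHom (awayLift 𝒜 (P.Φ i) (P.isUnit_w i)))
      (CommRingCat.ofHom (str a (P.W i)))) :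
    IsPullback P.toProj a (structMap 𝒜) (Spec.map (CommRingCat.ofHom ρ)) :=
  P.charts.isPullback ρ a D.cover haff hU fun i => by
    have := hpush i
    rw [str_eq_toSec] at this
    exact this

variable (D : TwistData 𝒜) [Finite D.ι] [Algebra.FiniteType R A]
  (h0 : Function.Surjective (algebraMap R (𝒜 0)))
  (hflat : ∀ i, (baseAway 𝒜 (D.u i * D.v i)).Flat)
  (hfp : ∀ i, (baseAway 𝒜 (D.u i * D.v i)).FinitePresentation)
  {J : Type} (R' : J → Type u) [∀ n, CommRing (R' n)] (π : ∀ n, R →+* R' n)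
  (hπ : ∀ n, Function.Surjective (π n)) (X : J → Scheme.{u})
  (a : ∀ n, X n ⟶ Spec (.of (R' n))) (L : ∀ n, (X n).Modules) (P : ∀ n, TrivCharts D (L n))
  (haff : ∀ n i, IsAffineOpen ((P n).W i))
  (hU : ∀ n i j, (X n).basicOpen ((P n).Φ j (D.u i * D.v i)) = (P n).W i ⊓ (P n).W j)
  (hstr : ∀ n i r, (P n).Φ i (algebraMap R A r) = str (a n) ((P n).W i) (π n r))
  (hsurj : ∀ n i, Function.Surjective (awayLift 𝒜 ((P n).Φ i) ((P n).isUnit_w i)))
  (hker : ∀ n i, RingHom.ker (awayLift 𝒜 ((P n).Φ i) ((P n).isUnit_w i)) ≤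
    (RingHom.ker (π n)).map (baseAway 𝒜 (D.u i * D.v i)))

omit [Finite D.ι] [Algebra.FiniteType R A] in
lemma awayLift_baseAway {R₁ : Type u} [CommRing R₁] {X₁ : Scheme.{u}} {L₁ : X₁.Modules}
    (P : TrivCharts D L₁) (ρ : R →+* R₁) (a : X₁ ⟶ Spec (.of R₁))
    (hstr : ∀ i r, P.Φ i (algebraMap R A r) = str a (P.W i) (ρ r)) (i : D.ι) :
    (awayLift 𝒜 (P.Φ i) (P.isUnit_w i)).comp (baseAway 𝒜 (D.u i * D.v i)) =
      (str a (P.W i)).comp ρ := by
  ext r
  rw [RingHom.comp_apply, RingHom.comp_apply, ← hstr, awayLift, RingHom.comp_apply,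
    HomogeneousLocalization.algebraMap_apply]
  have h1 : (baseAway 𝒜 (D.u i * D.v i) r).val =
      algebraMap A (Localization.Away (D.u i * D.v i)) (algebraMap R A r) := by
    rw [← Localization.mk_one_eq_algebraMap]
    rfl
  rw [h1, IsLocalization.Away.lift_eq]

include h0 hflat hfp haff hU hπ hstr hsurj hker in
/-- **Assembly theorem** (trivialized form): see `assemble`. -/
theorem assemble' :
    ∃ (Y : Scheme.{u}) (b : Y ⟶ Spec (CommRingCat.of R)) (M : Y.Modules),
      IsProper b ∧ Flat b ∧ LocallyOfFinitePresentation b ∧ PicF.IsInvertible M ∧ CohB1.IsAmple M ∧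
      ∀ n, ∃ e : X n ≅ pullback b (Spec.map (CommRingCat.ofHom (π n))),
        e.hom ≫ pullback.snd b (Spec.map (CommRingCat.ofHom (π n))) = a n ∧
        Nonempty ((Scheme.Modules.pullback (e.hom ≫ pullback.fst b (Spec.map (CommRingCat.ofHom (π n))))).obj M ≅ L n) := by
  refine ⟨Proj 𝒜, structMap 𝒜, D.mod, isProper_structMap h0, flat_structMap D hflat,
    lfp_structMap D hfp, D.isInvertible_mod, D.isAmple_mod, fun n => ?_⟩
  have hsq := (P n).isPullback (π n) (a n) (haff n) (hU n) fun i =>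
    isPushout_of_surjective _ _ _ _ (awayLift_baseAway D (P n) (π n) (a n) (hstr n) i) (hπ n)
      (hsurj n i) (hker n i)
  refine ⟨hsq.isoPullback, hsq.isoPullback_hom_snd, ?_⟩
  rw [hsq.isoPullback_hom_fst]
  exact (P n).nonempty_iso

end Assemble

end Groth.Agent.Picfga.ProjGlue
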