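import Groth.Agent.Picfga.ProjTwist

/-!
# Polarized charts: cartesian squares over `Proj` together with the pullback of the ample module

`PolCharts D L` is the datum of charts of a scheme `X` for the graded ring `𝒜` in which the invertible
module `L` has generators `e i` corresponding to the fractions `v i / u i` of `D : TwistData 𝒜`.
* `PolCharts.nonempty_iso`: the pullback of `D.mod` along the induced morphism `X ⟶ Proj 𝒜` is `L`.
* `PolCharts.isPullback`: criterion for `X` to be the base change of `Proj 𝒜`.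
-/

set_option autoImplicit false
set_option backward.isDefEq.respectTransparency false

universe u

open CategoryTheory CategoryTheory.Limits AlgebraicGeometry HomogeneousLocalization TopologicalSpace
  Opposite
open Groth.Agent.Picfga.AwayLift Groth.Agent.Fdesc.LocGen

namespace Groth.Agent.Picfga.ProjGlue

section

variable {A : Type u} {σ : Type*} [CommRing A] [SetLike σ A] [AddSubgroupClass σ A] {𝒜 : ℕ → σ}
  [GradedRing 𝒜]

/-- Chart data for a polarized scheme `(X, L)`, with `e i` corresponding to `v i / u i`.  (Think of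
`Φ i f` as `f / (e i)^k` for `f ∈ 𝒜 k`, a section of `L^{⊗k}`.) -/
structure PolCharts (D : TwistData 𝒜) {X : Scheme.{u}} (L : X.Modules) where
  /-- the open cover -/
  U : D.ι → X.Opens
  iSup_U : ⨆ i, U i = ⊤
  /-- the ring homomorphisms -/
  Φ : ∀ i, A →+* Γ(X, U i)
  isUnit : ∀ i, IsUnit (Φ i (D.u i))
  Φ_eq : ∀ i, Φ i (D.v i) = Φ i (D.u i)
  /-- transition functions -/
  g : ∀ i j, Γ(X, U i ⊓ U j)
  compat : ∀ (i j : D.ι) (k : ℕ) (f : A), f ∈ 𝒜 k →
    ores (inf_le_right : U i ⊓ U j ≤ U j) (Φ j f) =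
      g i j ^ k * ores (inf_le_left : U i ⊓ U j ≤ U i) (Φ i f)
  /-- generators of `L` -/
  e : ∀ i, Γ(L, U i)
  isGen : ∀ i, IsGen (e i)
  e_eq : ∀ i j, res L (inf_le_left : U i ⊓ U j ≤ U i) (e i) =
    g i j • res L (inf_le_right : U i ⊓ U j ≤ U j) (e j)

namespace PolCharts

variable {D : TwistData 𝒜} {X : Scheme.{u}} {L : X.Modules} (P : PolCharts D L)

/-- The underlying charts. -/
noncomputable def charts : Charts 𝒜 X where
  ι := D.ι
  U := P.U
  iSup_U := P.iSup_U
  deg i := D.d i + (D.d i + 1)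
  deg_pos i := by omega
  w i := D.u i * D.v i
  w_mem i := SetLike.mul_mem_graded (D.u_mem i) (D.v_mem i)
  Φ := P.Φ
  isUnit i := by rw [map_mul, P.Φ_eq]; exact (P.isUnit i).mul (P.isUnit i)
  g := P.g
  compat := P.compat

/-- The morphism to `Proj`. -/
noncomputable def toProj : X ⟶ Proj 𝒜 := P.charts.toProj

lemma isUnit_w (i : D.ι) : IsUnit (P.Φ i (D.u i * D.v i)) := P.charts.isUnit i

lemma U_le (i : D.ι) : P.U i ≤ P.toProj ⁻¹ᵁ D.V i := P.charts.U_le i

lemma isUnit_g (i j : D.ι) : IsUnit (P.g i j) := by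
  have h1 := (P.isGen i).res (inf_le_left : P.U i ⊓ P.U j ≤ P.U i)
  rw [P.e_eq i j] at h1
  exact ((P.isGen j).res _).isUnit_of_smul h1

lemma appLE_g (i j : D.ι) :
    P.toProj.appLE (D.V i ⊓ D.V j) (P.U i ⊓ P.U j)
      (le_inf (inf_le_left.trans (P.U_le i)) (inf_le_right.trans (P.U_le j))) (D.g i j) =
      P.g i j := by
  have h1 := SetLike.mul_mem_graded (D.v_mem i) (D.u_mem j)
  have h2 := SetLike.mul_mem_graded (D.u_mem i) (D.v_mem j)
  rw [← add_assoc, add_right_comm] at h2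
  have hT : D.V i ⊓ D.V j ≤ Proj.basicOpen 𝒜 (D.u i * D.v j) := by
    rw [Proj.basicOpen_mul]
    exact le_inf (inf_le_left.trans (D.V_le_u i)) (inf_le_right.trans (D.V_le_v j))
  have h3 := P.charts.appLE_frac j (by omega) h1 h2 (D.V i ⊓ D.V j) hT (P.U i ⊓ P.U j)
    (le_inf (inf_le_left.trans (P.U_le i)) (inf_le_right.trans (P.U_le j))) inf_le_right
  have h4 := P.compat i j (D.d i) (D.u i) (D.u_mem i)
  have h5 := P.compat i j (D.d i + 1) (D.v i) (D.v_mem i)
  change P.toProj.appLE _ _ _ (D.g i j) * ores inf_le_right (P.Φ j (D.u i * D.v j)) =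
    ores inf_le_right (P.Φ j (D.v i * D.u j)) at h3
  rw [map_mul, map_mul, map_mul, map_mul, P.Φ_eq j, h4, h5, P.Φ_eq i] at h3
  have hu1 : IsUnit (ores (inf_le_right : P.U i ⊓ P.U j ≤ P.U j) (P.Φ j (D.u j))) :=
    (P.isUnit j).map _
  have hu2 : IsUnit (ores (inf_le_left : P.U i ⊓ P.U j ≤ P.U i) (P.Φ i (D.u i))) :=
    (P.isUnit i).map _
  rw [← mul_assoc, hu1.mul_left_inj] at h3
  rw [← (((P.isUnit_g i j).pow (D.d i)).mul hu2).mul_left_inj, h3]
  ring

/-- **The pullback of the ample module is `L`.** -/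
theorem nonempty_iso : Nonempty ((Scheme.Modules.pullback P.toProj).obj D.mod ≅ L) := by
  set e' : ∀ i, Γ((Scheme.Modules.pullback P.toProj).obj D.mod, P.U i) :=
    fun i => res _ (P.U_le i) (pullSec P.toProj (D.gen i)) with he'
  have hgen : ∀ i, IsGen (e' i) := fun i => ((D.isGen_gen i).pullSec P.toProj).res _
  have htr : ∀ i j, res _ (inf_le_left : P.U i ⊓ P.U j ≤ P.U i) (e' i) =
      P.g i j • res _ (inf_le_right : P.U i ⊓ P.U j ≤ P.U j) (e' j) := by
    intro i j
    have hle : P.U i ⊓ P.U j ≤ P.toProj ⁻¹ᵁ (D.V i ⊓ D.V j) :=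
      le_inf (inf_le_left.trans (P.U_le i)) (inf_le_right.trans (P.U_le j))
    have h1 := congrArg (fun z => res _ hle (pullSec P.toProj z)) (D.gen_eq i j)
    simp only [pullSec_smul, ← res_pullSec, res_smul, res_res] at h1
    simp only [he', res_res]
    rw [h1, ← P.appLE_g i j]
    congr 1
  obtain ⟨φ, -⟩ := LineHom.exists_iso P.iSup_U hgen (n := P.e)
    (LineHom.trans_of_inf hgen fun i j => ⟨P.g i j, htr i j, P.e_eq i j⟩) P.isGen
  exact ⟨φ⟩

end PolCharts

end

section Cartesian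

variable {R A : Type u} [CommRing R] [CommRing A] [Algebra R A] {𝒜 : ℕ → Submodule R A}
  [GradedAlgebra 𝒜] {D : TwistData 𝒜} {X : Scheme.{u}} {L : X.Modules} {R' : Type u} [CommRing R']

/-- **The cartesian square criterion** for polarized charts. -/
theorem PolCharts.isPullback (P : PolCharts D L) (ρ : R →+* R') (a : X ⟶ Spec (.of R'))
    (haff : ∀ i, IsAffineOpen (P.U i))
    (hU : ∀ i j, X.basicOpen (P.Φ j (D.u i * D.v i)) = P.U i ⊓ P.U j)
    (hpush : ∀ i, IsPushout (CommRingCat.ofHom (baseAway 𝒜 (D.u i * D.v i)))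
      (CommRingCat.ofHom ρ) (CommRingCat.ofHom (awayLift 𝒜 (P.Φ i) (P.isUnit_w i)))
      (CommRingCat.ofHom (toSec a (P.U i)))) :
    IsPullback P.toProj a (structMap 𝒜) (Spec.map (CommRingCat.ofHom ρ)) :=
  P.charts.isPullback ρ a D.cover haff hU hpush

end Cartesian

end Groth.Agent.Picfga.ProjGlue
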