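import Mathlib.AlgebraicGeometry.Morphisms.Flat
import Mathlib.AlgebraicGeometry.Morphisms.FinitePresentation
import Groth.Agent.Picfga.ProjPol

/-!
# Assembling a polarized scheme from a graded algebra and polarized charts of its base changes
-/

set_option autoImplicit false
set_option backward.isDefEq.respectTransparency false

universe u

open CategoryTheory CategoryTheory.Limits AlgebraicGeometry HomogeneousLocalization TopologicalSpace
  Opposite
open Groth.Agent.Picfga.AwayLift Groth.Agent.Fdesc.LocGen

namespace Groth.Agent.Picfga.ProjGlue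

/-- A square of ring homomorphisms with surjective horizontal arrows `g`, `h` is cocartesian as soon as
`ker h` is generated by the image of `ker g`. -/
lemma isPushout_of_surjective {R S R' B : Type u} [CommRing R] [CommRing S] [CommRing R']
    [CommRing B] (f : R →+* S) (g : R →+* R') (h : S →+* B) (k : R' →+* B)
    (comm : h.comp f = k.comp g) (hg : Function.Surjective g) (hh : Function.Surjective h)
    (hker : RingHom.ker h ≤ (RingHom.ker g).map f) :
    IsPushout (CommRingCat.ofHom f) (CommRingCat.ofHom g) (CommRingCat.ofHom h)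
      (CommRingCat.ofHom k) := by
  refine ⟨⟨by ext x; exact congr($comm x)⟩, ⟨PushoutCocone.IsColimit.mk _
    (fun s => CommRingCat.ofHom (h.liftOfSurjective hh ⟨s.inl.hom, ?_⟩)) (fun s => ?_)
    (fun s => ?_) (fun s m h1 h2 => ?_)⟩⟩
  · refine hker.trans ?_
    rw [Ideal.map_le_iff_le_comap]
    intro x hx
    rw [RingHom.mem_ker] at hx
    have h1 := congr($(s.condition) x)
    change s.inl.hom (f x) = 0
    refine Eq.trans h1 ?_
    change s.inr.hom (g x) = 0
    rw [hx, map_zero]
  · ext x
    exact h.liftOfRightInverse_comp_apply _ (Function.rightInverse_surjInv hh) _ x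
  · ext x
    obtain ⟨y, rfl⟩ := hg x
    have h1 : k (g y) = h (f y) := congr($(comm.symm) y)
    change h.liftOfSurjective hh _ (k (g y)) = _
    rw [h1]
    refine (h.liftOfRightInverse_comp_apply _ (Function.rightInverse_surjInv hh) _ (f y)).trans ?_
    exact congr($(s.condition) y)
  · ext x
    obtain ⟨y, rfl⟩ := hh x
    refine Eq.trans ?_ (h.liftOfRightInverse_comp_apply _ (Function.rightInverse_surjInv hh) _ y).symm
    exact congr($h1 y)

section

variable {R A : Type u} [CommRing R] [CommRing A] [Algebra R A] {𝒜 : ℕ → Submodule R A}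
  [GradedAlgebra 𝒜] 

/-- The open cover of `Proj` by the standard charts. -/
noncomputable def TwistData.openCover (D : TwistData 𝒜) : (Proj 𝒜).OpenCover where
  I₀ := D.ι
  X := fun i => Spec (.of (Away 𝒜 (D.u i * D.v i)))
  f := fun i => Proj.awayι 𝒜 (D.u i * D.v i) (SetLike.mul_mem_graded (D.u_mem i) (D.v_mem i))
    (by omega)
  mem₀ := by
    rw [Scheme.presieve₀_mem_precoverage_iff]
    refine ⟨fun x => ?_, fun i => inferInstance⟩
    obtain ⟨i, hi⟩ := TopologicalSpace.Opens.mem_iSup.mp
      (show x ∈ ⨆ i, Proj.basicOpen 𝒜 (D.u i * D.v i) by rw [D.cover]; trivial)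
    refine ⟨i, ?_⟩
    have : x ∈ (Proj.awayι 𝒜 (D.u i * D.v i)
        (SetLike.mul_mem_graded (D.u_mem i) (D.v_mem i)) (by omega)).opensRange := by
      rwa [Proj.opensRange_awayι]
    exact this

lemma flat_structMap (D : TwistData 𝒜) (h : ∀ i, (baseAway 𝒜 (D.u i * D.v i)).Flat) :
    Flat (structMap 𝒜) := by
  rw [IsZariskiLocalAtSource.iff_of_openCover (P := @Flat) D.openCover]
  intro i
  change Flat (Proj.awayι 𝒜 _ _ _ ≫ structMap 𝒜)
  rw [awayι_structMap, Flat.SpecMap_iff]
  exact h i

lemma lfp_structMap (D : TwistData 𝒜)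
    (h : ∀ i, (baseAway 𝒜 (D.u i * D.v i)).FinitePresentation) :
    LocallyOfFinitePresentation (structMap 𝒜) := by
  rw [IsZariskiLocalAtSource.iff_of_openCover (P := @LocallyOfFinitePresentation) D.openCover]
  intro i
  change LocallyOfFinitePresentation (Proj.awayι 𝒜 _ _ _ ≫ structMap 𝒜)
  rw [awayι_structMap, LocallyOfFinitePresentation.SpecMap_iff]
  exact h i

lemma isProper_structMap [Algebra.FiniteType R A] (h0 : Function.Surjective (algebraMap R (𝒜 0))) :
    IsProper (structMap 𝒜) := by
  have h1 : Algebra.FiniteType (𝒜 0) A := by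
    have h3 : (algebraMap (𝒜 0) A).comp (algebraMap R (𝒜 0)) = algebraMap R A := rfl
    have h2 : ((algebraMap (𝒜 0) A).comp (algebraMap R (𝒜 0))).FiniteType := by
      rw [h3, RingHom.finiteType_algebraMap]
      infer_instance
    exact RingHom.FiniteType.of_comp_finiteType h2
  have h2 : IsClosedImmersion (Spec.map (CommRingCat.ofHom (algebraMap R (𝒜 0)))) :=
    IsClosedImmersion.spec_of_surjective _ h0
  rw [structMap]
  infer_instance

variable (D : TwistData 𝒜) [Finite D.ι] [Algebra.FiniteType R A]
  (h0 : Function.Surjective (algebraMap R (𝒜 0)))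
  (hflat : ∀ i, (baseAway 𝒜 (D.u i * D.v i)).Flat)
  (hfp : ∀ i, (baseAway 𝒜 (D.u i * D.v i)).FinitePresentation)
  {J : Type} (R' : J → Type u) [∀ n, CommRing (R' n)] (π : ∀ n, R →+* R' n) (X : J → Scheme.{u})
  (a : ∀ n, X n ⟶ Spec (.of (R' n))) (L : ∀ n, (X n).Modules) (P : ∀ n, PolCharts D (L n))
  (haff : ∀ n i, IsAffineOpen ((P n).U i))
  (hU : ∀ n i j, (X n).basicOpen ((P n).Φ j (D.u i * D.v i)) = (P n).U i ⊓ (P n).U j)
  (hpush : ∀ n i, IsPushout (CommRingCat.ofHom (baseAway 𝒜 (D.u i * D.v i)))
      (CommRingCat.ofHom (π n)) (CommRingCat.ofHom (awayLift 𝒜 ((P n).Φ i) ((P n).isUnit_w i)))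
      (CommRingCat.ofHom (toSec (a n) ((P n).U i))))

include h0 hflat hfp haff hU hpush in
/-- **Assembly theorem**: a finitely generated graded algebra `𝒜` over `R` with flat and finitely
presented charts, together with polarized charts of `(X n, L n)` over `R' n` which are base changes of
the charts of `𝒜`, gives a proper flat finitely presented `Y` over `R` with an ample invertible
module `M`, whose base change to `R' n` is `(X n, L n)`. -/
theorem assemble :
    ∃ (Y : Scheme.{u}) (b : Y ⟶ Spec (CommRingCat.of R)) (M : Y.Modules),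
      IsProper b ∧ Flat b ∧ LocallyOfFinitePresentation b ∧ PicF.IsInvertible M ∧ CohB1.IsAmple M ∧
      ∀ n, ∃ e : X n ≅ pullback b (Spec.map (CommRingCat.ofHom (π n))),
        e.hom ≫ pullback.snd b (Spec.map (CommRingCat.ofHom (π n))) = a n ∧
        Nonempty ((Scheme.Modules.pullback (e.hom ≫ pullback.fst b (Spec.map (CommRingCat.ofHom (π n))))).obj M ≅ L n) := by
  refine ⟨Proj 𝒜, structMap 𝒜, D.mod, isProper_structMap h0, flat_structMap D hflat,
    lfp_structMap D hfp, D.isInvertible_mod, D.isAmple_mod, fun n => ?_⟩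
  have hsq := (P n).isPullback (π n) (a n) (haff n) (hU n) (hpush n)
  refine ⟨hsq.isoPullback, hsq.isoPullback_hom_snd, ?_⟩
  rw [hsq.isoPullback_hom_fst]
  exact (P n).nonempty_iso

end

end Groth.Agent.Picfga.ProjGlue
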