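import Groth.Agent.Picfga.ProjGlue2

/-!
# Fractions as sections of the structure sheaf of `Proj`
-/

set_option autoImplicit false
set_option backward.isDefEq.respectTransparency false

universe u

open CategoryTheory CategoryTheory.Limits AlgebraicGeometry HomogeneousLocalization TopologicalSpace
  Opposite
open Groth.Agent.Picfga.AwayLift Groth.Agent.Fdesc.LocGen

namespace Groth.Agent.Picfga.ProjGlue

variable {A : Type u} {σ : Type*} [CommRing A] [SetLike σ A] [AddSubgroupClass σ A] (𝒜 : ℕ → σ)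
  [GradedRing 𝒜]

/-- Sections of the structure sheaf of `Proj` as functions. -/
noncomputable def ofVal {T : (Proj 𝒜).Opens} (f : (ProjectiveSpectrum.Proj.structureSheaf 𝒜).1.obj (op T)) :
    Γ(Proj 𝒜, T) := f

/-- The value of a section of the structure sheaf. -/
noncomputable def valAt {T : (Proj 𝒜).Opens} (f : Γ(Proj 𝒜, T)) (x : Proj 𝒜) (hx : x ∈ T) :
    HomogeneousLocalization.AtPrime 𝒜 (x : ProjectiveSpectrum 𝒜).asHomogeneousIdeal.toIdeal :=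
  (show (ProjectiveSpectrum.Proj.structureSheaf 𝒜).1.obj (op T) from f).1 ⟨x, hx⟩

variable {𝒜}

lemma valAt_ext {T : (Proj 𝒜).Opens} {f g : Γ(Proj 𝒜, T)}
    (h : ∀ x hx, (valAt 𝒜 f x hx).val = (valAt 𝒜 g x hx).val) : f = g :=
  Subtype.ext (funext fun x => HomogeneousLocalization.val_injective _ (h x.1 x.2))

lemma valAt_mul {T : (Proj 𝒜).Opens} (f g : Γ(Proj 𝒜, T)) (x : Proj 𝒜) (hx : x ∈ T) :
    valAt 𝒜 (f * g) x hx = valAt 𝒜 f x hx * valAt 𝒜 g x hx := rfl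

lemma valAt_one {T : (Proj 𝒜).Opens} (x : Proj 𝒜) (hx : x ∈ T) :
    valAt 𝒜 (1 : Γ(Proj 𝒜, T)) x hx = 1 := rfl

lemma valAt_ores {T T' : (Proj 𝒜).Opens} (h : T' ≤ T) (f : Γ(Proj 𝒜, T)) (x : Proj 𝒜)
    (hx : x ∈ T') : valAt 𝒜 (ores h f) x hx = valAt 𝒜 f x (h hx) := rfl

/-- The fraction `a / b` of two homogeneous elements of the same degree. -/
noncomputable def frac (a b : A) (h : ∃ n, a ∈ 𝒜 n ∧ b ∈ 𝒜 n) (T : (Proj 𝒜).Opens)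
    (hT : T ≤ Proj.basicOpen 𝒜 b) : Γ(Proj 𝒜, T) :=
  ofVal 𝒜 ⟨fun x => HomogeneousLocalization.mk ⟨h.choose, ⟨a, h.choose_spec.1⟩,
    ⟨b, h.choose_spec.2⟩, hT x.2⟩, fun x => ⟨T, x.2, 𝟙 _, h.choose, ⟨a, h.choose_spec.1⟩,
    ⟨b, h.choose_spec.2⟩, fun y => hT y.2, fun _ => rfl⟩⟩

lemma valAt_frac (a b : A) (h : ∃ n, a ∈ 𝒜 n ∧ b ∈ 𝒜 n) (T : (Proj 𝒜).Opens)
    (hT : T ≤ Proj.basicOpen 𝒜 b) (x : Proj 𝒜) (hx : x ∈ T) :
    (valAt 𝒜 (frac a b h T hT) x hx).val = Localization.mk a ⟨b, hT hx⟩ := rfl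

lemma ores_frac (a b : A) (h : ∃ n, a ∈ 𝒜 n ∧ b ∈ 𝒜 n) (T T' : (Proj 𝒜).Opens)
    (hT : T ≤ Proj.basicOpen 𝒜 b) (h' : T' ≤ T) :
    ores h' (frac a b h T hT) = frac a b h T' (h'.trans hT) := rfl

lemma frac_mul (a b c e : A) (h : ∃ n, a ∈ 𝒜 n ∧ b ∈ 𝒜 n) (h' : ∃ n, c ∈ 𝒜 n ∧ e ∈ 𝒜 n)
    (h'' : ∃ n, a * c ∈ 𝒜 n ∧ b * e ∈ 𝒜 n)
    (T : (Proj 𝒜).Opens) (hT : T ≤ Proj.basicOpen 𝒜 b) (hT' : T ≤ Proj.basicOpen 𝒜 e)
    (hT'' : T ≤ Proj.basicOpen 𝒜 (b * e)) :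
    frac a b h T hT * frac c e h' T hT' = frac (a * c) (b * e) h'' T hT'' := by
  apply valAt_ext
  intro x hx
  rw [valAt_mul, HomogeneousLocalization.val_mul, valAt_frac, valAt_frac, valAt_frac,
    Localization.mk_mul]
  rfl

lemma frac_eq (a b c e : A) (h : ∃ n, a ∈ 𝒜 n ∧ b ∈ 𝒜 n) (h' : ∃ n, c ∈ 𝒜 n ∧ e ∈ 𝒜 n)
    (T : (Proj 𝒜).Opens) (hT : T ≤ Proj.basicOpen 𝒜 b) (hT' : T ≤ Proj.basicOpen 𝒜 e)
    (heq : a * e = c * b) : frac a b h T hT = frac c e h' T hT' := by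
  apply valAt_ext
  intro x hx
  rw [valAt_frac, valAt_frac, Localization.mk_eq_mk_iff, Localization.r_iff_exists]
  refine ⟨1, ?_⟩
  simp only [OneMemClass.coe_one, one_mul]
  rw [mul_comm e a, heq, mul_comm]

lemma frac_self (a : A) (h : ∃ n, a ∈ 𝒜 n ∧ a ∈ 𝒜 n) (T : (Proj 𝒜).Opens)
    (hT : T ≤ Proj.basicOpen 𝒜 a) : frac a a h T hT = 1 := by
  apply valAt_ext
  intro x hx
  rw [valAt_frac, valAt_one, HomogeneousLocalization.val_one]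
  exact Localization.mk_self (⟨a, hT hx⟩ :
    (x : ProjectiveSpectrum 𝒜).asHomogeneousIdeal.toIdeal.primeCompl)

lemma awayToSection_mk {w : A} {d : ℕ} (hd : w ∈ 𝒜 d) (n : ℕ) (a : A) (ha : a ∈ 𝒜 (n • d)) :
    (Proj.awayToSection 𝒜 w).hom (Away.mk 𝒜 hd n a ha) =
      frac a (w ^ n) ⟨n • d, ha, SetLike.pow_mem_graded n hd⟩ (Proj.basicOpen 𝒜 w) (by
        intro x hx h
        exact hx ((x : ProjectiveSpectrum 𝒜).isPrime.mem_of_pow_mem n h)) := by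
  apply valAt_ext
  intro x hx
  rfl

end Groth.Agent.Picfga.ProjGlue
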