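import Groth.Agent.Picfga.ProjFrac

/-!
# Pulling back fractions along a morphism to `Proj` given by charts
-/

set_option autoImplicit false
set_option backward.isDefEq.respectTransparency false

universe u

open CategoryTheory CategoryTheory.Limits AlgebraicGeometry HomogeneousLocalization TopologicalSpace
  Opposite
open Groth.Agent.Picfga.AwayLift Groth.Agent.Fdesc.LocGen

namespace Groth.Agent.Picfga.ProjGlue

lemma toSpecΓ_comp_injective {X : Scheme.{u}} (U : X.Opens) {B : CommRingCat.{u}}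
    {α β : B ⟶ Γ(X, U)} (h : U.toSpecΓ ≫ Spec.map α = U.toSpecΓ ≫ Spec.map β) : α = β := by
  have h1 := congr(($h).appTop)
  rw [Scheme.Hom.comp_appTop, Scheme.Hom.comp_appTop, Scheme.Opens.toSpecΓ_appTop] at h1
  have h2 : ∀ γ : B ⟶ Γ(X, U), (Spec.map γ).appTop ≫ (Scheme.ΓSpecIso Γ(X, U)).hom =
      (Scheme.ΓSpecIso B).hom ≫ γ := fun γ => Scheme.ΓSpecIso_naturality γ
  simp only [← Category.assoc] at h1
  rw [h2, h2, cancel_mono, cancel_epi] at h1
  exact h1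

lemma isUnit_ores {X : Scheme.{u}} {U V : X.Opens} (hV : V ≤ U) (f : Γ(X, U))
    (h : V ≤ X.basicOpen f) : IsUnit (ores hV f) := by
  have h1 : IsUnit (ores (X.basicOpen_le f) f) := X.toRingedSpace.isUnit_res_basicOpen f
  have h2 := h1.map (ores h)
  rwa [ores_ores] at h2

variable {A : Type u} {σ : Type*} [CommRing A] [SetLike σ A] [AddSubgroupClass σ A] {𝒜 : ℕ → σ}
  [GradedRing 𝒜] {X : Scheme.{u}}

namespace Charts

variable (C : Charts 𝒜 X)

lemma U_le (i : C.ι) : C.U i ≤ C.toProj ⁻¹ᵁ Proj.basicOpen 𝒜 (C.w i) := by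
  have h1 := C.toProj_preimage_inf i (C.w_mem i) (C.deg_pos i)
  rw [Scheme.basicOpen_of_isUnit X (C.isUnit i)] at h1
  exact inf_eq_left.mp h1

lemma awayToSection_appLE (i : C.ι) :
    Proj.awayToSection 𝒜 (C.w i) ≫ C.toProj.appLE (Proj.basicOpen 𝒜 (C.w i)) (C.U i) (C.U_le i) =
      CommRingCat.ofHom (awayLift 𝒜 (C.Φ i) (C.isUnit i)) := by
  apply toSpecΓ_comp_injective
  rw [Spec.map_comp, Scheme.Opens.toSpecΓ_SpecMap_appLE_assoc]
  change _ = C.chartMap i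
  change _ ≫ Proj.basicOpenToSpec 𝒜 (C.w i) = _
  rw [← Proj.basicOpenIsoSpec_hom 𝒜 (C.w i) (C.w_mem i) (C.deg_pos i), ← Iso.eq_comp_inv,
    ← cancel_mono (Proj.basicOpen 𝒜 (C.w i)).ι, Category.assoc, Scheme.Hom.resLE_comp_ι,
    Proj.basicOpenIsoSpec_inv_ι, C.chartMap_awayι]

/-- The key formula: the pullback of the fraction `a / b` is `Φ a / Φ b`. -/
lemma appLE_frac (i : C.ι) {n : ℕ} (hn : 0 < n) {a b : A} (ha : a ∈ 𝒜 n) (hb : b ∈ 𝒜 n)
    (T : (Proj 𝒜).Opens) (hT : T ≤ Proj.basicOpen 𝒜 b) (V : X.Opens)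
    (hV : V ≤ C.toProj ⁻¹ᵁ T) (hVi : V ≤ C.U i) :
    C.toProj.appLE T V hV (frac a b ⟨n, ha, hb⟩ T hT) * ores hVi (C.Φ i b) =
      ores hVi (C.Φ i a) := by
  set w := C.w i with hw
  set d := C.deg i with hd
  obtain ⟨e, he⟩ : ∃ e, d = e + 1 := ⟨d - 1, by have := C.deg_pos i; omega⟩
  have hwd : w ∈ 𝒜 d := C.w_mem i
  have hVb : V ≤ X.basicOpen (C.Φ i b) := by
    rw [← C.toProj_preimage_inf i hb hn]
    exact le_inf hVi (hV.trans (C.toProj.preimage_mono hT))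
  have hu : IsUnit (ores hVi (C.Φ i b)) := isUnit_ores hVi _ hVb
  have hVT : V ≤ C.toProj ⁻¹ᵁ (Proj.basicOpen 𝒜 w ⊓ T) := le_inf (hVi.trans (C.U_le i)) hV
  set F : Γ(Proj 𝒜, Proj.basicOpen 𝒜 w ⊓ T) →+* Γ(X, V) :=
    (C.toProj.appLE (Proj.basicOpen 𝒜 w ⊓ T) V hVT).hom with hF
  have hwn : Proj.basicOpen 𝒜 w ≤ Proj.basicOpen 𝒜 (w ^ n) := by rw [Proj.basicOpen_pow _ _ n hn]
  -- fractions with denominator a power of `w`
  have key : ∀ (x : A) (hx : x ∈ 𝒜 (n • d)), F (frac x (w ^ n)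
      ⟨n • d, hx, SetLike.pow_mem_graded n hwd⟩ _ (inf_le_left.trans hwn)) *
      ores hVi (C.Φ i w) ^ n = ores hVi (C.Φ i x) := by
    intro x hx
    have h1 := congr(ores hVi ($(C.awayToSection_appLE i) (Away.mk 𝒜 hwd n x hx)))
    have h2 := awayLift_mk_mul 𝒜 (C.Φ i) (C.isUnit i) hwd n x hx
    rw [← map_pow, ← h2, map_mul]
    congr 1
    refine Eq.trans ?_ h1
    rw [CommRingCat.comp_apply, awayToSection_mk]
    have h3 : ∀ z : Γ(Proj 𝒜, Proj.basicOpen 𝒜 w),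
        ores hVi (C.toProj.appLE (Proj.basicOpen 𝒜 w) (C.U i) (C.U_le i) z) =
        F (ores inf_le_left z) := by
      intro z
      have h4 : C.toProj.appLE (Proj.basicOpen 𝒜 w) (C.U i) (C.U_le i) ≫
          X.presheaf.map (homOfLE hVi).op = (Proj 𝒜).presheaf.map (homOfLE inf_le_left).op ≫
          C.toProj.appLE (Proj.basicOpen 𝒜 w ⊓ T) V hVT := by
        rw [Scheme.Hom.appLE_map, Scheme.Hom.map_appLE]
      exact congr($h4 z)
    exact (h3 (frac x (w ^ n) ⟨n • d, hx, SetLike.pow_mem_graded n hwd⟩ _ hwn)).symm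
  have hF2 : C.toProj.appLE T V hV (frac a b ⟨n, ha, hb⟩ T hT) =
      F (frac a b ⟨n, ha, hb⟩ _ (inf_le_right.trans hT)) := by
    rw [← ores_frac a b ⟨n, ha, hb⟩ T (Proj.basicOpen 𝒜 w ⊓ T) hT inf_le_right]
    have h4 : C.toProj.appLE T V hV = (Proj 𝒜).presheaf.map (homOfLE inf_le_right).op ≫
          C.toProj.appLE (Proj.basicOpen 𝒜 w ⊓ T) V hVT := by
        rw [Scheme.Hom.map_appLE]
    exact congr($h4 _)
  have hbd : b ^ d ∈ 𝒜 (n • d) := by
    have := SetLike.pow_mem_graded d hb; rwa [smul_eq_mul, mul_comm] at this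
  have hab : a * b ^ e ∈ 𝒜 (n • d) := by
    have h1 := SetLike.mul_mem_graded ha (SetLike.pow_mem_graded e hb)
    convert h1 using 2
    rw [he, smul_eq_mul, smul_eq_mul]; ring
  have hmul : frac (b ^ d) (w ^ n) ⟨n • d, hbd, SetLike.pow_mem_graded n hwd⟩
        (Proj.basicOpen 𝒜 w ⊓ T) (inf_le_left.trans hwn) *
      frac a b ⟨n, ha, hb⟩ _ (inf_le_right.trans hT) =
      frac (a * b ^ e) (w ^ n) ⟨n • d, hab, SetLike.pow_mem_graded n hwd⟩ _
        (inf_le_left.trans hwn) := by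
    rw [frac_mul _ _ _ _ _ _ ⟨n • d + n, SetLike.mul_mem_graded hbd ha,
      SetLike.mul_mem_graded (SetLike.pow_mem_graded n hwd) hb⟩ _ _ _
      (by rw [Proj.basicOpen_mul]; exact le_inf (inf_le_left.trans hwn) (inf_le_right.trans hT))]
    apply frac_eq
    rw [he]; ring
  have h5 := congrArg (fun z => F z * ores hVi (C.Φ i w) ^ n) hmul
  rw [map_mul, key _ hab, mul_right_comm, key _ hbd, map_pow, map_mul, map_pow, map_mul, map_pow,
    ← hF2, map_pow] at h5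
  rw [← (hu.pow e).mul_left_inj, ← h5, he]
  ring

end Charts

end Groth.Agent.Picfga.ProjGlue
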