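import Mathlib.AlgebraicGeometry.ProjectiveSpectrum.Basic
import Groth.Agent.Picfga.AwayLift
import Groth.Agent.Fdesc.LocGen

/-!
# Morphisms to `Proj` from chart data

Let `𝒜` be a graded ring.  A family of ring homomorphisms `Φ i : A → Γ(X, U i)` over an open cover
`U i` of a scheme `X`, which are related on overlaps by `Φ j f = (g i j) ^ k * Φ i f` for `f` homogeneous
of degree `k`, and such that `Φ i (w i)` is a unit for some homogeneous `w i` of positive degree, defines a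
morphism `X ⟶ Proj 𝒜`.  (Think of `Φ i f = f / e i ^ k` for a generator `e i` of an invertible module
on `U i`.)
-/

set_option autoImplicit false
set_option backward.isDefEq.respectTransparency false

universe u

open CategoryTheory CategoryTheory.Limits AlgebraicGeometry HomogeneousLocalization
open Groth.Agent.Picfga.AwayLift Groth.Agent.Fdesc.LocGen

namespace Groth.Agent.Picfga.ProjGlue

variable {A : Type u} {σ : Type*} [CommRing A] [SetLike σ A] [AddSubgroupClass σ A] (𝒜 : ℕ → σ)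
  [GradedRing 𝒜]

section Local

variable {X : Scheme.{u}}

/-- The morphism `U ⟶ D₊(w) ⟶ Proj 𝒜` defined by `Φ : A → Γ(X, U)` with `Φ w` a unit. -/
noncomputable def localMap (U : X.Opens) (Φ : A →+* Γ(X, U)) {w : A} {d : ℕ} (hd : w ∈ 𝒜 d)
    (h0 : 0 < d) (hw : IsUnit (Φ w)) : U.toScheme ⟶ Proj 𝒜 :=
  U.toSpecΓ ≫ Spec.map (CommRingCat.ofHom (awayLift 𝒜 Φ hw)) ≫ Proj.awayι 𝒜 w hd h0

lemma homOfLE_localMap {U V : X.Opens} (h : V ≤ U) (Φ : A →+* Γ(X, U)) {w : A} {d : ℕ}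
    (hd : w ∈ 𝒜 d) (h0 : 0 < d) (hw : IsUnit (Φ w)) :
    X.homOfLE h ≫ localMap 𝒜 U Φ hd h0 hw =
      localMap 𝒜 V ((ores h).comp Φ) hd h0 (hw.map (ores h)) := by
  rw [localMap, localMap, ← Scheme.Opens.toSpecΓ_SpecMap_presheaf_map_assoc _ _ h,
    ← Spec.map_comp_assoc]
  congr 3
  ext1
  exact comp_awayLift 𝒜 Φ hw (ores h) _

lemma localMap_mul (U : X.Opens) (Φ : A →+* Γ(X, U)) {w w' : A} {d e : ℕ} (hd : w ∈ 𝒜 d)
    (h0 : 0 < d) (hw : IsUnit (Φ w)) (he : w' ∈ 𝒜 e) (hww' : IsUnit (Φ (w * w')))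
    (hde : w * w' ∈ 𝒜 (d + e)) (h0' : 0 < d + e) :
    localMap 𝒜 U Φ hd h0 hw = localMap 𝒜 U Φ hde h0' hww' := by
  rw [localMap, localMap, ← awayLift_awayMap 𝒜 Φ hd he rfl hw hww', CommRingCat.ofHom_comp,
    Spec.map_comp_assoc, Proj.SpecMap_awayMap_awayι]

lemma localMap_scale (U : X.Opens) (Φ Φ' : A →+* Γ(X, U)) {w : A} {d : ℕ} (hd : w ∈ 𝒜 d)
    (h0 : 0 < d) (hw : IsUnit (Φ w)) (hw' : IsUnit (Φ' w)) (g : Γ(X, U))
    (h : ∀ (k : ℕ) (f : A), f ∈ 𝒜 k → Φ' f = g ^ k * Φ f) :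
    localMap 𝒜 U Φ' hd h0 hw' = localMap 𝒜 U Φ hd h0 hw := by
  rw [localMap, localMap, awayLift_eq_of_scale 𝒜 Φ Φ' hd hw hw' g h]

/-- Two charts related by rescaling define the same morphism to `Proj`. -/
lemma localMap_eq (U : X.Opens) (Φ Φ' : A →+* Γ(X, U)) {w w' : A} {d d' : ℕ} (hd : w ∈ 𝒜 d)
    (h0 : 0 < d) (hw : IsUnit (Φ w)) (hd' : w' ∈ 𝒜 d') (h0' : 0 < d') (hw' : IsUnit (Φ' w'))
    (g : Γ(X, U)) (h : ∀ (k : ℕ) (f : A), f ∈ 𝒜 k → Φ' f = g ^ k * Φ f) :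
    localMap 𝒜 U Φ' hd' h0' hw' = localMap 𝒜 U Φ hd h0 hw := by
  have hu : IsUnit (g ^ d' * Φ w') := by rw [← h d' w' hd']; exact hw'
  have hg : IsUnit g := (isUnit_pow_iff h0'.ne').mp (isUnit_of_mul_isUnit_left hu)
  have h1 : IsUnit (Φ (w * w')) := by
    rw [map_mul]; exact hw.mul (isUnit_of_mul_isUnit_right hu)
  have hde : w * w' ∈ 𝒜 (d + d') := SetLike.mul_mem_graded hd hd'
  have h2 : IsUnit (Φ' (w * w')) := by
    rw [h _ _ hde]; exact (hg.pow _).mul h1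
  have hde' : w' * w ∈ 𝒜 (d' + d) := SetLike.mul_mem_graded hd' hd
  have h2' : IsUnit (Φ' (w' * w)) := by rwa [mul_comm]
  rw [localMap_mul 𝒜 U Φ hd h0 hw hd' h1 hde (by omega),
    localMap_mul 𝒜 U Φ' hd' h0' hw' hd h2' hde' (by omega),
    ← localMap_scale 𝒜 U Φ Φ' hde (by omega) h1 h2 g h]
  congr 1 <;> simp [mul_comm, add_comm]


end Local

/-- Chart data for a morphism `X ⟶ Proj 𝒜`. -/
structure Charts (X : Scheme.{u}) where
  /-- index type -/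
  ι : Type u
  /-- the open cover -/
  U : ι → X.Opens
  iSup_U : ⨆ i, U i = ⊤
  /-- degrees of the `w i` -/
  deg : ι → ℕ
  deg_pos : ∀ i, 0 < deg i
  /-- homogeneous elements whose nonvanishing loci are hit by `U i` -/
  w : ι → A
  w_mem : ∀ i, w i ∈ 𝒜 (deg i)
  /-- the ring homomorphisms -/
  Φ : ∀ i, A →+* Γ(X, U i)
  isUnit : ∀ i, IsUnit (Φ i (w i))
  /-- transition functions -/
  g : ∀ i j, Γ(X, U i ⊓ U j)
  compat : ∀ (i j : ι) (k : ℕ) (f : A), f ∈ 𝒜 k →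
    ores (inf_le_right : U i ⊓ U j ≤ U j) (Φ j f) =
      g i j ^ k * ores (inf_le_left : U i ⊓ U j ≤ U i) (Φ i f)

namespace Charts

variable {𝒜} {X : Scheme.{u}} (C : Charts 𝒜 X)

/-- The morphism defined by a chart. -/
noncomputable def loc (i : C.ι) : (C.U i).toScheme ⟶ Proj 𝒜 :=
  localMap 𝒜 (C.U i) (C.Φ i) (C.w_mem i) (C.deg_pos i) (C.isUnit i)

lemma loc_compat (i j : C.ι) :
    X.homOfLE (inf_le_left : C.U i ⊓ C.U j ≤ C.U i) ≫ C.loc i =
      X.homOfLE (inf_le_right : C.U i ⊓ C.U j ≤ C.U j) ≫ C.loc j := by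
  rw [loc, loc, homOfLE_localMap, homOfLE_localMap]
  exact (localMap_eq 𝒜 _ _ _ _ _ _ _ _ _ (C.g i j) (C.compat i j)).symm

/-- The morphism `X ⟶ Proj 𝒜` defined by chart data. -/
noncomputable def toProj : X ⟶ Proj 𝒜 :=
  (X.openCoverOfIsOpenCover C.U C.iSup_U).glueMorphisms C.loc fun i j => by
    rw [← cancel_epi (isPullback_opens_inf (C.U i) (C.U j)).isoPullback.hom]
    have h1 := (isPullback_opens_inf (C.U i) (C.U j)).isoPullback_hom_fst
    have h2 := (isPullback_opens_inf (C.U i) (C.U j)).isoPullback_hom_snd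
    exact ((reassoc_of% h1) (C.loc i)).trans
      ((C.loc_compat i j).trans ((reassoc_of% h2) (C.loc j)).symm)

@[reassoc]
lemma ι_toProj (i : C.ι) : (C.U i).ι ≫ C.toProj = C.loc i :=
  (X.openCoverOfIsOpenCover C.U C.iSup_U).ι_glueMorphisms _ _ i

end Charts

end Groth.Agent.Picfga.ProjGlue
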