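import Mathlib.AlgebraicGeometry.ProjectiveSpectrum.Proper
import Groth.Agent.Picfga.ProjGlue

/-!
# Morphisms to `Proj` from chart data: preimages of basic opens, cartesian squares
-/

set_option autoImplicit false
set_option backward.isDefEq.respectTransparency false

universe u

open CategoryTheory CategoryTheory.Limits AlgebraicGeometry HomogeneousLocalization
open Groth.Agent.Picfga.AwayLift Groth.Agent.Fdesc.LocGen

namespace Groth.Agent.Picfga.ProjGlue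

section Preimage

variable {A : Type u} {σ : Type*} [CommRing A] [SetLike σ A] [AddSubgroupClass σ A] (𝒜 : ℕ → σ)
  [GradedRing 𝒜] {X : Scheme.{u}}

lemma image_toSpecΓ_preimage_basicOpen (U : X.Opens) (r : Γ(X, U)) :
    U.ι ''ᵁ (U.toSpecΓ ⁻¹ᵁ PrimeSpectrum.basicOpen r) = X.basicOpen r := by
  rw [Scheme.Opens.toSpecΓ, Scheme.Hom.comp_preimage, SpecMap_preimage_basicOpen,
    Scheme.toSpecΓ_preimage_basicOpen, Scheme.Opens.ι_image_basicOpen_topIso_inv]

/-- The preimage of a basic open under `localMap`. -/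
lemma localMap_preimage (U : X.Opens) (Φ : A →+* Γ(X, U)) {w : A} {d : ℕ} (hd : w ∈ 𝒜 d)
    (h0 : 0 < d) (hw : IsUnit (Φ w)) {f : A} {e : ℕ} (he : f ∈ 𝒜 e) (he0 : 0 < e) :
    U.ι ''ᵁ (localMap 𝒜 U Φ hd h0 hw ⁻¹ᵁ Proj.basicOpen 𝒜 f) = X.basicOpen (Φ f) := by
  rw [localMap, Scheme.Hom.comp_preimage, Scheme.Hom.comp_preimage,
    Proj.awayι_preimage_basicOpen 𝒜 hd h0 he he0, SpecMap_preimage_basicOpen,
    image_toSpecΓ_preimage_basicOpen]
  have h1 := awayLift_mk_mul 𝒜 Φ hw hd e (f ^ d)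
    (by convert! SetLike.pow_mem_graded d he using 2; exact mul_comm _ _)
  have h2 : X.basicOpen (Φ f) = X.basicOpen (Φ (f ^ d)) := by
    rw [map_pow, Scheme.basicOpen_pow _ _ h0]
  rw [h2, ← h1, Scheme.basicOpen_mul, Scheme.basicOpen_of_isUnit X (hw.pow e)]
  exact (inf_eq_left.mpr (X.basicOpen_le _)).symm

namespace Charts

variable {𝒜} (C : Charts 𝒜 X)

lemma toProj_preimage_inf (i : C.ι) {f : A} {e : ℕ} (he : f ∈ 𝒜 e) (he0 : 0 < e) :
    C.U i ⊓ C.toProj ⁻¹ᵁ Proj.basicOpen 𝒜 f = X.basicOpen (C.Φ i f) := by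
  rw [← localMap_preimage 𝒜 (C.U i) (C.Φ i) (C.w_mem i) (C.deg_pos i) (C.isUnit i) he he0]
  change _ = (C.U i).ι ''ᵁ (C.loc i ⁻¹ᵁ _)
  rw [← C.ι_toProj i, Scheme.Hom.comp_preimage, Scheme.Hom.image_preimage_eq_opensRange_inf,
    Scheme.Opens.opensRange_ι]

lemma toProj_preimage (i : C.ι) (h : ∀ j, X.basicOpen (C.Φ j (C.w i)) = C.U i ⊓ C.U j) :
    C.toProj ⁻¹ᵁ Proj.basicOpen 𝒜 (C.w i) = C.U i := by
  have h1 : C.toProj ⁻¹ᵁ Proj.basicOpen 𝒜 (C.w i) =
      ⨆ j, C.U j ⊓ C.toProj ⁻¹ᵁ Proj.basicOpen 𝒜 (C.w i) := by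
    rw [← iSup_inf_eq, C.iSup_U, top_inf_eq]
  rw [h1]
  simp_rw [C.toProj_preimage_inf _ (C.w_mem i) (C.deg_pos i), h, ← inf_iSup_eq, C.iSup_U, inf_top_eq]

/-- The map of a chart to the corresponding affine chart of `Proj`. -/
noncomputable def chartMap (i : C.ι) : (C.U i).toScheme ⟶ Spec (.of (Away 𝒜 (C.w i))) :=
  (C.U i).toSpecΓ ≫ Spec.map (CommRingCat.ofHom (awayLift 𝒜 (C.Φ i) (C.isUnit i)))

lemma chartMap_awayι (i : C.ι) :
    C.chartMap i ≫ Proj.awayι 𝒜 (C.w i) (C.w_mem i) (C.deg_pos i) = (C.U i).ι ≫ C.toProj := by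
  rw [C.ι_toProj, chartMap, Category.assoc]; rfl

lemma isPullback_chart (i : C.ι) (h : ∀ j, X.basicOpen (C.Φ j (C.w i)) = C.U i ⊓ C.U j) :
    IsPullback (C.chartMap i) (C.U i).ι (Proj.awayι 𝒜 (C.w i) (C.w_mem i) (C.deg_pos i))
      C.toProj := by
  apply IsOpenImmersion.isPullback
  · exact (C.chartMap_awayι i).symm
  · rw [Proj.opensRange_awayι, C.toProj_preimage i h, Scheme.Opens.opensRange_ι]

end Charts

end Preimage

section Cartesian

variable {R A : Type u} [CommRing R] [CommRing A] [Algebra R A] (𝒜 : ℕ → Submodule R A)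
  [GradedAlgebra 𝒜]

/-- The structure morphism of `Proj`. -/
noncomputable def structMap : Proj 𝒜 ⟶ Spec (.of R) :=
  Proj.toSpecZero 𝒜 ≫ Spec.map (CommRingCat.ofHom (algebraMap R (𝒜 0)))

/-- The structure map `R → (A_w)₀`. -/
noncomputable def baseAway (w : A) : R →+* Away 𝒜 w :=
  (fromZeroRingHom 𝒜 _).comp (algebraMap R (𝒜 0))

lemma awayι_structMap {w : A} {d : ℕ} (hd : w ∈ 𝒜 d) (h0 : 0 < d) :
    Proj.awayι 𝒜 w hd h0 ≫ structMap 𝒜 = Spec.map (CommRingCat.ofHom (baseAway 𝒜 w)) := by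
  rw [structMap, Proj.awayι_toSpecZero_assoc, ← Spec.map_comp]
  rfl

variable {𝒜} {X : Scheme.{u}} {R' : Type u} [CommRing R']

/-- The structure map `R' → Γ(X, U)` of a scheme over `Spec R'`. -/
noncomputable def toSec (a : X ⟶ Spec (.of R')) (U : X.Opens) : R' →+* Γ(X, U) :=
  (ores le_top).comp (a.appTop.hom.comp (Scheme.ΓSpecIso (.of R')).inv.hom)

lemma toSpecΓ_toSec (a : X ⟶ Spec (.of R')) (U : X.Opens) :
    U.toSpecΓ ≫ Spec.map (CommRingCat.ofHom (toSec a U)) = U.ι ≫ a := by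
  have h1 : CommRingCat.ofHom (toSec a U) = (Scheme.ΓSpecIso (.of R')).inv ≫ a.appTop ≫
    X.presheaf.map (homOfLE le_top).op := rfl
  rw [h1]
  simp only [Spec.map_comp, ← Category.assoc]
  rw [Category.assoc, Category.assoc, Scheme.Opens.toSpecΓ_SpecMap_presheaf_map_top_assoc,
    ← Scheme.toSpecΓ_naturality_assoc]
  simp

/-- **The cartesian square criterion.** -/
theorem Charts.isPullback (C : Charts 𝒜 X) (ρ : R →+* R') (a : X ⟶ Spec (.of R'))
    (hcov : ⨆ i, Proj.basicOpen 𝒜 (C.w i) = ⊤) (haff : ∀ i, IsAffineOpen (C.U i))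
    (hU : ∀ i j, X.basicOpen (C.Φ j (C.w i)) = C.U i ⊓ C.U j)
    (hpush : ∀ i, IsPushout (CommRingCat.ofHom (baseAway 𝒜 (C.w i)))
      (CommRingCat.ofHom ρ) (CommRingCat.ofHom (awayLift 𝒜 (C.Φ i) (C.isUnit i)))
      (CommRingCat.ofHom (toSec a (C.U i)))) :
    IsPullback C.toProj a (structMap 𝒜) (Spec.map (CommRingCat.ofHom ρ)) := by
  let 𝒰 : (Proj 𝒜).OpenCover :=
    { I₀ := C.ι
      X := fun i => Spec (.of (Away 𝒜 (C.w i)))
      f := fun i => Proj.awayι 𝒜 (C.w i) (C.w_mem i) (C.deg_pos i)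
      mem₀ := by
        rw [Scheme.presieve₀_mem_precoverage_iff]
        refine ⟨fun x => ?_, fun i => inferInstance⟩
        obtain ⟨i, hi⟩ := TopologicalSpace.Opens.mem_iSup.mp
          (show x ∈ ⨆ i, Proj.basicOpen 𝒜 (C.w i) by rw [hcov]; trivial)
        refine ⟨i, ?_⟩
        have : x ∈ (Proj.awayι 𝒜 (C.w i) (C.w_mem i) (C.deg_pos i)).opensRange := by
          rwa [Proj.opensRange_awayι]
        exact this }
  refine Scheme.isPullback_of_openCover C.toProj a (structMap 𝒜) (Spec.map (CommRingCat.ofHom ρ))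
    𝒰 fun i => ?_
  have h1 := C.isPullback_chart i (hU i)
  have h2 : IsPullback (C.chartMap i) ((C.U i).ι ≫ a)
      (Proj.awayι 𝒜 (C.w i) (C.w_mem i) (C.deg_pos i) ≫ structMap 𝒜)
      (Spec.map (CommRingCat.ofHom ρ)) := by
    rw [awayι_structMap, ← toSpecΓ_toSec]
    have h3 := isPullback_SpecMap_of_isPushout _ _ _ _ (hpush i)
    refine IsPullback.of_iso h3 (haff i).isoSpec.symm (Iso.refl _) (Iso.refl _) (Iso.refl _)
      ?_ ?_ ?_ ?_
    · rw [Iso.refl_hom, Category.comp_id, Iso.symm_hom, Iso.eq_inv_comp]; rfl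
    · rw [Iso.refl_hom, Category.comp_id, Iso.symm_hom, Iso.eq_inv_comp]; rfl
    · simp
    · simp
  refine IsPullback.of_iso h2 h1.flip.isoPullback (Iso.refl _) (Iso.refl _) (Iso.refl _)
      ?_ ?_ ?_ ?_
  · rw [Iso.refl_hom, Category.comp_id]; exact h1.flip.isoPullback_hom_snd.symm
  · rw [Iso.refl_hom, Category.comp_id]
    exact congr($(h1.flip.isoPullback_hom_fst.symm) ≫ a)
  · rw [Iso.refl_hom, Category.comp_id]; exact (Category.id_comp _).symm
  · simp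

end Cartesian

end Groth.Agent.Picfga.ProjGlue
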