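import Groth.Agent.Picfga.ProjFrac2
import Groth.Agent.Picfga.LineCocycle
import Groth.Agent.Fdesc.LocGenPullback

/-!
# An ample invertible module on `Proj` of a graded ring

Let `𝒜` be a graded ring and `u i ∈ 𝒜 (d i)`, `v i ∈ 𝒜 (d i + 1)` elements such that the basic opens
`D₊(u i * v i)` cover `Proj 𝒜`.  The "fractions" `v i / u i` generate an invertible module `M` on
`Proj 𝒜` (for graded rings generated in degree one it is Serre's twisting sheaf), which is ample if the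
family is finite.
-/

set_option autoImplicit false
set_option backward.isDefEq.respectTransparency false

universe u

open CategoryTheory CategoryTheory.Limits AlgebraicGeometry HomogeneousLocalization TopologicalSpace
  Opposite
open Groth.Agent.Picfga.AwayLift Groth.Agent.Fdesc.LocGen

namespace Groth.Agent.Picfga.ProjGlue

variable {A : Type u} {σ : Type*} [CommRing A] [SetLike σ A] [AddSubgroupClass σ A] {𝒜 : ℕ → σ}
  [GradedRing 𝒜]

lemma frac_pow (a b : A) (h : ∃ n, a ∈ 𝒜 n ∧ b ∈ 𝒜 n) (k : ℕ)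
    (h' : ∃ n, a ^ k ∈ 𝒜 n ∧ b ^ k ∈ 𝒜 n)
    (T : (Proj 𝒜).Opens) (hT : T ≤ Proj.basicOpen 𝒜 b) (hT' : T ≤ Proj.basicOpen 𝒜 (b ^ k)) :
    frac a b h T hT ^ k = frac (a ^ k) (b ^ k) h' T hT' := by
  have hpow : ∀ (x : Proj 𝒜) (hx : x ∈ T) (f : Γ(Proj 𝒜, T)),
      valAt 𝒜 (f ^ k) x hx = valAt 𝒜 f x hx ^ k := fun x hx f => rfl
  apply valAt_ext
  intro x hx
  rw [hpow, HomogeneousLocalization.val_pow, valAt_frac, valAt_frac, Localization.mk_pow]
  rfl

lemma basicOpen_frac (a b : A) (h : ∃ n, a ∈ 𝒜 n ∧ b ∈ 𝒜 n) (T : (Proj 𝒜).Opens)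
    (hT : T ≤ Proj.basicOpen 𝒜 b) :
    (Proj 𝒜).basicOpen (frac a b h T hT) = T ⊓ Proj.basicOpen 𝒜 a := by
  apply le_antisymm
  · apply le_inf ((Proj 𝒜).basicOpen_le _)
    intro x hx hxa
    have h1 := isUnit_ores ((Proj 𝒜).basicOpen_le (frac a b h T hT)) _ le_rfl
    obtain ⟨g, hg⟩ := h1.exists_right_inv
    have h2 := congrArg (fun z => (valAt 𝒜 z x hx).val) hg
    simp only [valAt_mul, valAt_ores, valAt_one, HomogeneousLocalization.val_mul, valAt_frac,
      HomogeneousLocalization.val_one] at h2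
    have h3 := IsUnit.of_mul_eq_one _ h2
    rw [Localization.mk_eq_mk', IsLocalization.AtPrime.isUnit_mk'_iff] at h3
    exact h3 hxa
  · have h1 : IsUnit (ores (inf_le_left : T ⊓ Proj.basicOpen 𝒜 a ≤ T) (frac a b h T hT)) := by
      rw [ores_frac, isUnit_iff_exists_inv]
      obtain ⟨n, ha, hb⟩ := h
      refine ⟨frac b a ⟨n, hb, ha⟩ _ inf_le_right, ?_⟩
      have hle : T ⊓ Proj.basicOpen 𝒜 a ≤ Proj.basicOpen 𝒜 (b * a) := by
        rw [Proj.basicOpen_mul]; exact inf_le_inf_right _ hT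
      rw [frac_mul _ _ _ _ _ _ ⟨n + n, SetLike.mul_mem_graded ha hb,
        SetLike.mul_mem_graded hb ha⟩ _ _ _ hle]
      simp only [mul_comm a b]
      apply frac_self
    have h2 := Scheme.basicOpen_of_isUnit _ h1
    have h3 := Scheme.basicOpen_res (Proj 𝒜) (frac a b h T hT)
      (homOfLE (inf_le_left : T ⊓ Proj.basicOpen 𝒜 a ≤ T)).op
    rw [← h2]
    exact h3.le.trans inf_le_right

variable (𝒜)

/-- Pairs of homogeneous elements `u i, v i` of adjacent degrees. -/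
structure TwistData where
  /-- index type -/
  ι : Type u
  /-- degrees -/
  d : ι → ℕ
  d_pos : ∀ i, 0 < d i
  /-- denominators -/
  u : ι → A
  /-- numerators -/
  v : ι → A
  u_mem : ∀ i, u i ∈ 𝒜 (d i)
  v_mem : ∀ i, v i ∈ 𝒜 (d i + 1)
  cover : ⨆ i, Proj.basicOpen 𝒜 (u i * v i) = ⊤

namespace TwistData

variable {𝒜} (D : TwistData 𝒜)

/-- The standard opens. -/
noncomputable def V (i : D.ι) : (Proj 𝒜).Opens := Proj.basicOpen 𝒜 (D.u i * D.v i)

lemma V_le_u (i : D.ι) : D.V i ≤ Proj.basicOpen 𝒜 (D.u i) := by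
  rw [V, Proj.basicOpen_mul]; exact inf_le_left

lemma V_le_v (i : D.ι) : D.V i ≤ Proj.basicOpen 𝒜 (D.v i) := by
  rw [V, Proj.basicOpen_mul]; exact inf_le_right

lemma g_aux (i j : D.ι) : ∃ n, D.v i * D.u j ∈ 𝒜 n ∧ D.u i * D.v j ∈ 𝒜 n := by
  refine ⟨D.d i + 1 + D.d j, SetLike.mul_mem_graded (D.v_mem i) (D.u_mem j), ?_⟩
  have := SetLike.mul_mem_graded (D.u_mem i) (D.v_mem j)
  rwa [← add_assoc, add_right_comm] at this

/-- The transition functions. -/
noncomputable def g (i j : D.ι) : Γ(Proj 𝒜, D.V i ⊓ D.V j) :=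
  frac (D.v i * D.u j) (D.u i * D.v j) (D.g_aux i j) _
    (by rw [Proj.basicOpen_mul]
        exact le_inf (inf_le_left.trans (D.V_le_u i)) (inf_le_right.trans (D.V_le_v j)))

lemma g_self (i : D.ι) : D.g i i = 1 := by
  rw [g]
  have h : D.v i * D.u i = D.u i * D.v i := mul_comm _ _
  simp only [h]
  apply frac_self

lemma g_trans (i j k : D.ι) (T : (Proj 𝒜).Opens) (hi : T ≤ D.V i) (hj : T ≤ D.V j)
    (hk : T ≤ D.V k) :
    ores (le_inf hi hk) (D.g i k) = ores (le_inf hi hj) (D.g i j) * ores (le_inf hj hk) (D.g j k) := by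
  obtain ⟨n, h1, h2⟩ := D.g_aux i j
  obtain ⟨m, h3, h4⟩ := D.g_aux j k
  rw [g, g, g, ores_frac, ores_frac, ores_frac, frac_mul _ _ _ _ _ _ ⟨n + m,
    SetLike.mul_mem_graded h1 h3, SetLike.mul_mem_graded h2 h4⟩ _ _ _ (by
      simp only [Proj.basicOpen_mul]
      exact le_inf (le_inf (hi.trans (D.V_le_u i)) (hj.trans (D.V_le_v j)))
        (le_inf (hj.trans (D.V_le_u j)) (hk.trans (D.V_le_v k))))]
  apply frac_eq
  ring

lemma exists_mod : ∃ (L : (Proj 𝒜).Modules) (e : ∀ i, Γ(L, D.V i)), (∀ i, IsGen (e i)) ∧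
    ∀ i j, res L inf_le_left (e i) = D.g i j • res L inf_le_right (e j) :=
  LineCocycle.exists_of_cocycle D.V D.g D.g_self D.g_trans

/-- The invertible module generated by the fractions `v i / u i`. -/
noncomputable def mod : (Proj 𝒜).Modules := D.exists_mod.choose

/-- The generator `v i / u i`. -/
noncomputable def gen (i : D.ι) : Γ(D.mod, D.V i) := D.exists_mod.choose_spec.choose i

lemma isGen_gen (i : D.ι) : IsGen (D.gen i) := D.exists_mod.choose_spec.choose_spec.1 i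

lemma gen_eq (i j : D.ι) :
    res D.mod inf_le_left (D.gen i) = D.g i j • res D.mod inf_le_right (D.gen j) :=
  D.exists_mod.choose_spec.choose_spec.2 i j

lemma isInvertible_mod : PicF.IsInvertible D.mod := by
  rw [isInvertible_iff]
  intro x
  obtain ⟨i, hi⟩ := Opens.mem_iSup.mp (show x ∈ ⨆ i, D.V i by
    have := D.cover
    change ⨆ i, D.V i = ⊤ at this
    rw [this]; trivial)
  exact ⟨_, D.gen i, hi, D.isGen_gen i⟩

/-- Homogeneous elements of degree `n` define global sections of `M^{⊗n}`. -/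
lemma exists_section {n : ℕ} (hn : 0 < n) {f : A} (hf : f ∈ 𝒜 n) :
    ∃ s : Γ(CohB1.tensorPow D.mod n, ⊤), ∀ i, ∃ a : Γ(Proj 𝒜, D.V i),
      res _ le_top s = a • pow (D.gen i) n ∧
      (Proj 𝒜).basicOpen a = D.V i ⊓ Proj.basicOpen 𝒜 f := by
  have hmem : ∀ i, ∃ m, f * D.u i ^ n ∈ 𝒜 m ∧ D.v i ^ n ∈ 𝒜 m := by
    intro i
    refine ⟨n * (D.d i + 1), ?_, ?_⟩
    · have := SetLike.mul_mem_graded hf (SetLike.pow_mem_graded n (D.u_mem i))
      rw [smul_eq_mul] at this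
      rwa [mul_add, mul_one, add_comm]
    · exact SetLike.pow_mem_graded n (D.v_mem i)
  have hle : ∀ i, D.V i ≤ Proj.basicOpen 𝒜 (D.v i ^ n) := fun i => by
    rw [Proj.basicOpen_pow _ _ n hn]; exact D.V_le_v i
  have hgl : ∃ s : Γ(CohB1.tensorPow D.mod n, ⊤), ∀ i, res _ le_top s =
      frac (f * D.u i ^ n) (D.v i ^ n) (hmem i) (D.V i) (hle i) • pow (D.gen i) n := by
    apply res_glue (CohB1.tensorPow D.mod n) D.V (fun i => le_top) (D.cover.symm.le)
      (fun i => frac (f * D.u i ^ n) (D.v i ^ n) (hmem i) (D.V i) (hle i) • pow (D.gen i) n)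
    intro i j
    have hden : ∃ m, (D.v i * D.u j) ^ n ∈ 𝒜 m ∧ (D.u i * D.v j) ^ n ∈ 𝒜 m := by
      obtain ⟨m, h1, h2⟩ := D.g_aux i j
      exact ⟨n • m, SetLike.pow_mem_graded n h1, SetLike.pow_mem_graded n h2⟩
    obtain ⟨m1, h1, h2⟩ := hden
    obtain ⟨m2, h3, h4⟩ := hmem i
    have hT : D.V i ⊓ D.V j ≤ Proj.basicOpen 𝒜 ((D.u i * D.v j) ^ n) := by
      rw [Proj.basicOpen_pow _ _ n hn, Proj.basicOpen_mul]
      exact le_inf (inf_le_left.trans (D.V_le_u i)) (inf_le_right.trans (D.V_le_v j))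
    rw [res_smul, res_smul, res_pow, res_pow, D.gen_eq i j, smul_pow, smul_smul, ores_frac,
      ores_frac, g, frac_pow _ _ _ n ⟨m1, h1, h2⟩ _ _ hT,
      frac_mul _ _ _ _ _ _ ⟨m2 + m1, SetLike.mul_mem_graded h3 h1, SetLike.mul_mem_graded h4 h2⟩
        _ _ _ (by rw [Proj.basicOpen_mul]; exact le_inf (inf_le_left.trans (hle i)) hT)]
    congr 1
    apply frac_eq
    ring
  obtain ⟨s, hs⟩ := hgl
  refine ⟨s, fun i => ⟨_, hs i, ?_⟩⟩
  rw [basicOpen_frac, Proj.basicOpen_mul, Proj.basicOpen_pow _ _ n hn, ← inf_assoc,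
    inf_eq_left.mpr (inf_le_left.trans (D.V_le_u i))]

/-- The invertible module generated by the fractions `v i / u i` is ample. -/
theorem isAmple_mod [Finite D.ι] : CohB1.IsAmple D.mod := by
  have hdeg : ∀ i, D.u i * D.v i ∈ 𝒜 (2 * D.d i + 1) := fun i => by
    have := SetLike.mul_mem_graded (D.u_mem i) (D.v_mem i)
    rwa [← add_assoc, ← two_mul] at this
  have hcov : ⨆ i, D.V i = ⊤ := D.cover
  refine ⟨D.isInvertible_mod, ?_, fun x => ?_⟩
  · have h1 : IsCompact ((⨆ i, D.V i : (Proj 𝒜).Opens) : Set (Proj 𝒜)) := by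
      rw [Opens.coe_iSup]
      exact isCompact_iUnion fun i =>
        (Proj.isAffineOpen_basicOpen 𝒜 _ (hdeg i) (by omega)).isCompact
    rw [hcov] at h1
    exact ⟨h1⟩
  · obtain ⟨i, hi⟩ := Opens.mem_iSup.mp (show x ∈ ⨆ i, D.V i by rw [hcov]; trivial)
    obtain ⟨s, hs⟩ := D.exists_section (by omega) (hdeg i)
    have h1 : ∀ j, CohB1.genLocus _ (homOf s) ⊓ D.V j = D.V i ⊓ D.V j := by
      intro j
      obtain ⟨a, h2, h3⟩ := hs j
      rw [genLocus_inf_eq (homOf s) ((D.isGen_gen j).pow _) (a := a) (by rw [sec_homOf]; exact h2),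
        h3, inf_comm]
      rfl
    have h2 : CohB1.genLocus _ (homOf s) = D.V i := by
      rw [← inf_top_eq (CohB1.genLocus _ (homOf s)), ← hcov, inf_iSup_eq]
      simp_rw [h1]
      rw [← inf_iSup_eq, hcov, inf_top_eq]
    refine ⟨2 * D.d i, homOf s, ?_, ?_⟩
    · rw [h2]; exact hi
    · rw [h2]; exact Proj.isAffineOpen_basicOpen 𝒜 _ (hdeg i) (by omega)

end TwistData

end Groth.Agent.Picfga.ProjGlue
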