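import Groth.Agent.Picfga.LineHom
import Groth.Agent.Fdesc.LocGenPullback

/-!
# Semilinear isomorphisms of line bundles

For `τ : Z ⟶ Y`, `M` on `Y`, `N` on `Z`: `SemiHom τ M N` is a family of additive maps
`Γ(M, W) → Γ(N, V)` for `V ≤ τ⁻¹ W`, semilinear over the pullback of functions, compatible with
restrictions and taking local generators to local generators (that is, for invertible modules,
an isomorphism `τ^* M ≅ N`, see `SemiHom.ofIso`).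

* `SemiHom.comp`, `SemiHom.id`, `SemiHom.unitSmul`.
* `exists_ratio`: two families of generators which transform in the same way differ by a global
  unit.
* `SemiHom.exists_unit`: two semilinear isomorphisms over the same `τ` differ by a global unit.
* Rigidification: `Norm`, `exists_norm`, `Norm.unique`, `Norm.comp`, `Norm.id`,
  `Norm.map_eq_self`.
-/

set_option autoImplicit false
set_option backward.isDefEq.respectTransparency false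

universe u v

open CategoryTheory AlgebraicGeometry TopologicalSpace Opposite

namespace Groth.Agent.Picfga.Semi

open Groth.Agent.Fdesc Groth.Agent.Fdesc.LocGen Groth.Agent.Picfga.LineHom

variable {T Z Y : Scheme.{u}}

/-- Pullback of functions. -/
noncomputable def fn (τ : Z ⟶ Y) {W : Y.Opens} {V : Z.Opens} (h : V ≤ τ ⁻¹ᵁ W) :
    Γ(Y, W) →+* Γ(Z, V) := (τ.appLE W V h).hom

lemma fn_eq_app (τ : Z ⟶ Y) {W : Y.Opens} (a : Γ(Y, W)) :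
    fn τ (le_refl (τ ⁻¹ᵁ W)) a = τ.app W a := by
  rw [fn, Scheme.Hom.app_eq_appLE]

lemma ores_fn (τ : Z ⟶ Y) {W : Y.Opens} {V V' : Z.Opens} (h : V ≤ τ ⁻¹ᵁ W) (hV : V' ≤ V)
    (a : Γ(Y, W)) : ores hV (fn τ h a) = fn τ (hV.trans h) a := by
  have := τ.appLE_map h (homOfLE hV).op
  exact ConcreteCategory.congr_hom this a

lemma fn_ores (τ : Z ⟶ Y) {W W' : Y.Opens} {V : Z.Opens} (hW : W' ≤ W) (h : V ≤ τ ⁻¹ᵁ W')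
    (a : Γ(Y, W)) : fn τ h (ores hW a) = fn τ (h.trans (τ.preimage_mono hW)) a := by
  have := τ.map_appLE h (homOfLE hW).op
  exact ConcreteCategory.congr_hom this a

lemma fn_fn (σ : T ⟶ Z) (τ : Z ⟶ Y) (ρ : T ⟶ Y) (hρ : ρ = σ ≫ τ) {W : Y.Opens} {V : Z.Opens}
    {U : T.Opens} (h : V ≤ τ ⁻¹ᵁ W) (h' : U ≤ σ ⁻¹ᵁ V) (h'' : U ≤ ρ ⁻¹ᵁ W) (a : Γ(Y, W)) :
    fn σ h' (fn τ h a) = fn ρ h'' a := by
  subst hρ
  have := Scheme.Hom.appLE_comp_appLE σ τ W V U h h'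
  exact ConcreteCategory.congr_hom this a

lemma fn_id (ρ : Y ⟶ Y) (hρ : ρ = 𝟙 Y) {W V : Y.Opens} (h : V ≤ ρ ⁻¹ᵁ W) (h' : V ≤ W)
    (a : Γ(Y, W)) : fn ρ h a = ores h' a := by
  subst hρ
  have h1 : fn (𝟙 Y) (le_refl ((𝟙 Y) ⁻¹ᵁ W)) a = a := by
    rw [fn_eq_app, Scheme.Hom.id_app]
    rfl
  have h2 := ores_fn (𝟙 Y) (le_refl ((𝟙 Y) ⁻¹ᵁ W)) h a
  rw [h1] at h2
  exact h2.symm

lemma le_of_eq_comp {σ : T ⟶ Z} {τ : Z ⟶ Y} {ρ : T ⟶ Y} (hρ : ρ = σ ≫ τ) {W : Y.Opens}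
    {U : T.Opens} (h : U ≤ ρ ⁻¹ᵁ W) : U ≤ σ ⁻¹ᵁ (τ ⁻¹ᵁ W) := by
  subst hρ
  exact h

lemma le_of_eq_id {ρ : Y ⟶ Y} (hρ : ρ = 𝟙 Y) {W U : Y.Opens} (h : U ≤ ρ ⁻¹ᵁ W) : U ≤ W := by
  subst hρ
  exact h

/-- Semilinear isomorphisms. -/
structure SemiHom (τ : Z ⟶ Y) (M : Y.Modules) (N : Z.Modules) where
  /-- The maps on sections. -/
  map (W : Y.Opens) (V : Z.Opens) (h : V ≤ τ ⁻¹ᵁ W) : Γ(M, W) →+ Γ(N, V)
  map_smul (W : Y.Opens) (V : Z.Opens) (h : V ≤ τ ⁻¹ᵁ W) (a : Γ(Y, W)) (m : Γ(M, W)) :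
    map W V h (a • m) = fn τ h a • map W V h m
  res_map (W : Y.Opens) (V V' : Z.Opens) (h : V ≤ τ ⁻¹ᵁ W) (hV : V' ≤ V) (m : Γ(M, W)) :
    res N hV (map W V h m) = map W V' (hV.trans h) m
  map_res (W W' : Y.Opens) (V : Z.Opens) (hW : W' ≤ W) (h : V ≤ τ ⁻¹ᵁ W') (m : Γ(M, W)) :
    map W' V h (res M hW m) = map W V (h.trans (τ.preimage_mono hW)) m
  map_gen (W : Y.Opens) (V : Z.Opens) (h : V ≤ τ ⁻¹ᵁ W) (m : Γ(M, W)) (hm : IsGen m) :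
    IsGen (map W V h m)

namespace SemiHom

variable {M : Y.Modules} {N : Z.Modules} {P : T.Modules}

/-- The semilinear isomorphism attached to `τ^* M ≅ N`. -/
noncomputable def ofIso (τ : Z ⟶ Y) (θ : (Scheme.Modules.pullback τ).obj M ≅ N) :
    SemiHom τ M N where
  map W V h := AddMonoidHom.mk' (fun m ↦ res N h (θ.hom.app (τ ⁻¹ᵁ W) (pullSec τ m)))
    (fun m m' ↦ by rw [pullSec_add, map_add, map_add])
  map_smul W V h a m := by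
    simp only [AddMonoidHom.mk'_apply]
    rw [pullSec_smul, Scheme.Modules.Hom.app_smul, res_smul, ← fn_eq_app, ores_fn]
  res_map W V V' h hV m := by simp only [AddMonoidHom.mk'_apply, res_res]
  map_res W W' V hW h m := by
    simp only [AddMonoidHom.mk'_apply]
    rw [← res_pullSec, app_res, res_res]
  map_gen W V h m hm := by
    simp only [AddMonoidHom.mk'_apply]
    exact ((hm.pullSec τ).app θ.hom).res h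

lemma ofIso_map (τ : Z ⟶ Y) (θ : (Scheme.Modules.pullback τ).obj M ≅ N) (W : Y.Opens)
    (V : Z.Opens) (h : V ≤ τ ⁻¹ᵁ W) (m : Γ(M, W)) :
    (ofIso τ θ).map W V h m = res N h (θ.hom.app (τ ⁻¹ᵁ W) (pullSec τ m)) := rfl

/-- Composition of semilinear isomorphisms. -/
noncomputable def comp {τ : Z ⟶ Y} {σ : T ⟶ Z} (Φ : SemiHom τ M N) (Ψ : SemiHom σ N P)
    (ρ : T ⟶ Y) (hρ : ρ = σ ≫ τ) : SemiHom ρ M P where
  map W V h := (Ψ.map (τ ⁻¹ᵁ W) V (le_of_eq_comp hρ h)).comp (Φ.map W (τ ⁻¹ᵁ W) le_rfl)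
  map_smul W V h a m := by
    simp only [AddMonoidHom.comp_apply]
    rw [Φ.map_smul, Ψ.map_smul, fn_fn σ τ ρ hρ _ _ h]
  res_map W V V' h hV m := by
    simp only [AddMonoidHom.comp_apply]
    rw [Ψ.res_map]
  map_res W W' V hW h m := by
    simp only [AddMonoidHom.comp_apply]
    rw [Φ.map_res, ← Φ.res_map W _ _ le_rfl (τ.preimage_mono hW), Ψ.map_res]
  map_gen W V h m hm := by
    simp only [AddMonoidHom.comp_apply]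
    exact Ψ.map_gen _ _ _ _ (Φ.map_gen _ _ _ _ hm)

lemma comp_map {τ : Z ⟶ Y} {σ : T ⟶ Z} (Φ : SemiHom τ M N) (Ψ : SemiHom σ N P)
    (ρ : T ⟶ Y) (hρ : ρ = σ ≫ τ) (W : Y.Opens) (V : Z.Opens) (U : T.Opens) (h : V ≤ τ ⁻¹ᵁ W)
    (h' : U ≤ σ ⁻¹ᵁ V) (h'' : U ≤ ρ ⁻¹ᵁ W) (m : Γ(M, W)) :
    (comp Φ Ψ ρ hρ).map W U h'' m = Ψ.map V U h' (Φ.map W V h m) := by
  change Ψ.map (τ ⁻¹ᵁ W) U _ (Φ.map W (τ ⁻¹ᵁ W) le_rfl m) = _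
  rw [← Φ.res_map W _ _ le_rfl h, Ψ.map_res]

/-- The identity. -/
noncomputable def id (ρ : Y ⟶ Y) (hρ : ρ = 𝟙 Y) (M : Y.Modules) : SemiHom ρ M M where
  map W V h := res M (le_of_eq_id hρ h)
  map_smul W V h a m := by
    rw [res_smul, fn_id ρ hρ h]
  res_map W V V' h hV m := by rw [res_res]
  map_res W W' V hW h m := by rw [res_res]
  map_gen W V h m hm := hm.res _

lemma id_map (ρ : Y ⟶ Y) (hρ : ρ = 𝟙 Y) (W V : Y.Opens) (h : V ≤ ρ ⁻¹ᵁ W) (h' : V ≤ W)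
    (m : Γ(M, W)) : (id ρ hρ M).map W V h m = res M h' m := rfl

/-- Multiplication by a global unit. -/
noncomputable def unitSmul {τ : Z ⟶ Y} (Φ : SemiHom τ M N) (v : Γ(Z, ⊤)) (hv : IsUnit v) :
    SemiHom τ M N where
  map W V h := AddMonoidHom.mk' (fun m ↦ ores (le_top : V ≤ ⊤) v • Φ.map W V h m)
    (fun m m' ↦ by rw [map_add, smul_add])
  map_smul W V h a m := by
    simp only [AddMonoidHom.mk'_apply]
    rw [Φ.map_smul, smul_smul, smul_smul, mul_comm]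
  res_map W V V' h hV m := by
    simp only [AddMonoidHom.mk'_apply]
    rw [res_smul, Φ.res_map, ores_ores]
  map_res W W' V hW h m := by
    simp only [AddMonoidHom.mk'_apply]
    rw [Φ.map_res]
  map_gen W V h m hm := by
    simp only [AddMonoidHom.mk'_apply]
    exact (Φ.map_gen _ _ _ _ hm).unit_smul (hv.map (ores _))

lemma unitSmul_map {τ : Z ⟶ Y} (Φ : SemiHom τ M N) (v : Γ(Z, ⊤)) (hv : IsUnit v) (W : Y.Opens)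
    (V : Z.Opens) (h : V ≤ τ ⁻¹ᵁ W) (m : Γ(M, W)) :
    (unitSmul Φ v hv).map W V h m = ores (le_top : V ≤ ⊤) v • Φ.map W V h m := rfl

end SemiHom

/-- Two families of generators which transform in the same way differ by a global unit. -/
lemma exists_ratio {N : Z.Modules} {ι : Type v} {V : ι → Z.Opens} (hV : ⨆ i, V i = ⊤)
    {s t : ∀ i, Γ(N, V i)} (hs : ∀ i, IsGen (s i)) (ht : ∀ i, IsGen (t i))
    (h : ∀ i j, ∃ g : Γ(Z, V i ⊓ V j),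
      res N (inf_le_left : V i ⊓ V j ≤ V i) (s i) = g • res N (inf_le_right) (s j) ∧
      res N (inf_le_left : V i ⊓ V j ≤ V i) (t i) = g • res N (inf_le_right) (t j)) :
    ∃ v : Γ(Z, ⊤), IsUnit v ∧ ∀ i, t i = ores (le_top : V i ≤ ⊤) v • s i := by
  have key : ∀ {s t : ∀ i, Γ(N, V i)} (_ : ∀ i, IsGen (s i)) (_ : ∀ i, IsGen (t i))
    (_ : ∀ i j, ∃ g : Γ(Z, V i ⊓ V j),
      res N (inf_le_left : V i ⊓ V j ≤ V i) (s i) = g • res N (inf_le_right) (s j) ∧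
      res N (inf_le_left : V i ⊓ V j ≤ V i) (t i) = g • res N (inf_le_right) (t j)),
    ∃ v : Γ(Z, ⊤), ∀ i, t i = ores (le_top : V i ≤ ⊤) v • s i := by
    intro s t hs ht h
    choose v hv using fun i ↦ (hs i).exists_eq (t i)
    obtain ⟨w, hw⟩ := ores_glue (V := (⊤ : Z.Opens)) V (fun i ↦ le_top) hV.ge v (by
      intro i j
      obtain ⟨g, hg1, hg2⟩ := h i j
      apply smul_inj (hs i) (inf_le_left : V i ⊓ V j ≤ V i)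
      have h1 := congrArg (res N (inf_le_left : V i ⊓ V j ≤ V i)) (hv i)
      have h2 := congrArg (res N (inf_le_right : V i ⊓ V j ≤ V j)) (hv j)
      rw [res_smul] at h1 h2
      rw [← h1, hg2, h2, hg1, smul_smul, smul_smul, mul_comm])
    exact ⟨w, fun i ↦ by rw [hw, ← hv]⟩
  obtain ⟨v, hv⟩ := key hs ht h
  obtain ⟨w, hw⟩ := key ht hs (fun i j ↦ by
    obtain ⟨g, h1, h2⟩ := h i j
    exact ⟨g, h2, h1⟩)
  refine ⟨v, IsUnit.of_mul_eq_one w ?_, hv⟩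
  refine ores_ext V (fun i ↦ le_top) hV.ge fun i ↦ ?_
  apply smul_inj (hs i) (le_refl (V i))
  rw [map_mul, map_one, one_smul, mul_comm, mul_smul, res_refl, ← hv i, ← hw i]

variable {M : Y.Modules} {N : Z.Modules}

/-- Two semilinear isomorphisms over the same morphism differ by a global unit. -/
lemma SemiHom.exists_unit {τ : Z ⟶ Y} (hM : PicF.IsInvertible M) (Φ Ψ : SemiHom τ M N) :
    ∃ v : Γ(Z, ⊤), IsUnit v ∧ ∀ (W : Y.Opens) (V : Z.Opens) (h : V ≤ τ ⁻¹ᵁ W) (m : Γ(M, W)),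
      Ψ.map W V h m = ores (le_top : V ≤ ⊤) v • Φ.map W V h m := by
  rw [isInvertible_iff] at hM
  choose U e hxU he using hM
  have hcov : ⨆ x, τ ⁻¹ᵁ U x = ⊤ := by
    rw [eq_top_iff]
    intro z _
    exact Opens.mem_iSup.2 ⟨τ z, hxU (τ z)⟩
  obtain ⟨v, hvu, hv⟩ := exists_ratio (N := N) hcov
    (s := fun x ↦ Φ.map (U x) (τ ⁻¹ᵁ U x) le_rfl (e x))
    (t := fun x ↦ Ψ.map (U x) (τ ⁻¹ᵁ U x) le_rfl (e x))
    (fun x ↦ Φ.map_gen _ _ _ _ (he x)) (fun x ↦ Ψ.map_gen _ _ _ _ (he x)) (by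
      intro x y
      obtain ⟨g, hg⟩ := exists_smul (he y) (inf_le_right : U x ⊓ U y ≤ U y)
        (res M (inf_le_left : U x ⊓ U y ≤ U x) (e x))
      have h0 : τ ⁻¹ᵁ U x ⊓ τ ⁻¹ᵁ U y ≤ τ ⁻¹ᵁ (U x ⊓ U y) := le_rfl
      have hgen : ∀ Θ : SemiHom τ M N,
          res N (inf_le_left : τ ⁻¹ᵁ U x ⊓ τ ⁻¹ᵁ U y ≤ τ ⁻¹ᵁ U x)
            (Θ.map (U x) (τ ⁻¹ᵁ U x) le_rfl (e x)) =
          fn τ h0 g • res N (inf_le_right : τ ⁻¹ᵁ U x ⊓ τ ⁻¹ᵁ U y ≤ τ ⁻¹ᵁ U y)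
            (Θ.map (U y) (τ ⁻¹ᵁ U y) le_rfl (e y)) := by
        intro Θ
        have h1 := congrArg (Θ.map (U x ⊓ U y) (τ ⁻¹ᵁ U x ⊓ τ ⁻¹ᵁ U y) h0) hg
        rw [Θ.map_smul, Θ.map_res, Θ.map_res] at h1
        rw [Θ.res_map, Θ.res_map]
        exact h1.symm
      exact ⟨fn τ h0 g, hgen Φ, hgen Ψ⟩)
  refine ⟨v, hvu, fun W V h m ↦ ?_⟩
  refine res_ext N (fun x ↦ V ⊓ τ ⁻¹ᵁ U x) (fun x ↦ inf_le_left) (cover_inf hcov V) fun x ↦ ?_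
  obtain ⟨a, ha⟩ := exists_smul (he x) (inf_le_right : W ⊓ U x ≤ U x)
    (res M (inf_le_left : W ⊓ U x ≤ W) m)
  have hle : V ⊓ τ ⁻¹ᵁ U x ≤ τ ⁻¹ᵁ (W ⊓ U x) := inf_le_inf_right _ h
  have hgen : ∀ Θ : SemiHom τ M N, res N (inf_le_left : V ⊓ τ ⁻¹ᵁ U x ≤ V) (Θ.map W V h m) =
      fn τ hle a • res N (inf_le_right : V ⊓ τ ⁻¹ᵁ U x ≤ _)
        (Θ.map (U x) (τ ⁻¹ᵁ U x) le_rfl (e x)) := by
    intro Θ
    have h1 := congrArg (Θ.map (W ⊓ U x) (V ⊓ τ ⁻¹ᵁ U x) hle) ha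
    rw [Θ.map_smul, Θ.map_res, Θ.map_res] at h1
    rw [Θ.res_map, Θ.res_map]
    exact h1.symm
  rw [hgen Ψ, res_smul, hgen Φ, hv x, res_smul, ores_ores, ores_ores, smul_smul, smul_smul,
    mul_comm]

/-! ### Rigidification along a section -/

section Rigid

variable {Y B : Scheme.{u}} (s : B ⟶ Y) {L : Y.Modules} {W₀ : Y.Opens}
  (e₀ : Γ(L, W₀))

/-- The semilinear map `Φ` is normalised: along `s` it takes `e₀` to `e₀`. -/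
def Norm {τ : Y ⟶ Y} (Φ : SemiHom τ L L) : Prop :=
  ∀ (V : Y.Opens) (h : V ≤ τ ⁻¹ᵁ W₀) (h' : V ≤ W₀) (hx : ⊤ ≤ s ⁻¹ᵁ V) (u : Γ(Y, V)),
    Φ.map W₀ V h e₀ = u • res L h' e₀ → fn s hx u = 1

variable {s e₀}

lemma top_le {τ : Y ⟶ Y} {τ₀ : B ⟶ B} (hτ : s ≫ τ = τ₀ ≫ s) {W : Y.Opens}
    (hW : ⊤ ≤ s ⁻¹ᵁ W) : ⊤ ≤ s ⁻¹ᵁ (τ ⁻¹ᵁ W) := by
  rw [← Scheme.Hom.comp_preimage, hτ, Scheme.Hom.comp_preimage]
  intro x _
  exact hW trivial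

/-- Normalisation exists. -/
lemma exists_norm (p : Y ⟶ B) (hsp : s ≫ p = 𝟙 B) (hW₀ : ⊤ ≤ s ⁻¹ᵁ W₀) (he₀ : IsGen e₀)
    {τ : Y ⟶ Y} {τ₀ : B ⟶ B} (hτ : s ≫ τ = τ₀ ≫ s) (Φ : SemiHom τ L L) :
    ∃ Ψ : SemiHom τ L L, Norm s e₀ Ψ := by
  have hx₀ : ⊤ ≤ s ⁻¹ᵁ (W₀ ⊓ τ ⁻¹ᵁ W₀) := le_inf hW₀ (top_le hτ hW₀)
  obtain ⟨u₀, hu₀, hu⟩ := (he₀.res (inf_le_left : W₀ ⊓ τ ⁻¹ᵁ W₀ ≤ W₀)).exists_unit
    (Φ.map_gen W₀ (W₀ ⊓ τ ⁻¹ᵁ W₀) inf_le_right e₀ he₀)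
  have hc : IsUnit (fn s hx₀ u₀) := hu₀.map _
  obtain ⟨d, hd⟩ := hc.exists_left_inv
  have hpt : (⊤ : Y.Opens) ≤ p ⁻¹ᵁ ⊤ := le_rfl
  have hpd : IsUnit (fn p hpt d) := (IsUnit.of_mul_eq_one _ hd).map _
  refine ⟨Φ.unitSmul _ hpd, ?_⟩
  intro V h h' hx w hw
  rw [SemiHom.unitSmul_map, ← Φ.res_map W₀ (W₀ ⊓ τ ⁻¹ᵁ W₀) V inf_le_right (le_inf h' h), hu,
    res_smul, res_res, smul_smul] at hw
  have h1 := smul_inj he₀ h' hw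
  have h5 : ∀ (h6 : (⊤ : B.Opens) ≤ s ⁻¹ᵁ ⊤), fn s h6 (fn p hpt d) = d := fun h6 ↦ by
    have h7 := fn_fn s p (𝟙 B) hsp.symm hpt h6 (le_refl ((𝟙 B) ⁻¹ᵁ ⊤)) d
    rw [h7, fn_id (𝟙 B) rfl _ le_rfl, ores_refl]
  rw [← h1, map_mul, fn_ores, fn_ores, h5]
  exact hd

/-- Uniqueness of normalised semilinear maps. -/
lemma Norm.unique (hL : PicF.IsInvertible L) (hs : Function.Injective s.appTop)
    (hW₀ : ⊤ ≤ s ⁻¹ᵁ W₀) (he₀ : IsGen e₀) {τ : Y ⟶ Y} {τ₀ : B ⟶ B} (hτ : s ≫ τ = τ₀ ≫ s)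
    {Φ Ψ : SemiHom τ L L} (hΦ : Norm s e₀ Φ) (hΨ : Norm s e₀ Ψ) (W V : Y.Opens)
    (h : V ≤ τ ⁻¹ᵁ W) (m : Γ(L, W)) : Ψ.map W V h m = Φ.map W V h m := by
  obtain ⟨v, hvu, hv⟩ := Φ.exists_unit hL Ψ
  have hx₀ : ⊤ ≤ s ⁻¹ᵁ (W₀ ⊓ τ ⁻¹ᵁ W₀) := le_inf hW₀ (top_le hτ hW₀)
  obtain ⟨u₀, hu₀, hu⟩ := (he₀.res (inf_le_left : W₀ ⊓ τ ⁻¹ᵁ W₀ ≤ W₀)).exists_unit
    (Φ.map_gen W₀ (W₀ ⊓ τ ⁻¹ᵁ W₀) inf_le_right e₀ he₀)
  have h1 := hΦ _ _ _ hx₀ _ hu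
  have h2 := hΨ _ inf_le_right inf_le_left hx₀ (ores le_top v * u₀) (by
    rw [hv, hu, smul_smul])
  rw [map_mul, h1, mul_one, fn_ores] at h2
  have h3 : v = 1 := by
    apply hs
    have h4 : fn s (le_refl (s ⁻¹ᵁ ⊤) : (⊤ : B.Opens) ≤ s ⁻¹ᵁ ⊤) v = s.appTop v := fn_eq_app s v
    rw [← h4, map_one]
    exact h2
  rw [hv, h3, map_one, one_smul]

/-- Composition of normalised maps. -/
lemma Norm.comp {τ σ : Y ⟶ Y} {σ₀ τ₀ : B ⟶ B} (hσ : s ≫ σ = σ₀ ≫ s) (hτ : s ≫ τ = τ₀ ≫ s)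
    (hW₀ : ⊤ ≤ s ⁻¹ᵁ W₀) (he₀ : IsGen e₀) {Φ : SemiHom τ L L} {Ψ : SemiHom σ L L}
    (hΦ : Norm s e₀ Φ) (hΨ : Norm s e₀ Ψ) (ρ : Y ⟶ Y) (hρ : ρ = σ ≫ τ) :
    Norm s e₀ (Φ.comp Ψ ρ hρ) := by
  intro V h h' hx u hu
  -- `V₁ = W₀ ∩ τ⁻¹ W₀`, `V₂ = V ∩ σ⁻¹ V₁`
  have hx₁ : ⊤ ≤ s ⁻¹ᵁ (W₀ ⊓ τ ⁻¹ᵁ W₀) := le_inf hW₀ (top_le hτ hW₀)
  obtain ⟨u₁, -, hu₁⟩ := (he₀.res (inf_le_left : W₀ ⊓ τ ⁻¹ᵁ W₀ ≤ W₀)).exists_unit
    (Φ.map_gen W₀ (W₀ ⊓ τ ⁻¹ᵁ W₀) inf_le_right e₀ he₀)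
  have h1 := hΦ _ _ _ hx₁ _ hu₁
  set V₂ := V ⊓ σ ⁻¹ᵁ (W₀ ⊓ τ ⁻¹ᵁ W₀) with hV₂
  have hx₂ : ⊤ ≤ s ⁻¹ᵁ V₂ := le_inf hx (top_le hσ hx₁)
  have hle : V₂ ≤ σ ⁻¹ᵁ W₀ := inf_le_right.trans (σ.preimage_mono inf_le_left)
  have hle' : V₂ ≤ W₀ := inf_le_left.trans h'
  obtain ⟨u₂, -, hu₂⟩ := (he₀.res hle').exists_unit (Ψ.map_gen W₀ V₂ hle e₀ he₀)
  have h2 := hΨ _ _ _ hx₂ _ hu₂
  have h3 := congrArg (res L (inf_le_left : V₂ ≤ V)) hu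
  rw [(Φ.comp Ψ ρ hρ).res_map,
    SemiHom.comp_map Φ Ψ ρ hρ W₀ (W₀ ⊓ τ ⁻¹ᵁ W₀) V₂ inf_le_right inf_le_right,
    hu₁, Ψ.map_smul, Ψ.map_res, hu₂, smul_smul, res_smul, res_res] at h3
  have h4 := smul_inj he₀ hle' h3
  have h5 := congrArg (fn s hx₂) h4
  rw [fn_ores, map_mul, h2, mul_one,
    fn_fn s σ (s ≫ σ) rfl _ _ (by
      rw [Scheme.Hom.comp_preimage]
      exact top_le hσ hx₁)] at h5
  have h6 : ∀ (q : B ⟶ Y) (hq : q = σ₀ ≫ s) (h7 : ⊤ ≤ q ⁻¹ᵁ (W₀ ⊓ τ ⁻¹ᵁ W₀)),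
      fn q h7 u₁ = 1 := by
    intro q hq h7
    have h8 := fn_fn σ₀ s q hq hx₁ (le_refl (σ₀ ⁻¹ᵁ ⊤)) h7 u₁
    rw [h1, map_one] at h8
    exact h8.symm
  rw [h6 _ hσ] at h5
  exact h5.symm

/-- The identity is normalised. -/
lemma Norm.id (he₀ : IsGen e₀) (ρ : Y ⟶ Y) (hρ : ρ = 𝟙 Y) :
    Norm s e₀ (SemiHom.id ρ hρ L) := by
  intro V h h' hx u hu
  rw [SemiHom.id_map ρ hρ W₀ V h h'] at hu
  have : (1 : Γ(Y, V)) • res L h' e₀ = u • res L h' e₀ := by rw [one_smul]; exact hu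
  rw [← smul_inj he₀ h' this, map_one]

/-- If `τ` preserves a cover with generators of `L`, and the transition functions, then a
normalised `τ`-semilinear map fixes the generators. -/
lemma Norm.map_eq_self (hs : Function.Injective s.appTop) {ι : Type v} {U : ι → Y.Opens}
    (hU : ⨆ i, U i = ⊤) {e : ∀ i, Γ(L, U i)} (he : ∀ i, IsGen (e i)) (i₀ : ι)
    (hi₀ : ⊤ ≤ s ⁻¹ᵁ U i₀) {τ : Y ⟶ Y} (hτ : ∀ i, U i ≤ τ ⁻¹ᵁ U i)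
    (hτ' : ∀ i j (g : Γ(Y, U i ⊓ U j)),
      res L (inf_le_left : U i ⊓ U j ≤ U i) (e i) = g • res L inf_le_right (e j) →
      fn τ (inf_le_inf (hτ i) (hτ j) : U i ⊓ U j ≤ τ ⁻¹ᵁ (U i ⊓ U j)) g = g)
    {Φ : SemiHom τ L L} (hΦ : Norm s (e i₀) Φ) (i : ι) :
    Φ.map (U i) (U i) (hτ i) (e i) = e i := by
  obtain ⟨v, -, hv⟩ := exists_ratio hU he (t := fun i ↦ Φ.map (U i) (U i) (hτ i) (e i))
    (fun i ↦ Φ.map_gen _ _ _ _ (he i)) (fun i j ↦ by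
      obtain ⟨g, hg⟩ := exists_smul (he j) (inf_le_right : U i ⊓ U j ≤ U j)
        (res L (inf_le_left : U i ⊓ U j ≤ U i) (e i))
      refine ⟨g, hg.symm, ?_⟩
      have h1 := congrArg (Φ.map (U i ⊓ U j) (U i ⊓ U j)
        (inf_le_inf (hτ i) (hτ j) : U i ⊓ U j ≤ τ ⁻¹ᵁ (U i ⊓ U j))) hg
      rw [Φ.map_smul, Φ.map_res, Φ.map_res, hτ' i j g hg.symm] at h1
      rw [Φ.res_map, Φ.res_map]
      exact h1.symm)
  have h1 := hΦ (U i₀) (hτ i₀) le_rfl hi₀ (ores le_top v) (by rw [hv, res_refl])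
  have h3 : v = 1 := by
    apply hs
    have h4 : fn s (le_refl (s ⁻¹ᵁ ⊤) : (⊤ : B.Opens) ≤ s ⁻¹ᵁ ⊤) v = s.appTop v := fn_eq_app s v
    rw [fn_ores] at h1
    rw [← h4, map_one]
    exact h1
  rw [hv, h3, map_one, one_smul]

end Rigid

end Groth.Agent.Picfga.Semi
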