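import Mathlib.AlgebraicGeometry.Morphisms.Flat
import Mathlib.AlgebraicGeometry.Morphisms.FinitePresentation
import Groth.Agent.Picfga.ProjFinal
import Groth.Agent.Flat2C.AffineThickening

/-!
# Cartesian squares over surjections of rings with locally nilpotent kernel: sections over affine opens
-/

set_option autoImplicit false
set_option backward.isDefEq.respectTransparency false

universe u

open CategoryTheory CategoryTheory.Limits AlgebraicGeometry TopologicalSpace Opposite
open Groth.Agent.Fdesc.LocGen Groth.Agent.Picfga.ProjGlue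

namespace Groth.Agent.Picfga.ThickSq

/-- In a cocartesian square of rings with `g` surjective the kernel of the opposite map is generated
by the kernel of `g`. -/
lemma ker_le_of_isPushout {R S R' B : Type u} [CommRing R] [CommRing S] [CommRing R']
    [CommRing B] {f : R →+* S} {g : R →+* R'} {h : S →+* B} {k : R' →+* B}
    (hp : IsPushout (CommRingCat.ofHom f) (CommRingCat.ofHom g) (CommRingCat.ofHom h)
      (CommRingCat.ofHom k)) (hg : Function.Surjective g) :
    RingHom.ker h ≤ (RingHom.ker g).map f := by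
  set I := (RingHom.ker g).map f with hI
  let q : S →+* S ⧸ I := Ideal.Quotient.mk I
  have hq : RingHom.ker g ≤ RingHom.ker (q.comp f) := by
    intro x hx
    exact (Ideal.Quotient.eq_zero_iff_mem (I := I)).mpr (Ideal.mem_map_of_mem f hx)
  let k' : R' →+* S ⧸ I := g.liftOfSurjective hg ⟨q.comp f, hq⟩
  have hcomm : CommRingCat.ofHom f ≫ CommRingCat.ofHom q =
      CommRingCat.ofHom g ≫ CommRingCat.ofHom k' := by
    ext x
    exact (g.liftOfRightInverse_comp_apply _ (Function.rightInverse_surjInv hg) ⟨q.comp f, hq⟩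
      x).symm
  intro x hx
  have h1 := congr($(hp.inl_desc _ _ hcomm) x)
  have h2 : (CommRingCat.ofHom h ≫ hp.desc _ _ hcomm) x = (hp.desc _ _ hcomm) (h x) := rfl
  rw [h2, (RingHom.mem_ker).mp hx, map_zero] at h1
  exact (Ideal.Quotient.eq_zero_iff_mem (I := I)).mp h1.symm

lemma surjective_of_isPushout {R S R' B : Type u} [CommRing R] [CommRing S] [CommRing R']
    [CommRing B] {f : R →+* S} {g : R →+* R'} {h : S →+* B} {k : R' →+* B}
    (hp : IsPushout (CommRingCat.ofHom f) (CommRingCat.ofHom g) (CommRingCat.ofHom h)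
      (CommRingCat.ofHom k)) (hg : Function.Surjective g) : Function.Surjective h := by
  let Q := h.range
  have hk : ∀ x, k x ∈ Q := by
    intro x
    obtain ⟨y, rfl⟩ := hg x
    exact ⟨f y, congr($(hp.w) y)⟩
  let k' : R' →+* Q := k.codRestrict Q hk
  have hcomm : CommRingCat.ofHom f ≫ CommRingCat.ofHom h.rangeRestrict =
      CommRingCat.ofHom g ≫ CommRingCat.ofHom k' := by
    ext x
    exact (congr($(hp.w) x) : h (f x) = k (g x))
  have h1 : hp.desc _ _ hcomm ≫ CommRingCat.ofHom Q.subtype = 𝟙 _ := by
    apply hp.hom_ext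
    · rw [hp.inl_desc_assoc, Category.comp_id]; rfl
    · rw [hp.inr_desc_assoc, Category.comp_id]; rfl
  intro b
  have h2 : (hp.desc _ _ hcomm b : B) = b := congr($h1 b)
  obtain ⟨s, hs⟩ := (hp.desc _ _ hcomm b : Q).2
  exact ⟨s, hs.trans h2⟩

variable {B B' : Type u} [CommRing B] [CommRing B'] {t : B' →+* B} {X X' : Scheme.{u}}
  {a : X ⟶ Spec (.of B)} {a' : X' ⟶ Spec (.of B')} {i : X ⟶ X'}
  (hc : IsPullback i a a' (Spec.map (CommRingCat.ofHom t)))

include hc in
/-- Sections over an affine open commute with base change. -/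
lemma isPushout_toSec {U' : X'.Opens} (hU' : IsAffineOpen U') {U : X.Opens}
    (hU : U = i ⁻¹ᵁ U') :
    IsPushout (CommRingCat.ofHom (toSec a' U')) (CommRingCat.ofHom t) (i.appLE U' U hU.le)
      (CommRingCat.ofHom (toSec a U)) := by
  have h1 := (isIso_pushoutSection_iff hc (US := ⊤) (UT := ⊤) (UX := U') (UY := U)
    le_top le_top (by rw [hU]; simp)).mp
      (isIso_pushoutSection_of_isAffineOpen _ _ _ _ (isAffineOpen_top _) (isAffineOpen_top _) hU')
  refine h1.of_iso (Scheme.ΓSpecIso (.of B')) (Iso.refl _) (Scheme.ΓSpecIso (.of B)) (Iso.refl _)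
    ?_ ?_ ?_ ?_
  · rw [Iso.refl_hom, Category.comp_id, ← Iso.inv_comp_eq]
    rfl
  · have h2 : (Spec.map (CommRingCat.ofHom t)).appLE ⊤ ⊤ le_top =
      (Spec.map (CommRingCat.ofHom t)).appTop := by
      rw [Scheme.Hom.appLE]; simp
    rw [h2]
    exact Scheme.ΓSpecIso_naturality _
  · simp
  · rw [Iso.refl_hom, Category.comp_id, ← Iso.inv_comp_eq]
    rfl

include hc in
lemma appLE_surjective (ht : Function.Surjective t) {U' : X'.Opens} (hU' : IsAffineOpen U')
    {U : X.Opens} (hU : U = i ⁻¹ᵁ U') : Function.Surjective (i.appLE U' U hU.le) :=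
  surjective_of_isPushout (h := (i.appLE U' U hU.le).hom) (isPushout_toSec hc hU' hU) ht

include hc in
lemma ker_appLE_le (ht : Function.Surjective t) {U' : X'.Opens} (hU' : IsAffineOpen U')
    {U : X.Opens} (hU : U = i ⁻¹ᵁ U') :
    RingHom.ker (i.appLE U' U hU.le).hom ≤ (RingHom.ker t).map (toSec a' U') :=
  ker_le_of_isPushout (h := (i.appLE U' U hU.le).hom) (isPushout_toSec hc hU' hU) ht

include hc in
lemma isClosedImmersion (ht : Function.Surjective t) : IsClosedImmersion i := by
  have h1 : IsClosedImmersion (Spec.map (CommRingCat.ofHom t)) :=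
    IsClosedImmersion.spec_of_surjective _ ht
  exact MorphismProperty.of_isPullback hc.flip h1

/-- `Spec` of a surjection with locally nilpotent kernel is surjective. -/
lemma surjective_spec (ht : Function.Surjective t) (hnil : ∀ x, t x = 0 → IsNilpotent x) :
    Surjective (Spec.map (CommRingCat.ofHom t)) := by
  refine ⟨fun p => ?_⟩
  have hle : RingHom.ker t ≤ (p : PrimeSpectrum B').asIdeal := fun x hx => by
    obtain ⟨n, hn⟩ := hnil x hx
    exact (p : PrimeSpectrum B').isPrime.mem_of_pow_mem n (by rw [hn]; exact zero_mem _)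
  have h1 : (p : PrimeSpectrum B') ∈ Set.range (PrimeSpectrum.comap t) := by
    rw [_root_.range_comap_of_surjective _ _ ht]
    exact hle
  exact h1

include hc in
lemma surjective (ht : Function.Surjective t) (hnil : ∀ x, t x = 0 → IsNilpotent x) :
    Surjective i := by
  have h1 := surjective_spec ht hnil
  exact MorphismProperty.of_isPullback hc.flip h1

lemma flat_toSec (a : X ⟶ Spec (.of B)) [Flat a] {U : X.Opens} (hU : IsAffineOpen U) :
    (toSec a U).Flat := by
  have h1 : Flat (U.ι ≫ a) := inferInstance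
  rw [← toSpecΓ_toSec] at h1
  have h2 : Flat (Spec.map (CommRingCat.ofHom (toSec a U))) := by
    have := (MorphismProperty.cancel_left_of_respectsIso @Flat hU.isoSpec.hom
      (Spec.map (CommRingCat.ofHom (toSec a U)))).mp h1
    exact this
  exact Flat.SpecMap_iff.mp h2

lemma finitePresentation_toSec (a : X ⟶ Spec (.of B)) [LocallyOfFinitePresentation a]
    {U : X.Opens} (hU : IsAffineOpen U) : (toSec a U).FinitePresentation := by
  have h1 : LocallyOfFinitePresentation (U.ι ≫ a) := inferInstance
  rw [← toSpecΓ_toSec] at h1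
  have h2 : LocallyOfFinitePresentation (Spec.map (CommRingCat.ofHom (toSec a U))) := by
    have := (MorphismProperty.cancel_left_of_respectsIso @LocallyOfFinitePresentation
      hU.isoSpec.hom (Spec.map (CommRingCat.ofHom (toSec a U)))).mp h1
    exact this
  exact (LocallyOfFinitePresentation.SpecMap_iff _).mp h2

end Groth.Agent.Picfga.ThickSq
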