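import Groth.Agent.Picfga.FieldSections

/-!
# Torsion invertible modules descend along purely inseparable field extensions (Stacks 0CD5)

`exists_descent_torsion`: `X` quasi-compact and quasi-separated over a field `k` of
characteristic `p`, `n` prime to `p`, `k'/k` purely inseparable; an invertible module `L` on
`X ×_k Spec k'` with `L^n` trivial is the pullback of an invertible `M` on `X` with `M^n` trivial.
(The hypothesis `H^0(X, O_X) = k` is not needed.)
-/

set_option autoImplicit false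
set_option backward.isDefEq.respectTransparency false

universe u

open CategoryTheory CategoryTheory.Limits AlgebraicGeometry TopologicalSpace Opposite

namespace Groth.Agent.Picfga.TorsionDescent

open Groth.Agent.Fdesc Groth.Agent.Fdesc.LocGen Groth.Agent.Picfga.LineHom Groth.Agent.Picfga.LineDescent
  Groth.Agent.Picfga.FieldSections

variable {k k' : Type u} [Field k] [Field k'] [Algebra k k'] {X : Scheme.{u}}
  (f : X ⟶ Spec (CommRingCat.of k)) {p : ℕ} [Fact p.Prime] [CharP k p]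

/-- A common exponent for finitely many functions. -/
lemma exists_pow_mem_finite [IsPurelyInseparable k k'] [QuasiSeparatedSpace X]
    {κ : Type*} [Finite κ] (U : κ → X.Opens)
    (hU : ∀ a, IsCompact (U a : Set X))
    (h : ∀ a, Γ(pullback f (bc k k'), (pullback.fst f (bc k k')) ⁻¹ᵁ U a)) :
    ∃ E : ℕ, ∀ m, E ≤ m → ∀ a, ∃ c : Γ(X, U a),
      (pullback.fst f (bc k k')).app (U a) c = h a ^ p ^ m := by
  choose n c hc using fun a ↦ exists_pow_mem (p := p) f (hU a)
    (isQuasiSeparated_univ.of_subset (Set.subset_univ _)) (h a)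
  cases nonempty_fintype κ
  refine ⟨Finset.univ.sup n, fun m hm a ↦ ?_⟩
  have ha : n a ≤ m := (Finset.le_sup (Finset.mem_univ a)).trans hm
  refine ⟨c a ^ p ^ (m - n a), ?_⟩
  rw [map_pow, hc, ← pow_mul, ← pow_add, Nat.add_sub_cancel' ha]

include p in
variable (p) in
/-- Local generators over preimages of affine opens. -/
lemma exists_local_gen [IsPurelyInseparable k k'] {L : (pullback f (bc k k')).Modules}
    (hL : PicF.IsInvertible L) (x : X) :
    ∃ U : X.Opens, x ∈ U ∧ IsAffineOpen U ∧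
      ∃ e : Γ(L, (pullback.fst f (bc k k')) ⁻¹ᵁ U), IsGen e := by
  obtain ⟨x', hx'⟩ := (pullback.fst f (bc k k')).surjective x
  obtain ⟨V, e, hxV, he⟩ := (isInvertible_iff L).1 hL x'
  obtain ⟨_, ⟨W, hW, rfl⟩, hxW, -⟩ :=
    X.isBasis_affineOpens.exists_subset_of_mem_open (Set.mem_univ x) isOpen_univ
  have hxW' : x' ∈ (pullback.fst f (bc k k')) ⁻¹ᵁ W := by
    change (pullback.fst f (bc k k')) x' ∈ W
    rw [hx']; exact hxW
  have : IsAffineHom (pullback.fst f (bc k k')) :=
    MorphismProperty.pullback_fst _ _ inferInstance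
  obtain ⟨h, hhV, hxh⟩ := (hW.preimage (pullback.fst f (bc k k'))).exists_basicOpen_le
    (V := V) ⟨x', hxV⟩ hxW'
  obtain ⟨n, c, hc⟩ := exists_pow_mem (p := p) f hW.isCompact hW.isQuasiSeparated h
  have hp : p.Prime := Fact.out
  have hpre : (pullback.fst f (bc k k')) ⁻¹ᵁ (X.basicOpen c) =
      (pullback f (bc k k')).basicOpen h := by
    rw [Scheme.preimage_basicOpen, hc, Scheme.basicOpen_pow _ _ (pow_pos hp.pos n)]
  refine ⟨X.basicOpen c, ?_, hW.basicOpen c, ?_⟩
  · have : x' ∈ (pullback.fst f (bc k k')) ⁻¹ᵁ (X.basicOpen c) := by rw [hpre]; exact hxh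
    rw [← hx']
    exact this
  · have hle : (pullback.fst f (bc k k')) ⁻¹ᵁ (X.basicOpen c) ≤ V := hpre.le.trans hhV
    exact ⟨res L hle e, he.res hle⟩

lemma exists_mul_eq {p n : ℕ} (hp : p.Prime) (hn : ¬ p ∣ n) (E : ℕ) :
    ∃ a b : ℕ, p ^ E * a = 1 + n * b := by
  have hco : Nat.Coprime (p ^ E) n := (hp.coprime_iff_not_dvd.2 hn).pow_left E
  rcases Nat.lt_or_ge 1 n with h | h
  · obtain ⟨a, -, ha⟩ := Nat.exists_mul_mod_eq_one_of_coprime hco h
    refine ⟨a, (p ^ E * a) / n, ?_⟩
    rw [← ha, Nat.mod_add_div]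
  · have hn0 : n ≠ 0 := fun h0 ↦ hn (h0 ▸ dvd_zero p)
    have hn1 : n = 1 := by omega
    have := pow_pos hp.pos E
    exact ⟨1, p ^ E - 1, by subst hn1; omega⟩

include p in
/-- **Stacks 0CD5**, on modules. -/
theorem exists_descent_torsion [IsPurelyInseparable k k'] [CompactSpace X]
    [QuasiSeparatedSpace X] (n : ℕ) (hn : ¬ p ∣ n) {L : (pullback f (bc k k')).Modules}
    (hL : PicF.IsInvertible L)
    (ψ : CohB1.tensorPow L n ≅ Coh.structureModule (pullback f (bc k k'))) :
    ∃ M : X.Modules, PicF.IsInvertible M ∧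
      Nonempty (CohB1.tensorPow M n ≅ Coh.structureModule X) ∧
      Nonempty ((Scheme.Modules.pullback (pullback.fst f (bc k k'))).obj M ≅ L) := by
  have hp : p.Prime := Fact.out
  set π := pullback.fst f (bc k k') with hπ
  choose U₀ hxU₀ hU₀ e₀ he₀ using exists_local_gen f p hL
  obtain ⟨t, ht⟩ := CompactSpace.elim_nhds_subcover (fun x ↦ (U₀ x : Set X))
    (fun x ↦ (U₀ x).isOpen.mem_nhds (hxU₀ x))
  let ι : Type u := {x : X // x ∈ t}
  let U : ι → X.Opens := fun x ↦ U₀ x.1
  have hcov : ⨆ i, U i = ⊤ := by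
    rw [eq_top_iff]
    intro x _
    have : x ∈ ⋃ x ∈ t, (U₀ x : Set X) := by rw [ht]; trivial
    simp only [Set.mem_iUnion] at this
    obtain ⟨y, hy, hxy⟩ := this
    exact Opens.mem_iSup.2 ⟨⟨y, hy⟩, hxy⟩
  have hUc : ∀ i, IsCompact (U i : Set X) := fun i ↦ (hU₀ i.1).isCompact
  have hUUc : ∀ i j, IsCompact ((U i ⊓ U j : X.Opens) : Set X) := fun i j ↦
    QuasiSeparatedSpace.inter_isCompact _ _ (U i).isOpen (hUc i) (U j).isOpen (hUc j)
  let e : ∀ i, Γ(L, π ⁻¹ᵁ U i) := fun i ↦ e₀ i.1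
  have he : ∀ i, IsGen (e i) := fun i ↦ he₀ i.1
  -- transition functions of `L`
  choose g' hg' using fun i j ↦ exists_smul (he j)
    (π.preimage_mono (inf_le_right : U i ⊓ U j ≤ U j))
    (res L (π.preimage_mono (inf_le_left : U i ⊓ U j ≤ U i)) (e i))
  -- the trivialisation of `L ^ n`
  have hτ : IsGen (ψ.inv.app ⊤ (one ⊤)) := (isGen_one ⊤).app ψ.inv
  set τ := ψ.inv.app ⊤ (one ⊤) with hτdef
  choose h hh using fun i ↦ exists_smul ((he i).pow n) le_rfl
    (res (CohB1.tensorPow L n) (le_top : π ⁻¹ᵁ U i ≤ ⊤) τ)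
  have hhu : ∀ i, IsUnit (h i) := by
    intro i
    have h1 : IsGen (h i • pow (e i) n) := by
      have := hh i
      rw [res_refl] at this
      rw [this]
      exact hτ.res _
    exact ((he i).pow n).isUnit_of_smul h1
  choose v hv using fun i ↦ (hhu i).exists_left_inv
  -- the relation `h i * g' i j ^ n = h j`
  have hrel : ∀ i j, ores (π.preimage_mono (inf_le_left : U i ⊓ U j ≤ U i)) (h i) * g' i j ^ n =
      ores (π.preimage_mono (inf_le_right : U i ⊓ U j ≤ U j)) (h j) := by
    intro i j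
    apply smul_inj ((he j).pow n) (π.preimage_mono (inf_le_right : U i ⊓ U j ≤ U j))
    have h1 := congrArg (res (CohB1.tensorPow L n)
      (π.preimage_mono (inf_le_left : U i ⊓ U j ≤ U i))) (hh i)
    have h2 := congrArg (res (CohB1.tensorPow L n)
      (π.preimage_mono (inf_le_right : U i ⊓ U j ≤ U j))) (hh j)
    simp only [res_smul, res_res, res_pow] at h1 h2 ⊢
    rw [h2, ← h1, ← hg' i j, LocGen.smul_pow, mul_smul]
  -- exponents
  obtain ⟨E₁, hE₁⟩ := exists_pow_mem_finite (p := p) f (κ := ι × ι) (fun a ↦ U a.1 ⊓ U a.2)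
    (fun a ↦ hUUc a.1 a.2) (fun a ↦ g' a.1 a.2)
  obtain ⟨E₂, hE₂⟩ := exists_pow_mem_finite (p := p) f (κ := ι) U hUc h
  obtain ⟨E₃, hE₃⟩ := exists_pow_mem_finite (p := p) f (κ := ι) U hUc v
  set E := max E₁ (max E₂ E₃) with hE
  have hc' : ∀ i j, ∃ c : Γ(X, U i ⊓ U j), π.app (U i ⊓ U j) c = g' i j ^ p ^ E :=
    fun i j ↦ hE₁ E (le_max_left _ _) (i, j)
  choose c hc using hc'
  have hd' : ∀ i, ∃ c : Γ(X, U i), π.app (U i) c = h i ^ p ^ E :=
    hE₂ E ((le_max_left _ _).trans (le_max_right _ _))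
  choose d hd using hd'
  have hw' : ∀ i, ∃ c : Γ(X, U i), π.app (U i) c = v i ^ p ^ E :=
    hE₃ E ((le_max_right _ _).trans (le_max_right _ _))
  choose w hw using hw'
  obtain ⟨a, b, hab⟩ := exists_mul_eq hp hn E
  have hinj : ∀ V : X.Opens, Function.Injective (π.app V) := fun V ↦ app_injective f V
  -- the descended module
  obtain ⟨M, m, φ, hm, hmc, -⟩ := exists_descent π U hcov (L := L) (fun i ↦ v i ^ b • e i)
    (fun i ↦ (he i).unit_smul ((IsUnit.of_mul_eq_one (h i) (hv i)).pow b)) hinj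
    (fun i j ↦ c i j ^ a) (fun i j ↦ by
      have h5 : π.app (U i ⊓ U j) (c i j ^ a) = g' i j ^ (1 + n * b) := by
        rw [map_pow, hc, ← pow_mul, hab]
      rw [h5, res_smul, res_smul, ← hg' i j, ← mul_smul, ← mul_smul]
      congr 1
      have h1 := congrArg (ores (π.preimage_mono (inf_le_left : U i ⊓ U j ≤ U i))) (hv i)
      have h2 := congrArg (ores (π.preimage_mono (inf_le_right : U i ⊓ U j ≤ U j))) (hv j)
      rw [map_mul, map_one] at h1 h2
      rw [map_pow, map_pow]
      have h3 := hrel i j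
      generalize ores (π.preimage_mono (inf_le_left : U i ⊓ U j ≤ U i)) (h i) = hi at *
      generalize ores (π.preimage_mono (inf_le_right : U i ⊓ U j ≤ U j)) (h j) = hj at *
      generalize ores (π.preimage_mono (inf_le_left : U i ⊓ U j ≤ U i)) (v i) = vi at *
      generalize ores (π.preimage_mono (inf_le_right : U i ⊓ U j ≤ U j)) (v j) = vj at *
      generalize g' i j = g at *
      have h4 : vi = vj * g ^ n := by
        calc vi = vi * (vj * hj) := by rw [h2, mul_one]
          _ = (vi * hi) * (vj * g ^ n) := by rw [← h3]; ring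
          _ = vj * g ^ n := by rw [h1, one_mul]
      rw [h4, mul_pow, pow_add, pow_one, pow_mul]
      ring)
  refine ⟨M, isInvertible_of_gens hcov hm, ?_, ⟨φ⟩⟩
  -- triviality of `M ^ n`
  have hdu : ∀ i, IsUnit (d i) := by
    intro i
    apply IsUnit.of_mul_eq_one (w i)
    apply hinj
    rw [map_mul, map_one, hd, hw, ← mul_pow, mul_comm, hv, one_pow]
  obtain ⟨θ, -⟩ := exists_iso (L := Coh.structureModule X) (N := CohB1.tensorPow M n) hcov
    (e := fun i ↦ one (U i)) (fun i ↦ isGen_one (U i)) (n := fun i ↦ d i ^ a • pow (m i) n)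
    (trans_of_inf (fun i ↦ isGen_one (U i)) (fun i j ↦ ⟨1, by
      rw [res_one, res_one, one_smul], by
      rw [res_smul, res_smul, res_pow, res_pow, one_smul, hmc i j, LocGen.smul_pow, ← mul_smul]
      congr 1
      apply hinj
      have h1 : π.app (U i ⊓ U j) (ores (inf_le_left : U i ⊓ U j ≤ U i) (d i ^ a)) =
          ores (π.preimage_mono (inf_le_left : U i ⊓ U j ≤ U i)) (h i) ^ (p ^ E * a) := by
        rw [app_ores, map_pow, hd, ← pow_mul, map_pow]
      have h2 : π.app (U i ⊓ U j) (ores (inf_le_right : U i ⊓ U j ≤ U j) (d j ^ a)) =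
          ores (π.preimage_mono (inf_le_right : U i ⊓ U j ≤ U j)) (h j) ^ (p ^ E * a) := by
        rw [app_ores, map_pow, hd, ← pow_mul, map_pow]
      have h3 : π.app (U i ⊓ U j) ((c i j ^ a) ^ n) = g' i j ^ (p ^ E * a * n) := by
        rw [← pow_mul, map_pow, hc, ← pow_mul, mul_assoc]
      rw [map_mul, h1, h2, h3, ← hrel i j, mul_pow, ← pow_mul, mul_comm n]⟩))
    (fun i ↦ ((hm i).pow n).unit_smul ((hdu i).pow a))
  exact ⟨θ.symm⟩

end Groth.Agent.Picfga.TorsionDescent
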