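import Groth.Agent.Picfga.LevelIface
import Groth.Agent.Picfga.LimProj
import Groth.Agent.Picfga.GrRing
import Groth.Agent.Picfga.ThickSq
import Groth.Agent.Flat2H.LimitSections

/-!
# The algebra of a tower of polarized schemes

`Tower T`: schemes `X n ⟶ Spec (R n)` with cartesian transition squares over a ring tower `T`, compatible
affine opens `W n j` and transition functions `g n j l`.  `famK k` is the module of compatible
sequences of families of weight `k`.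
-/

set_option autoImplicit false
set_option backward.isDefEq.respectTransparency false

universe u

open AlgebraicGeometry CategoryTheory CategoryTheory.Limits Opposite TopologicalSpace
open Groth.Agent.Fdesc.LocGen Groth.Agent.Flat2H.FamExt Groth.Agent.Flat2H.FamDict
  Groth.Agent.Picfga.Level Groth.Agent.Picfga.LimProj Groth.Agent.Flat2H.LimitSections

namespace Groth.Agent.Picfga.TowerAlg

variable {R : ℕ → Type u} [∀ n, CommRing (R n)] {Rinf : Type u} [CommRing Rinf]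

/-- A tower of schemes with compatible affine opens and transition functions. -/
structure Tower (T : RingTower R Rinf) where
  X : ℕ → Scheme.{u}
  a : ∀ n, X n ⟶ Spec (CommRingCat.of (R n))
  i : ∀ n, X n ⟶ X (n + 1)
  hcart : ∀ n, IsPullback (i n) (a n) (a (n + 1)) (Spec.map (CommRingCat.ofHom (T.t n)))
  ι : Type u
  W : ∀ n, ι → (X n).Opens
  haff : ∀ n j, IsAffineOpen (W n j)
  hW : ∀ n j, i n ⁻¹ᵁ W (n + 1) j = W n j
  g : ∀ n j l, Γ(X n, W n j ⊓ W n l)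
  hg : ∀ n j l, (i n).appLE (W (n + 1) j ⊓ W (n + 1) l) (W n j ⊓ W n l)
    (inf_le_inf (hW n j).ge (hW n l).ge) (g (n + 1) j l) = g n j l

namespace Tower

variable {T : RingTower R Rinf} (𝒯 : Tower T)

/-- reduction of functions -/
noncomputable def red (n : ℕ) (j : 𝒯.ι) : Γ(𝒯.X (n + 1), 𝒯.W (n + 1) j) →+* Γ(𝒯.X n, 𝒯.W n j) :=
  ((𝒯.i n).appLE (𝒯.W (n + 1) j) (𝒯.W n j) (𝒯.hW n j).ge).hom

lemma red_surjective (n : ℕ) (j : 𝒯.ι) : Function.Surjective (𝒯.red n j) :=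
  ThickSq.appLE_surjective (𝒯.hcart n) (T.ht n) (𝒯.haff (n + 1) j) (𝒯.hW n j).symm

lemma red_str (n : ℕ) (j : 𝒯.ι) (r : R (n + 1)) :
    𝒯.red n j (str (𝒯.a (n + 1)) (𝒯.W (n + 1) j) r) = str (𝒯.a n) (𝒯.W n j) (T.t n r) := by
  have h := (ThickSq.isPushout_toSec (𝒯.hcart n) (𝒯.haff (n + 1) j) (𝒯.hW n j).symm).w
  exact congr($h r)

lemma isNilpotent_of_red (n : ℕ) (j : 𝒯.ι) (x : Γ(𝒯.X (n + 1), 𝒯.W (n + 1) j))
    (hx : 𝒯.red n j x = 0) : IsNilpotent x := by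
  have h := ThickSq.ker_appLE_le (𝒯.hcart n) (T.ht n) (𝒯.haff (n + 1) j) (𝒯.hW n j).symm hx
  have hle : (RingHom.ker (T.t n)).map (str (𝒯.a (n + 1)) (𝒯.W (n + 1) j)) ≤ nilradical _ := by
    rw [Ideal.map_le_iff_le_comap]
    intro r hr
    rw [Ideal.mem_comap, mem_nilradical]
    exact (T.hnil n r hr).map _
  exact hle h

lemma isUnit_of_red (n : ℕ) (j : 𝒯.ι) (x : Γ(𝒯.X (n + 1), 𝒯.W (n + 1) j))
    (hx : IsUnit (𝒯.red n j x)) : IsUnit x :=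
  RingTower.isUnit_of_isUnit_map (𝒯.red n j) (𝒯.red_surjective n j) (𝒯.isNilpotent_of_red n j) hx

lemma isFam_red (n k : ℕ) {b : ∀ j, Γ(𝒯.X (n + 1), 𝒯.W (n + 1) j)}
    (hb : IsFam (𝒯.W (n + 1)) (fun j l => 𝒯.g (n + 1) j l ^ k) b) :
    IsFam (𝒯.W n) (fun j l => 𝒯.g n j l ^ k) (fun j => 𝒯.red n j (b j)) := by
  intro j l
  have h := congrArg ((𝒯.i n).appLE (𝒯.W (n + 1) j ⊓ 𝒯.W (n + 1) l) (𝒯.W n j ⊓ 𝒯.W n l)
    (inf_le_inf (𝒯.hW n j).ge (𝒯.hW n l).ge)) (hb j l)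
  rw [map_mul, appLE_ores, appLE_ores, map_pow, 𝒯.hg] at h
  change ores _ ((𝒯.i n).appLE _ _ _ (b j)) * _ = ores _ ((𝒯.i n).appLE _ _ _ (b l))
  rw [ores_appLE, ores_appLE]
  exact h

/-- The families of weight `k` at level `n`. -/
abbrev M (k n : ℕ) : Type u := Fam (𝒯.a n) (𝒯.W n) (𝒯.g n) k

noncomputable instance modInf (k n : ℕ) : Module Rinf (𝒯.M k n) := Module.compHom _ (T.π n)

lemma inf_smul (k n : ℕ) (r : Rinf) (x : 𝒯.M k n) : r • x = T.π n r • x := rfl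

lemma inf_smul_val (k n : ℕ) (r : Rinf) (x : 𝒯.M k n) (j : 𝒯.ι) :
    (r • x).1 j = str (𝒯.a n) (𝒯.W n j) (T.π n r) * x.1 j := rfl

/-- transition maps -/
noncomputable def τ (k n : ℕ) : 𝒯.M k (n + 1) →ₗ[Rinf] 𝒯.M k n where
  toFun b := ⟨fun j => 𝒯.red n j (b.1 j), 𝒯.isFam_red n k b.2⟩
  map_add' b c := Fam.ext fun j => map_add _ _ _
  map_smul' r b := Fam.ext fun j => by
    rw [RingHom.id_apply, inf_smul_val]
    change 𝒯.red n j ((r • b).1 j) = _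
    rw [inf_smul_val, map_mul, red_str, T.t_π]

@[simp] lemma τ_val (k n : ℕ) (b : 𝒯.M k (n + 1)) (j : 𝒯.ι) :
    (𝒯.τ k n b).1 j = 𝒯.red n j (b.1 j) := rfl

/-- compatible sequences of functions -/
def Pt : Type u := ∀ n j, Γ(𝒯.X n, 𝒯.W n j)

noncomputable instance : CommRing 𝒯.Pt := inferInstanceAs (CommRing (∀ n j, Γ(𝒯.X n, 𝒯.W n j)))

/-- the structure map -/
noncomputable def strT : Rinf →+* 𝒯.Pt :=
  RingHom.pi fun n => RingHom.pi fun j => (str (𝒯.a n) (𝒯.W n j)).comp (T.π n)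

noncomputable instance : Algebra Rinf 𝒯.Pt := 𝒯.strT.toAlgebra

lemma algebraMap_Pt (r : Rinf) (n : ℕ) (j : 𝒯.ι) :
    (algebraMap Rinf 𝒯.Pt r) n j = str (𝒯.a n) (𝒯.W n j) (T.π n r) := rfl

lemma smul_Pt (r : Rinf) (b : 𝒯.Pt) (n : ℕ) (j : 𝒯.ι) :
    (r • b) n j = str (𝒯.a n) (𝒯.W n j) (T.π n r) * b n j := rfl

/-- evaluation at `(n, j)` -/
noncomputable def ev (n : ℕ) (j : 𝒯.ι) : Rinf × 𝒯.Pt →+* Γ(𝒯.X n, 𝒯.W n j) :=
  ((Pi.evalRingHom (fun j => Γ(𝒯.X n, 𝒯.W n j)) j).comp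
    (Pi.evalRingHom (fun n => ∀ j, Γ(𝒯.X n, 𝒯.W n j)) n)).comp (RingHom.snd Rinf 𝒯.Pt)

lemma ev_apply (n : ℕ) (j : 𝒯.ι) (x : Rinf × 𝒯.Pt) : 𝒯.ev n j x = x.2 n j := rfl

/-- The module of compatible sequences of families of weight `k`. -/
def famK (k : ℕ) : Submodule Rinf (Rinf × 𝒯.Pt) where
  carrier := {x | x.1 = 0 ∧ (∀ n, IsFam (𝒯.W n) (fun j l => 𝒯.g n j l ^ k) (x.2 n)) ∧
    ∀ n j, 𝒯.red n j (x.2 (n + 1) j) = x.2 n j}
  zero_mem' := ⟨rfl, fun n => IsFam.zero, fun n j => map_zero _⟩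
  add_mem' := fun {x y} hx hy => ⟨by rw [Prod.fst_add, hx.1, hy.1, add_zero],
    fun n => IsFam.add (hx.2.1 n) (hy.2.1 n), fun n j => by
      change 𝒯.red n j (x.2 (n + 1) j + y.2 (n + 1) j) = x.2 n j + y.2 n j
      rw [map_add, hx.2.2, hy.2.2]⟩
  smul_mem' := fun r x hx => ⟨by rw [Prod.smul_fst, hx.1, smul_zero],
    fun n => IsFam.str_mul (𝒯.a n) (T.π n r) (hx.2.1 n), fun n j => by
      change 𝒯.red n j ((r • x.2) (n + 1) j) = (r • x.2) n j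
      rw [smul_Pt, smul_Pt, map_mul, hx.2.2, red_str, T.t_π]⟩

lemma mem_famK {k : ℕ} {x : Rinf × 𝒯.Pt} : x ∈ 𝒯.famK k ↔ x.1 = 0 ∧
    (∀ n, IsFam (𝒯.W n) (fun j l => 𝒯.g n j l ^ k) (x.2 n)) ∧
    ∀ n j, 𝒯.red n j (x.2 (n + 1) j) = x.2 n j := Iff.rfl

/-- `famK k = lim M k n`. -/
noncomputable def limEquiv (k : ℕ) : RingTower.lim (𝒯.τ k) ≃ₗ[Rinf] 𝒯.famK k where
  toFun x := ⟨(0, fun n j => (x.1 n).1 j), rfl, fun n => (x.1 n).2, fun n j => by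
    have := congrArg (fun y : 𝒯.M k n => y.1 j) (x.2 n)
    exact this⟩
  map_add' x y := Subtype.ext (Prod.ext (add_zero _).symm rfl)
  map_smul' r x := Subtype.ext (Prod.ext (smul_zero _).symm rfl)
  invFun x := ⟨fun n => ⟨x.1.2 n, x.2.2.1 n⟩, fun n => Fam.ext fun j => x.2.2.2 n j⟩
  left_inv x := rfl
  right_inv x := Subtype.ext (Prod.ext x.2.1.symm rfl)

lemma limEquiv_snd (k : ℕ) (x : RingTower.lim (𝒯.τ k)) (n : ℕ) (j : 𝒯.ι) :
    (𝒯.limEquiv k x).1.2 n j = (x.1 n).1 j := rfl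

section

variable {k : ℕ} (hM : T.ModTower (𝒯.M k) (𝒯.τ k))
include hM

lemma fg_famK : (𝒯.famK k).FG := by
  have := hM.finite_lim
  rw [← Module.Finite.iff_fg]
  exact Module.Finite.equiv (𝒯.limEquiv k)

lemma projective_famK : Module.Projective Rinf (𝒯.famK k) := by
  have := hM.projective_lim
  exact Module.Projective.of_equiv (𝒯.limEquiv k)

lemma exists_famK (n : ℕ) (b : ∀ j, Γ(𝒯.X n, 𝒯.W n j))
    (hb : IsFam (𝒯.W n) (fun j l => 𝒯.g n j l ^ k) b) : ∃ x ∈ 𝒯.famK k, x.2 n = b := by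
  obtain ⟨y, hy⟩ := hM.surjective_lim n ⟨b, hb⟩
  refine ⟨𝒯.limEquiv k y, SetLike.coe_mem _, ?_⟩
  funext j
  rw [limEquiv_snd, hy]

lemma mem_of_eq_zero (n : ℕ) (x : Rinf × 𝒯.Pt) (hx : x ∈ 𝒯.famK k) (h0 : x.2 n = 0) :
    x ∈ RingHom.ker (T.π n) • 𝒯.famK k := by
  have h1 := hM.mem_of_eq_zero n ((𝒯.limEquiv k).symm ⟨x, hx⟩) (Fam.ext fun j => by
    rw [← limEquiv_snd, LinearEquiv.apply_symm_apply, h0]; rfl)
  have h2 : ((𝒯.famK k).subtype.comp (𝒯.limEquiv k).toLinearMap)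
      ((𝒯.limEquiv k).symm ⟨x, hx⟩) = x := by
    change ((𝒯.limEquiv k) ((𝒯.limEquiv k).symm ⟨x, hx⟩) : Rinf × 𝒯.Pt) = x
    rw [LinearEquiv.apply_symm_apply]
  have h3 : ((𝒯.famK k).subtype.comp (𝒯.limEquiv k).toLinearMap)
      ((𝒯.limEquiv k).symm ⟨x, hx⟩) ∈ (RingHom.ker (T.π n) • (⊤ : Submodule Rinf _)).map
        ((𝒯.famK k).subtype.comp (𝒯.limEquiv k).toLinearMap) := ⟨_, h1, rfl⟩
  rw [h2, Submodule.map_smul'', Submodule.map_top, LinearMap.range_comp, LinearEquiv.range,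
    Submodule.map_top, Submodule.range_subtype] at h3
  exact h3

end

end Tower

end Groth.Agent.Picfga.TowerAlg
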