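import Groth.Agent.Picfga.TowerFinal

/-!
# Algebraization of a tower of polarized schemes: assembly
-/

set_option autoImplicit false
set_option backward.isDefEq.respectTransparency false

universe u

open AlgebraicGeometry CategoryTheory CategoryTheory.Limits Opposite TopologicalSpace
  HomogeneousLocalization
open Groth.Agent.Fdesc.LocGen Groth.Agent.Flat2H.FamExt Groth.Agent.Flat2H.FamDict
  Groth.Agent.Picfga.Level Groth.Agent.Picfga.LimProj Groth.Agent.Flat2H.LimitSections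
  Groth.Agent.Picfga.GrRing Groth.Agent.Divis.AmpleAvoid Groth.Agent.Picfga.ProjGlue
  Groth.Agent.Picfga.AwayLift

namespace Groth.Agent.Picfga.TowerAlg

variable {R : ℕ → Type u} [∀ n, CommRing (R n)] {Rinf : Type u} [CommRing Rinf]

namespace Tower

variable {T : RingTower R Rinf} (𝒯 : Tower T) (k₀ : ℕ) (hk₀ : 0 < k₀)
  (hM : ∀ k, k₀ ≤ k → T.ModTower (𝒯.M k) (𝒯.τ k))

/-- **Algebraization** of a tower with enough sections at level zero. -/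
theorem algebraize [Fintype 𝒯.ι] [∀ n, QuasiSeparatedSpace (𝒯.X n)]
    (hk₀ : 0 < k₀) (hM : ∀ k, k₀ ≤ k → T.ModTower (𝒯.M k) (𝒯.τ k))
    (L : ∀ n, (𝒯.X n).Modules) (hT : ∀ n, Trivs (L n) (𝒯.W n) (𝒯.g n)) (D : ℕ) (hD : k₀ ≤ D)
    (u v : 𝒯.ι → ∀ j, Γ(𝒯.X 0, 𝒯.W 0 j))
    (hu : ∀ i, IsFam (𝒯.W 0) (fun j l => 𝒯.g 0 j l ^ D) (u i))
    (hv : ∀ i, IsFam (𝒯.W 0) (fun j l => 𝒯.g 0 j l ^ (D + 1)) (v i))
    (hub : ∀ i j, (𝒯.X 0).basicOpen (u i j) = 𝒯.W 0 i ⊓ 𝒯.W 0 j)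
    (hvb : ∀ i j, (𝒯.X 0).basicOpen (v i j) = 𝒯.W 0 i ⊓ 𝒯.W 0 j)
    (N : ℕ) (hN : k₀ + 2 * (D + (D + 1)) ≤ N)
    (K1 : ∀ K, N ≤ K → ∀ x : ∀ j, Γ(𝒯.X 0, 𝒯.W 0 j),
      IsFam (𝒯.W 0) (fun j l => 𝒯.g 0 j l ^ K) x →
      ∃ y : 𝒯.ι → ∀ j, Γ(𝒯.X 0, 𝒯.W 0 j),
        (∀ i, IsFam (𝒯.W 0) (fun j l => 𝒯.g 0 j l ^ (K - (D + (D + 1)))) (y i)) ∧
        ∀ j, x j = ∑ i, u i j * v i j * y i j)
    (K2 : ∀ K, N ≤ K → ∀ y : 𝒯.ι → ∀ j, Γ(𝒯.X 0, 𝒯.W 0 j),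
      (∀ i, IsFam (𝒯.W 0) (fun j l => 𝒯.g 0 j l ^ (K - (D + (D + 1)))) (y i)) →
      (∀ j, ∑ i, u i j * v i j * y i j = 0) →
      ∃ z : 𝒯.ι → 𝒯.ι → ∀ j, Γ(𝒯.X 0, 𝒯.W 0 j),
        (∀ l m, IsFam (𝒯.W 0) (fun j l => 𝒯.g 0 j l ^ (K - 2 * (D + (D + 1)))) (z l m)) ∧
        (∀ l m j, z l m j + z m l j = 0) ∧ (∀ l j, z l l j = 0) ∧
        ∀ l j, y l j = ∑ m, u m j * v m j * z l m j) :
    ∃ (Y : Scheme.{u}) (b : Y ⟶ Spec (CommRingCat.of Rinf)) (M : Y.Modules),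
      IsProper b ∧ Flat b ∧ LocallyOfFinitePresentation b ∧ PicF.IsInvertible M ∧ CohB1.IsAmple M ∧
      ∀ n, ∃ e : 𝒯.X n ≅ pullback b (Spec.map (CommRingCat.ofHom (T.π n))),
        e.hom ≫ pullback.snd b (Spec.map (CommRingCat.ofHom (T.π n))) = 𝒯.a n ∧
        Nonempty ((Scheme.Modules.pullback
          (e.hom ≫ pullback.fst b (Spec.map (CommRingCat.ofHom (T.π n))))).obj M ≅ L n) := by
  -- lifts of `u i`, `v i`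
  have hlift : ∀ (k : ℕ), k₀ ≤ k → ∀ b : ∀ j, Γ(𝒯.X 0, 𝒯.W 0 j),
      IsFam (𝒯.W 0) (fun j l => 𝒯.g 0 j l ^ k) b →
      ∃ f : 𝒯.A k₀, f ∈ 𝒯.𝒜 k₀ k ∧ ∀ j, 𝒯.Φ k₀ 0 j f = b j := by
    intro k hk b hb
    obtain ⟨x, hx, hxb⟩ := exists_famK 𝒯 (hM k hk) 0 b hb
    have hxG : x ∈ (𝒯.gf k₀).G k := by
      change x ∈ 𝒯.G k₀ k
      rwa [G_big 𝒯 k₀ (by omega) hk]
    refine ⟨(𝒯.gf k₀).mono k ⟨x, hxG⟩, (𝒯.gf k₀).mono_mem _ _, fun j => ?_⟩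
    rw [Φ_of_mem 𝒯 k₀ 0 j ((𝒯.gf k₀).mono_mem _ _), GFam.coe_mono,
      Polynomial.coeff_monomial_same, hxb]
  choose U hUm hU using fun i => hlift D hD (u i) (hu i)
  choose V hVm hV using fun i => hlift (D + 1) (by omega) (v i) (hv i)
  set a := D + (D + 1) with ha
  have hs : ∀ i, U i * V i ∈ 𝒯.𝒜 k₀ a := fun i => SetLike.mul_mem_graded (hUm i) (hVm i)
  have hsΦ : ∀ i j, 𝒯.Φ k₀ 0 j (U i * V i) = u i j * v i j := fun i j => by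
    rw [map_mul, hU, hV]
  have K1' : ∀ K, N ≤ K → ∀ x : ∀ j, Γ(𝒯.X 0, 𝒯.W 0 j),
      IsFam (𝒯.W 0) (fun j l => 𝒯.g 0 j l ^ K) x →
      ∃ y : 𝒯.ι → ∀ j, Γ(𝒯.X 0, 𝒯.W 0 j),
        (∀ i, IsFam (𝒯.W 0) (fun j l => 𝒯.g 0 j l ^ (K - a)) (y i)) ∧
        ∀ j, x j = ∑ i, 𝒯.Φ k₀ 0 j (U i * V i) * y i j := by
    simp only [hsΦ]
    exact K1
  have K2' : ∀ K, N ≤ K → ∀ y : 𝒯.ι → ∀ j, Γ(𝒯.X 0, 𝒯.W 0 j),
      (∀ i, IsFam (𝒯.W 0) (fun j l => 𝒯.g 0 j l ^ (K - a)) (y i)) →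
      (∀ j, ∑ i, 𝒯.Φ k₀ 0 j (U i * V i) * y i j = 0) →
      ∃ z : 𝒯.ι → 𝒯.ι → ∀ j, Γ(𝒯.X 0, 𝒯.W 0 j),
        (∀ l m, IsFam (𝒯.W 0) (fun j l => 𝒯.g 0 j l ^ (K - 2 * a)) (z l m)) ∧
        (∀ l m j, z l m j + z m l j = 0) ∧ (∀ l j, z l l j = 0) ∧
        ∀ l j, y l j = ∑ m, 𝒯.Φ k₀ 0 j (U m * V m) * z l m j := by
    simp only [hsΦ]
    exact K2
  have hflat := flat_A 𝒯 k₀ hk₀ hM
  have hfp := finitePresentation_A 𝒯 k₀ hk₀ hM a N (by omega) (fun i => U i * V i) hs hN K1' K2'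
  let TD : TwistData (𝒯.𝒜 k₀) :=
    { ι := 𝒯.ι
      d := fun _ => D
      d_pos := fun _ => by omega
      u := U
      v := V
      u_mem := hUm
      v_mem := hVm
      cover := cover 𝒯 k₀ hk₀ hM a N (by omega) (fun i => U i * V i) hs hN K1' }
  have hbu : ∀ (i j : 𝒯.ι) (n : ℕ), (𝒯.X n).basicOpen (𝒯.Φ k₀ n j (U i)) = 𝒯.W n i ⊓ 𝒯.W n j :=
    fun i j n => 𝒯.basicOpen_Φ k₀ (hUm i) j i (by rw [hU, hub]) n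
  have hbv : ∀ (i j : 𝒯.ι) (n : ℕ), (𝒯.X n).basicOpen (𝒯.Φ k₀ n j (V i)) = 𝒯.W n i ⊓ 𝒯.W n j :=
    fun i j n => 𝒯.basicOpen_Φ k₀ (hVm i) j i (by rw [hV, hvb]) n
  have hunit : ∀ {n : ℕ} {i : 𝒯.ι} (f : Γ(𝒯.X n, 𝒯.W n i)),
      (𝒯.X n).basicOpen f = 𝒯.W n i ⊓ 𝒯.W n i → IsUnit f := by
    intro n i f hf
    have h1 : 𝒯.W n i ≤ (𝒯.X n).basicOpen f := by rw [hf, inf_idem]
    have h2 := isUnit_res_basicOpen f le_rfl h1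
    rwa [ores_refl] at h2
  let Pn : ∀ n, TrivCharts TD (L n) := fun n =>
    { W := 𝒯.W n
      g := 𝒯.g n
      trivs := hT n
      Φ := 𝒯.Φ k₀ n
      isUnit_u := fun i => hunit _ (hbu i i n)
      isUnit_v := fun i => hunit _ (hbv i i n)
      isFam := fun k f hf => 𝒯.isFam_Φ k₀ hf n }
  have hft : Algebra.FiniteType Rinf (𝒯.A k₀) := inferInstance
  have hbw : ∀ (n : ℕ) (i j : 𝒯.ι), (𝒯.X n).basicOpen (𝒯.Φ k₀ n j (U i * V i)) =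
      𝒯.W n i ⊓ 𝒯.W n j := fun n i j => by
    rw [map_mul, Scheme.basicOpen_mul, hbu, hbv, inf_idem]
  have : Finite TD.ι := inferInstanceAs (Finite 𝒯.ι)
  exact assemble' TD (surjective_algebraMap 𝒯 k₀)
    (fun i => GrAway.flat_baseAway (𝒯.𝒜 k₀) (hUm i) (hVm i))
    (fun i => GrAway.finitePresentation_baseAway (𝒯.𝒜 k₀) (hUm i) (hVm i))
    R T.π T.π_surjective 𝒯.X 𝒯.a L Pn (fun n i => 𝒯.haff n i) (fun n i j => hbw n i j)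
    (fun n i r => 𝒯.Φ_algebraMap k₀ n i r)
    (fun n i => awayLift_surjective 𝒯 k₀ hk₀ hM n i (a := a) (by omega) (hs i)
      (fun j => hbw n i j) ((Pn n).isUnit_w i))
    (fun n i => ker_awayLift_le 𝒯 k₀ hk₀ hM n i (a := a) (by omega) (hs i)
      (fun j => hbw n i j) ((Pn n).isUnit_w i))

end Tower

end Groth.Agent.Picfga.TowerAlg
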