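import Groth.Agent.Picfga.TowerMain

/-!
# Algebraization of a tower of polarized schemes: homogeneous localizations
-/

set_option autoImplicit false
set_option backward.isDefEq.respectTransparency false

universe u

open AlgebraicGeometry CategoryTheory CategoryTheory.Limits Opposite TopologicalSpace
  HomogeneousLocalization
open Groth.Agent.Fdesc.LocGen Groth.Agent.Flat2H.FamExt Groth.Agent.Flat2H.FamDict
  Groth.Agent.Picfga.Level Groth.Agent.Picfga.LimProj Groth.Agent.Flat2H.LimitSections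
  Groth.Agent.Picfga.GrRing Groth.Agent.Divis.AmpleAvoid Groth.Agent.Picfga.ProjGlue
  Groth.Agent.Picfga.AwayLift

namespace Groth.Agent.Picfga.TowerAlg

section AwayLemmas

variable {R A : Type u} [CommRing R] [CommRing A] [Algebra R A] (𝒜 : ℕ → Submodule R A)
  [GradedAlgebra 𝒜] {w : A} {a : ℕ} (hw : w ∈ 𝒜 a)

lemma val_mk_mul' (n : ℕ) (x : A) (hx : x ∈ 𝒜 (n • a)) :
    (Away.mk 𝒜 hw n x hx).val * algebraMap A (Localization.Away w) (w ^ n) =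
      algebraMap A (Localization.Away w) x := GrAway.val_mk_mul 𝒜 hw n x hx

lemma isUnit_pow' (n : ℕ) : IsUnit (algebraMap A (Localization.Away w) (w ^ n)) := by
  rw [map_pow]
  exact (IsLocalization.Away.algebraMap_isUnit w).pow n

lemma mk_add' (n : ℕ) (x y : A) (hx : x ∈ 𝒜 (n • a)) (hy : y ∈ 𝒜 (n • a)) :
    Away.mk 𝒜 hw n (x + y) (add_mem hx hy) = Away.mk 𝒜 hw n x hx + Away.mk 𝒜 hw n y hy := by
  apply HomogeneousLocalization.val_injective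
  rw [val_add, ← (isUnit_pow' (w := w) n).mul_left_inj, add_mul, val_mk_mul', val_mk_mul', val_mk_mul',
    map_add]

lemma mk_smul' (n : ℕ) (r : R) (x : A) (hx : x ∈ 𝒜 (n • a)) :
    Away.mk 𝒜 hw n (r • x) (Submodule.smul_mem _ r hx) =
      baseAway 𝒜 w r * Away.mk 𝒜 hw n x hx := by
  apply HomogeneousLocalization.val_injective
  rw [val_mul, ← (isUnit_pow' (w := w) n).mul_left_inj, mul_assoc, val_mk_mul', val_mk_mul',
    GrAway.val_baseAway, Algebra.smul_def, map_mul, ← IsScalarTower.algebraMap_apply]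

lemma mk_pow_mul' (n M : ℕ) (x : A) (hx : x ∈ 𝒜 (n • a)) (hx' : w ^ M * x ∈ 𝒜 ((M + n) • a)) :
    Away.mk 𝒜 hw (M + n) (w ^ M * x) hx' = Away.mk 𝒜 hw n x hx := by
  apply HomogeneousLocalization.val_injective
  rw [← (isUnit_pow' (w := w) (M + n)).mul_left_inj, val_mk_mul', pow_add, map_mul (algebraMap A _)
    (w ^ M) (w ^ n), map_mul, mul_comm (algebraMap A (Localization.Away w) (w ^ M)) (algebraMap A _ (w ^ n)),
    ← mul_assoc, val_mk_mul', mul_comm]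

end AwayLemmas

variable {R : ℕ → Type u} [∀ n, CommRing (R n)] {Rinf : Type u} [CommRing Rinf]

namespace Tower

variable {T : RingTower R Rinf} (𝒯 : Tower T) (k₀ : ℕ) (hk₀ : 0 < k₀)
  (hM : ∀ k, k₀ ≤ k → T.ModTower (𝒯.M k) (𝒯.τ k))

section

variable [Finite 𝒯.ι] [∀ n, QuasiSeparatedSpace (𝒯.X n)]
  (n : ℕ) (i : 𝒯.ι) {a : ℕ} (ha : 0 < a) {w : 𝒯.A k₀} (hw : w ∈ 𝒯.𝒜 k₀ a)
  (hU : ∀ j, (𝒯.X n).basicOpen (𝒯.Φ k₀ n j w) = 𝒯.W n i ⊓ 𝒯.W n j)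
  (hwu : IsUnit (𝒯.Φ k₀ n i w))

include hk₀ hM ha hw hU in
theorem awayLift_surjective : Function.Surjective (awayLift (𝒯.𝒜 k₀) (𝒯.Φ k₀ n i) hwu) := by
  intro b
  set h : ∀ j, Γ(𝒯.X n, 𝒯.W n j) := fun j => 𝒯.Φ k₀ n j w with hh
  have hle : ∀ j, (𝒯.X n).basicOpen (h j) ≤ 𝒯.W n i := fun j => (hU j).le.trans inf_le_left
  obtain ⟨m₀, hm₀⟩ := exists_ext (𝒯.W n) (fun j => (𝒯.haff n j).isCompact)
    (fun j => (𝒯.haff n j).isQuasiSeparated)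
    (fun j l => QuasiSeparatedSpace.inter_isCompact _ _ (𝒯.W n j).isOpen (𝒯.haff n j).isCompact
      (𝒯.W n l).isOpen (𝒯.haff n l).isCompact)
    (fun _ _ => 1) (fun j l => 𝒯.g n j l ^ a) h (𝒯.isFam_Φ k₀ hw n)
    (fun j => ores (hle j) b) (fun j l => by rw [map_one, mul_one, ores_ores, ores_ores])
  obtain ⟨c, hc, hc'⟩ := hm₀ (m₀ + k₀) (by omega)
  set m := m₀ + k₀ with hm
  have hka : k₀ ≤ m • a := by
    rw [smul_eq_mul]
    calc k₀ ≤ m := by omega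
      _ ≤ m * a := Nat.le_mul_of_pos_right _ ha
  have hcfam : IsFam (𝒯.W n) (fun j l => 𝒯.g n j l ^ (m • a)) c := by
    refine IsFam.congr hc fun j l => ?_
    rw [one_mul, ← pow_mul, smul_eq_mul, mul_comm]
  obtain ⟨x, hx, hxc⟩ := exists_famK 𝒯 (hM (m • a) hka) n c hcfam
  have hxG : x ∈ (𝒯.gf k₀).G (m • a) := by
    change x ∈ 𝒯.G k₀ (m • a)
    rwa [G_big 𝒯 k₀ (by omega) hka]
  refine ⟨Away.mk (𝒯.𝒜 k₀) hw m ((𝒯.gf k₀).mono (m • a) ⟨x, hxG⟩) ((𝒯.gf k₀).mono_mem _ _), ?_⟩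
  rw [← (hwu.pow m).mul_left_inj, awayLift_mk_mul, Φ_of_mem 𝒯 k₀ n i ((𝒯.gf k₀).mono_mem _ _),
    GFam.coe_mono, Polynomial.coeff_monomial_same]
  change x.2 n i = b * h i ^ m
  rw [hxc]
  have hWi : 𝒯.W n i ≤ (𝒯.X n).basicOpen (h i) := by rw [hU i, inf_idem]
  have h1 := congrArg (ores hWi) (hc' i)
  rw [map_mul, map_pow] at h1
  simp only [ores_ores] at h1
  rw [ores_refl, ores_refl, ores_refl] at h1
  rw [h1, mul_comm]

include hk₀ hM ha hw hU in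
theorem ker_awayLift_le : RingHom.ker (awayLift (𝒯.𝒜 k₀) (𝒯.Φ k₀ n i) hwu) ≤
    (RingHom.ker (T.π n)).map (baseAway (𝒯.𝒜 k₀) w) := by
  classical
  have := Fintype.ofFinite 𝒯.ι
  intro x hx
  obtain ⟨m, f, hf, rfl⟩ := Away.mk_surjective (𝒯.𝒜 k₀) hw x
  have hfi : 𝒯.Φ k₀ n i f = 0 := by
    rw [← awayLift_mk_mul (𝒯.𝒜 k₀) (𝒯.Φ k₀ n i) hwu hw m f hf, (RingHom.mem_ker).mp hx, zero_mul]
  set h : ∀ j, Γ(𝒯.X n, 𝒯.W n j) := fun j => 𝒯.Φ k₀ n j w with hh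
  have h1 : ∀ j, ∃ p : ℕ, h j ^ p * 𝒯.Φ k₀ n j f = 0 := by
    intro j
    apply res_zero_ext (𝒯.haff n j).isCompact
    have h2 := 𝒯.isFam_Φ k₀ hf n i j
    beta_reduce at h2
    rw [hfi, map_zero, zero_mul] at h2
    have h3 : (𝒯.X n).basicOpen (h j) ≤ 𝒯.W n i ⊓ 𝒯.W n j := (hU j).le
    have h4 := congrArg (ores h3) h2
    rw [map_zero, ores_ores] at h4
    exact h4.symm
  choose p hp using h1
  set M := Finset.univ.sup p + k₀ with hMdef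
  have hpM : ∀ j, h j ^ M * 𝒯.Φ k₀ n j f = 0 := by
    intro j
    have : p j ≤ M := (Finset.le_sup (f := p) (Finset.mem_univ j)).trans (by omega)
    obtain ⟨q, hq⟩ := Nat.exists_eq_add_of_le this
    rw [hq, pow_add, mul_comm (h j ^ p j), mul_assoc, hp, mul_zero]
  have hmem : w ^ M * f ∈ 𝒯.𝒜 k₀ ((M + m) • a) := by
    have := SetLike.mul_mem_graded (SetLike.pow_mem_graded M hw) hf
    rwa [← add_smul] at this
  have hka : k₀ ≤ (M + m) • a := by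
    rw [smul_eq_mul]
    calc k₀ ≤ M + m := by omega
      _ ≤ (M + m) * a := Nat.le_mul_of_pos_right _ ha
  have h0 : ((w ^ M * f).1.coeff ((M + m) • a)).2 n = 0 := by
    funext j
    rw [← Φ_of_mem 𝒯 k₀ n j hmem, map_mul, map_pow]
    exact hpM j
  have hcoef : (w ^ M * f).1.coeff ((M + m) • a) ∈ 𝒯.G k₀ ((M + m) • a) := (w ^ M * f).2 _
  rw [G_big 𝒯 k₀ (by omega) hka] at hcoef
  have h2 := mem_of_eq_zero 𝒯 (hM _ hka) n _ hcoef h0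
  rw [← mk_pow_mul' (𝒯.𝒜 k₀) hw m M f hf hmem]
  have key : ∃ hξ : (w ^ M * f).1.coeff ((M + m) • a) ∈ (𝒯.gf k₀).G ((M + m) • a),
      Away.mk (𝒯.𝒜 k₀) hw (M + m) ((𝒯.gf k₀).mono ((M + m) • a) ⟨_, hξ⟩)
        ((𝒯.gf k₀).mono_mem _ _) ∈ (RingHom.ker (T.π n)).map (baseAway (𝒯.𝒜 k₀) w) := by
    refine Submodule.smul_induction_on h2 ?_ ?_
    · intro r hr ξ hξ
      have hξ' : ξ ∈ (𝒯.gf k₀).G ((M + m) • a) := by
        change ξ ∈ 𝒯.G k₀ ((M + m) • a)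
        rwa [G_big 𝒯 k₀ (by omega) hka]
      refine ⟨Submodule.smul_mem _ r hξ', ?_⟩
      have e1 : (𝒯.gf k₀).mono ((M + m) • a) ⟨r • ξ, Submodule.smul_mem _ r hξ'⟩ =
          r • (𝒯.gf k₀).mono ((M + m) • a) ⟨ξ, hξ'⟩ := by
        rw [← map_smul]; rfl
      have e2 : Away.mk (𝒯.𝒜 k₀) hw (M + m)
          ((𝒯.gf k₀).mono ((M + m) • a) ⟨r • ξ, Submodule.smul_mem _ r hξ'⟩)
          ((𝒯.gf k₀).mono_mem _ _) = Away.mk (𝒯.𝒜 k₀) hw (M + m)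
          (r • (𝒯.gf k₀).mono ((M + m) • a) ⟨ξ, hξ'⟩)
          (Submodule.smul_mem _ r ((𝒯.gf k₀).mono_mem _ _)) := by
        congr 1
      rw [e2, mk_smul' (𝒯.𝒜 k₀) hw (M + m) r _ ((𝒯.gf k₀).mono_mem _ _)]
      exact Ideal.mul_mem_right _ _ (Ideal.mem_map_of_mem _ hr)
    · rintro ξ η ⟨hξ, h3⟩ ⟨hη, h4⟩
      refine ⟨add_mem hξ hη, ?_⟩
      have e1 : (𝒯.gf k₀).mono ((M + m) • a) ⟨ξ + η, add_mem hξ hη⟩ =
          (𝒯.gf k₀).mono ((M + m) • a) ⟨ξ, hξ⟩ + (𝒯.gf k₀).mono ((M + m) • a) ⟨η, hη⟩ := by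
        rw [← map_add]; rfl
      have e2 : Away.mk (𝒯.𝒜 k₀) hw (M + m)
          ((𝒯.gf k₀).mono ((M + m) • a) ⟨ξ + η, add_mem hξ hη⟩)
          ((𝒯.gf k₀).mono_mem _ _) = Away.mk (𝒯.𝒜 k₀) hw (M + m)
          ((𝒯.gf k₀).mono ((M + m) • a) ⟨ξ, hξ⟩ + (𝒯.gf k₀).mono ((M + m) • a) ⟨η, hη⟩)
          (add_mem ((𝒯.gf k₀).mono_mem _ _) ((𝒯.gf k₀).mono_mem _ _)) := by
        congr 1
      rw [e2, mk_add' (𝒯.𝒜 k₀) hw (M + m) _ _ ((𝒯.gf k₀).mono_mem _ _) ((𝒯.gf k₀).mono_mem _ _)]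
      exact add_mem h3 h4
  obtain ⟨hξ, h3⟩ := key
  have e3 : Away.mk (𝒯.𝒜 k₀) hw (M + m) (w ^ M * f) hmem = Away.mk (𝒯.𝒜 k₀) hw (M + m)
      ((𝒯.gf k₀).mono ((M + m) • a) ⟨_, hξ⟩) ((𝒯.gf k₀).mono_mem _ _) := by
    congr 1
    exact ((𝒯.gf k₀).mono_surj hmem).symm
  rw [e3]
  exact h3

end

end Tower

end Groth.Agent.Picfga.TowerAlg
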