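import Groth.Agent.Picfga.TowerAlg
import Groth.Agent.Picfga.GrFP
import Groth.Agent.Picfga.GrAway
import Groth.Agent.Picfga.NakKoszul
import Groth.Agent.Picfga.ProjAssemble
import Groth.Agent.Divis.AmpleAvoid

/-!
# The graded algebra of a tower of polarized schemes
-/

set_option autoImplicit false
set_option backward.isDefEq.respectTransparency false

universe u

open AlgebraicGeometry CategoryTheory CategoryTheory.Limits Opposite TopologicalSpace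
open Groth.Agent.Fdesc.LocGen Groth.Agent.Flat2H.FamExt Groth.Agent.Flat2H.FamDict
  Groth.Agent.Picfga.Level Groth.Agent.Picfga.LimProj Groth.Agent.Flat2H.LimitSections
  Groth.Agent.Picfga.GrRing Groth.Agent.Divis.AmpleAvoid

namespace Groth.Agent.Picfga.TowerAlg

variable {R : ℕ → Type u} [∀ n, CommRing (R n)] {Rinf : Type u} [CommRing Rinf]

namespace Tower

variable {T : RingTower R Rinf} (𝒯 : Tower T)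

lemma famK_mul {m n : ℕ} {x y : Rinf × 𝒯.Pt} (hx : x ∈ 𝒯.famK m) (hy : y ∈ 𝒯.famK n) :
    x * y ∈ 𝒯.famK (m + n) := by
  refine ⟨?_, fun p j l => ?_, fun p j => ?_⟩
  · rw [Prod.fst_mul, hx.1, zero_mul]
  · change ores _ (x.2 p j * y.2 p j) * _ = ores _ (x.2 p l * y.2 p l)
    rw [map_mul, map_mul, ← hx.2.1 p j l, ← hy.2.1 p j l]
    beta_reduce
    rw [pow_add]
    ring
  · change 𝒯.red p j (x.2 (p + 1) j * y.2 (p + 1) j) = x.2 p j * y.2 p j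
    rw [map_mul, hx.2.2, hy.2.2]

variable (k₀ : ℕ)

/-- The pieces: `Rinf` in degree `0`, nothing in degrees `0 < k < k₀`, `famK k` in degrees `≥ k₀`. -/
noncomputable def G (k : ℕ) : Submodule Rinf (Rinf × 𝒯.Pt) :=
  if k = 0 then LinearMap.range (Algebra.linearMap Rinf (Rinf × 𝒯.Pt)) else
  if k < k₀ then ⊥ else 𝒯.famK k

lemma G_zero : 𝒯.G k₀ 0 = LinearMap.range (Algebra.linearMap Rinf (Rinf × 𝒯.Pt)) := if_pos rfl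

lemma G_small {k : ℕ} (h0 : 0 < k) (h : k < k₀) : 𝒯.G k₀ k = ⊥ := by
  rw [G, if_neg (by omega), if_pos h]

lemma G_big {k : ℕ} (h0 : 0 < k) (h : k₀ ≤ k) : 𝒯.G k₀ k = 𝒯.famK k := by
  rw [G, if_neg (by omega), if_neg (by omega)]

lemma G_mul {m n : ℕ} {x y : Rinf × 𝒯.Pt} (hx : x ∈ 𝒯.G k₀ m) (hy : y ∈ 𝒯.G k₀ n) :
    x * y ∈ 𝒯.G k₀ (m + n) := by
  have key : ∀ {n : ℕ} {x y : Rinf × 𝒯.Pt}, x ∈ 𝒯.G k₀ 0 → y ∈ 𝒯.G k₀ n → x * y ∈ 𝒯.G k₀ n := by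
    intro n x y hx hy
    rw [G_zero] at hx
    obtain ⟨r, rfl⟩ := hx
    rw [Algebra.linearMap_apply, ← Algebra.smul_def]
    exact Submodule.smul_mem _ _ hy
  rcases Nat.eq_zero_or_pos m with rfl | hm
  · rw [zero_add]; exact key hx hy
  rcases Nat.eq_zero_or_pos n with rfl | hn
  · rw [add_zero, mul_comm]; exact key hy hx
  rcases lt_or_ge m k₀ with hmk | hmk
  · rw [G_small 𝒯 k₀ hm hmk, Submodule.mem_bot] at hx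
    rw [hx, zero_mul]; exact zero_mem _
  rcases lt_or_ge n k₀ with hnk | hnk
  · rw [G_small 𝒯 k₀ hn hnk, Submodule.mem_bot] at hy
    rw [hy, mul_zero]; exact zero_mem _
  rw [G_big 𝒯 k₀ hm hmk] at hx
  rw [G_big 𝒯 k₀ hn hnk] at hy
  rw [G_big 𝒯 k₀ (by omega) (by omega)]
  exact famK_mul 𝒯 hx hy

/-- The graded family. -/
noncomputable def gf : GFam Rinf (Rinf × 𝒯.Pt) where
  G := 𝒯.G k₀
  one_mem := by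
    rw [G_zero]
    exact ⟨1, by rw [Algebra.linearMap_apply, map_one]⟩
  mul_mem := fun hx hy => G_mul 𝒯 k₀ hx hy

/-- the graded algebra. -/
abbrev A : Type u := (𝒯.gf k₀).alg

/-- its grading -/
noncomputable abbrev 𝒜 : ℕ → Submodule Rinf (𝒯.A k₀) := (𝒯.gf k₀).gr

/-- The evaluation homomorphisms. -/
noncomputable def Φ (n : ℕ) (j : 𝒯.ι) : 𝒯.A k₀ →+* Γ(𝒯.X n, 𝒯.W n j) :=
  (𝒯.gf k₀).toB (𝒯.ev n j)

lemma Φ_algebraMap (n : ℕ) (j : 𝒯.ι) (r : Rinf) :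
    𝒯.Φ k₀ n j (algebraMap Rinf (𝒯.A k₀) r) = str (𝒯.a n) (𝒯.W n j) (T.π n r) := by
  rw [Φ, GFam.toB_algebraMap]
  rfl

lemma Φ_of_mem (n : ℕ) (j : 𝒯.ι) {k : ℕ} {f : 𝒯.A k₀} (hf : f ∈ 𝒯.𝒜 k₀ k) :
    𝒯.Φ k₀ n j f = (f.1.coeff k).2 n j := by
  rw [Φ, GFam.toB_of_mem _ _ hf]
  rfl

lemma isFam_of_mem_G {k : ℕ} {x : Rinf × 𝒯.Pt} (hx : x ∈ 𝒯.G k₀ k) (n : ℕ) :
    IsFam (𝒯.W n) (fun j l => 𝒯.g n j l ^ k) (x.2 n) := by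
  rcases Nat.eq_zero_or_pos k with rfl | hk
  · rw [G_zero] at hx
    obtain ⟨r, rfl⟩ := hx
    intro j l
    change ores _ (str (𝒯.a n) (𝒯.W n j) (T.π n r)) * 𝒯.g n j l ^ 0 =
      ores _ (str (𝒯.a n) (𝒯.W n l) (T.π n r))
    rw [ores_str, ores_str, pow_zero, mul_one]
  · rcases lt_or_ge k k₀ with h | h
    · rw [G_small 𝒯 k₀ hk h, Submodule.mem_bot] at hx
      rw [hx]
      exact IsFam.zero
    · rw [G_big 𝒯 k₀ hk h] at hx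
      exact hx.2.1 n

lemma red_of_mem_G {k : ℕ} {x : Rinf × 𝒯.Pt} (hx : x ∈ 𝒯.G k₀ k) (n : ℕ) (j : 𝒯.ι) :
    𝒯.red n j (x.2 (n + 1) j) = x.2 n j := by
  rcases Nat.eq_zero_or_pos k with rfl | hk
  · rw [G_zero] at hx
    obtain ⟨r, rfl⟩ := hx
    change 𝒯.red n j (str (𝒯.a (n + 1)) (𝒯.W (n + 1) j) (T.π (n + 1) r)) =
      str (𝒯.a n) (𝒯.W n j) (T.π n r)
    rw [red_str, T.t_π]
  · rcases lt_or_ge k k₀ with h | h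
    · rw [G_small 𝒯 k₀ hk h, Submodule.mem_bot] at hx
      rw [hx]
      exact map_zero _
    · rw [G_big 𝒯 k₀ hk h] at hx
      exact hx.2.2 n j

lemma isFam_Φ {k : ℕ} {f : 𝒯.A k₀} (hf : f ∈ 𝒯.𝒜 k₀ k) (n : ℕ) :
    IsFam (𝒯.W n) (fun j l => 𝒯.g n j l ^ k) (fun j => 𝒯.Φ k₀ n j f) := by
  have h := 𝒯.isFam_of_mem_G k₀ (f.2 k) n
  have h2 : (fun j => 𝒯.Φ k₀ n j f) = (f.1.coeff k).2 n := funext fun j => 𝒯.Φ_of_mem k₀ n j hf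
  rw [h2]
  exact h

lemma red_Φ {k : ℕ} {f : 𝒯.A k₀} (hf : f ∈ 𝒯.𝒜 k₀ k) (n : ℕ) (j : 𝒯.ι) :
    𝒯.red n j (𝒯.Φ k₀ (n + 1) j f) = 𝒯.Φ k₀ n j f := by
  rw [Φ_of_mem 𝒯 k₀ _ _ hf, Φ_of_mem 𝒯 k₀ _ _ hf]
  exact 𝒯.red_of_mem_G k₀ (f.2 k) n j

lemma isUnit_Φ {k : ℕ} {f : 𝒯.A k₀} (hf : f ∈ 𝒯.𝒜 k₀ k) (j : 𝒯.ι)
    (h0 : IsUnit (𝒯.Φ k₀ 0 j f)) (n : ℕ) : IsUnit (𝒯.Φ k₀ n j f) := by
  induction n with
  | zero => exact h0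
  | succ n ih =>
    apply 𝒯.isUnit_of_red
    rwa [red_Φ 𝒯 k₀ hf]

/-- A basic open of level `n + 1` restricts to the one of level `n`. -/
lemma preimage_basicOpen_Φ {k : ℕ} {f : 𝒯.A k₀} (hf : f ∈ 𝒯.𝒜 k₀ k) (n : ℕ) (j : 𝒯.ι) :
    𝒯.i n ⁻¹ᵁ (𝒯.X (n + 1)).basicOpen (𝒯.Φ k₀ (n + 1) j f) =
      (𝒯.X n).basicOpen (𝒯.Φ k₀ n j f) := by
  conv_rhs => rw [← red_Φ 𝒯 k₀ hf]
  change _ = (𝒯.X n).basicOpen ((𝒯.i n).appLE _ _ _ _)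
  rw [appLE_eq_ores_app, Groth.Agent.Flat2H.FamExt.basicOpen_res, ← Scheme.preimage_basicOpen, eq_comm,
    inf_eq_right, ← 𝒯.hW n j]
  exact (𝒯.i n).preimage_mono ((𝒯.X (n + 1)).basicOpen_le _)

lemma basicOpen_Φ {k : ℕ} {f : 𝒯.A k₀} (hf : f ∈ 𝒯.𝒜 k₀ k) (j l : 𝒯.ι)
    (h0 : (𝒯.X 0).basicOpen (𝒯.Φ k₀ 0 j f) = 𝒯.W 0 l ⊓ 𝒯.W 0 j) (n : ℕ) :
    (𝒯.X n).basicOpen (𝒯.Φ k₀ n j f) = 𝒯.W n l ⊓ 𝒯.W n j := by
  induction n with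
  | zero => exact h0
  | succ n ih =>
    have hs : Surjective (𝒯.i n) := ThickSq.surjective (𝒯.hcart n) (T.ht n) (T.hnil n)
    have h1 : 𝒯.i n ⁻¹ᵁ (𝒯.X (n + 1)).basicOpen (𝒯.Φ k₀ (n + 1) j f) =
        𝒯.i n ⁻¹ᵁ (𝒯.W (n + 1) l ⊓ 𝒯.W (n + 1) j) := by
      rw [preimage_basicOpen_Φ 𝒯 k₀ hf, ih, Scheme.Hom.preimage_inf, 𝒯.hW, 𝒯.hW]
    ext x
    obtain ⟨y, rfl⟩ := hs.surj x
    have h2 : y ∈ 𝒯.i n ⁻¹ᵁ (𝒯.X (n + 1)).basicOpen (𝒯.Φ k₀ (n + 1) j f) ↔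
      y ∈ 𝒯.i n ⁻¹ᵁ (𝒯.W (n + 1) l ⊓ 𝒯.W (n + 1) j) := by rw [h1]
    exact h2

end Tower

end Groth.Agent.Picfga.TowerAlg
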