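import Groth.Agent.Picfga.TowerGr

/-!
# Algebraization of a tower of polarized schemes, algebra part
-/

set_option autoImplicit false
set_option backward.isDefEq.respectTransparency false

universe u

open AlgebraicGeometry CategoryTheory CategoryTheory.Limits Opposite TopologicalSpace
  HomogeneousLocalization
open Groth.Agent.Fdesc.LocGen Groth.Agent.Flat2H.FamExt Groth.Agent.Flat2H.FamDict
  Groth.Agent.Picfga.Level Groth.Agent.Picfga.LimProj Groth.Agent.Flat2H.LimitSections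
  Groth.Agent.Picfga.GrRing Groth.Agent.Divis.AmpleAvoid Groth.Agent.Picfga.ProjGlue
  Groth.Agent.Picfga.AwayLift

namespace Groth.Agent.Picfga.TowerAlg

variable {R : ℕ → Type u} [∀ n, CommRing (R n)] {Rinf : Type u} [CommRing Rinf]

namespace Tower

variable {T : RingTower R Rinf} (𝒯 : Tower T) (k₀ : ℕ) (hk₀ : 0 < k₀)
  (hM : ∀ k, k₀ ≤ k → T.ModTower (𝒯.M k) (𝒯.τ k))

section Pieces

include hk₀ hM

lemma finitePresentation_G (k : ℕ) : Module.FinitePresentation Rinf (𝒯.G k₀ k) := by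
  rcases Nat.eq_zero_or_pos k with rfl | hk
  · have hinj : Function.Injective (Algebra.linearMap Rinf (Rinf × 𝒯.Pt)) := by
      intro x y h
      exact congrArg Prod.fst h
    rw [G_zero]
    exact Module.FinitePresentation.of_equiv (LinearEquiv.ofInjective _ hinj)
  · rcases lt_or_ge k k₀ with h | h
    · rw [G_small 𝒯 k₀ hk h]
      infer_instance
    · rw [G_big 𝒯 k₀ hk h]
      have h1 := projective_famK 𝒯 (hM k h)
      have h2 := fg_famK 𝒯 (hM k h)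
      rw [← Module.Finite.iff_fg] at h2
      exact Module.finitePresentation_of_projective _ _

lemma flat_G (k : ℕ) : Module.Flat Rinf (𝒯.G k₀ k) := by
  rcases Nat.eq_zero_or_pos k with rfl | hk
  · have hinj : Function.Injective (Algebra.linearMap Rinf (Rinf × 𝒯.Pt)) := by
      intro x y h
      exact congrArg Prod.fst h
    rw [G_zero]
    exact Module.Flat.of_linearEquiv (LinearEquiv.ofInjective _ hinj).symm
  · rcases lt_or_ge k k₀ with h | h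
    · rw [G_small 𝒯 k₀ hk h]
      infer_instance
    · rw [G_big 𝒯 k₀ hk h]
      have h1 := projective_famK 𝒯 (hM k h)
      infer_instance

lemma finitePresentation_𝒜 (k : ℕ) : Module.FinitePresentation Rinf (𝒯.𝒜 k₀ k) := by
  have : Module.FinitePresentation Rinf ((𝒯.gf k₀).G k) := finitePresentation_G 𝒯 k₀ hk₀ hM k
  exact Module.FinitePresentation.of_equiv (R := Rinf) (M := (𝒯.gf k₀).G k)
    (N := (𝒯.gf k₀).gr k) ((𝒯.gf k₀).grEquiv k)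

theorem flat_A : Module.Flat Rinf (𝒯.A k₀) := by
  have : ∀ k, Module.Flat Rinf (𝒯.𝒜 k₀ k) := fun k => by
    have : Module.Flat Rinf ((𝒯.gf k₀).G k) := flat_G 𝒯 k₀ hk₀ hM k
    exact Module.Flat.of_linearEquiv ((𝒯.gf k₀).grEquiv k).symm
  exact Module.Flat.of_linearEquiv (DirectSum.decomposeLinearEquiv (𝒯.𝒜 k₀))

end Pieces

lemma surjective_algebraMap : Function.Surjective (algebraMap Rinf (𝒯.𝒜 k₀ 0)) := by
  rintro ⟨f, hf⟩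
  have h1 : f.1.coeff 0 ∈ 𝒯.G k₀ 0 := f.2 0
  rw [G_zero] at h1
  obtain ⟨r, hr⟩ := h1
  refine ⟨r, Subtype.ext (Subtype.ext ?_)⟩
  rw [GFam.mem_gr] at hf
  change algebraMap Rinf _ r = f.1
  rw [hf, ← hr]
  rfl

section Koszul

variable [Fintype 𝒯.ι] (a N : ℕ) (ha : 0 < a) (s : 𝒯.ι → 𝒯.A k₀)
  (hs : ∀ i, s i ∈ 𝒯.𝒜 k₀ a) (hka : k₀ ≤ a) (hN : k₀ + 2 * a ≤ N)

variable (K1 : ∀ K, N ≤ K → ∀ x : ∀ j, Γ(𝒯.X 0, 𝒯.W 0 j),
    IsFam (𝒯.W 0) (fun j l => 𝒯.g 0 j l ^ K) x →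
    ∃ y : 𝒯.ι → ∀ j, Γ(𝒯.X 0, 𝒯.W 0 j),
      (∀ i, IsFam (𝒯.W 0) (fun j l => 𝒯.g 0 j l ^ (K - a)) (y i)) ∧
      ∀ j, x j = ∑ i, 𝒯.Φ k₀ 0 j (s i) * y i j)
  (K2 : ∀ K, N ≤ K → ∀ y : 𝒯.ι → ∀ j, Γ(𝒯.X 0, 𝒯.W 0 j),
    (∀ i, IsFam (𝒯.W 0) (fun j l => 𝒯.g 0 j l ^ (K - a)) (y i)) →
    (∀ j, ∑ i, 𝒯.Φ k₀ 0 j (s i) * y i j = 0) →
    ∃ z : 𝒯.ι → 𝒯.ι → ∀ j, Γ(𝒯.X 0, 𝒯.W 0 j),
      (∀ l m, IsFam (𝒯.W 0) (fun j l => 𝒯.g 0 j l ^ (K - 2 * a)) (z l m)) ∧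
      (∀ l m j, z l m j + z m l j = 0) ∧ (∀ l j, z l l j = 0) ∧
      ∀ l j, y l j = ∑ m, 𝒯.Φ k₀ 0 j (s m) * z l m j)

/-- projection to level zero -/
noncomputable def θ : Rinf × 𝒯.Pt →+* (∀ j, Γ(𝒯.X 0, 𝒯.W 0 j)) :=
  RingHom.pi fun j => 𝒯.ev 0 j

lemma θ_apply (x : Rinf × 𝒯.Pt) : 𝒯.θ x = x.2 0 := rfl

include hk₀ hM hs hN K1 in
lemma K1_G (K : ℕ) (hK : N ≤ K) (x : Rinf × 𝒯.Pt) (hx : x ∈ (𝒯.gf k₀).G K) :
    ∃ y : 𝒯.ι → Rinf × 𝒯.Pt, (∀ i, y i ∈ (𝒯.gf k₀).G (K - a)) ∧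
      x = ∑ i, (s i).1.coeff a * y i := by
  refine NakKoszul.exists_K1 (𝒯.θ) ((𝒯.gf k₀).G)
    (fun k => {b | IsFam (𝒯.W 0) (fun j l => 𝒯.g 0 j l ^ k) b}) (RingHom.ker (T.π 0))
    (fun i => (s i).1.coeff a) a N k₀ (𝒯.gf k₀).mul_mem (fun i => (s i).2 a)
    T.ker_π_zero_le_jacobson ?_ ?_ ?_ ?_ hN ?_ K hK x hx
  · intro k hk
    change (𝒯.G k₀ k).FG
    rw [G_big 𝒯 k₀ (by omega) hk]
    exact fg_famK 𝒯 (hM k hk)
  · intro k hk x hx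
    exact 𝒯.isFam_of_mem_G k₀ hx 0
  · intro k hk b hb
    change ∃ y ∈ 𝒯.G k₀ k, 𝒯.θ y = b
    rw [G_big 𝒯 k₀ (by omega) hk]
    exact exists_famK 𝒯 (hM k hk) 0 b hb
  · intro k hk x hx h0
    change x ∈ _ • 𝒯.G k₀ k
    change x ∈ 𝒯.G k₀ k at hx
    rw [G_big 𝒯 k₀ (by omega) hk] at hx ⊢
    exact mem_of_eq_zero 𝒯 (hM k hk) 0 x hx h0
  · intro K hK x hx
    obtain ⟨y, hy, hxy⟩ := K1 K hK x hx
    refine ⟨y, hy, funext fun j => ?_⟩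
    rw [hxy j, Finset.sum_apply]
    refine Finset.sum_congr rfl fun i _ => ?_
    rw [Pi.mul_apply, Φ_of_mem 𝒯 k₀ _ _ (hs i)]
    rfl

include hk₀ hM hs hN K1 K2 in
lemma K2_G (K : ℕ) (hK : N ≤ K) (y : 𝒯.ι → Rinf × 𝒯.Pt) (hy : ∀ i, y i ∈ (𝒯.gf k₀).G (K - a))
    (hy0 : ∑ i, (s i).1.coeff a * y i = 0) :
    ∃ z : 𝒯.ι → 𝒯.ι → Rinf × 𝒯.Pt, (∀ i j, z i j ∈ (𝒯.gf k₀).G (K - 2 * a)) ∧
      (∀ i j, z i j + z j i = 0) ∧ (∀ i, z i i = 0) ∧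
      ∀ i, y i = ∑ j, (s j).1.coeff a * z i j := by
  refine NakKoszul.exists_K2 (𝒯.θ) ((𝒯.gf k₀).G)
    (fun k => {b | IsFam (𝒯.W 0) (fun j l => 𝒯.g 0 j l ^ k) b}) (RingHom.ker (T.π 0))
    (fun i => (s i).1.coeff a) a N k₀ (𝒯.gf k₀).mul_mem (fun i => (s i).2 a)
    T.ker_π_zero_le_jacobson ?_ ?_ ?_ ?_ ?_ hN ?_ ?_ K hK y hy hy0
  · intro k hk
    change (𝒯.G k₀ k).FG
    rw [G_big 𝒯 k₀ (by omega) hk]
    exact fg_famK 𝒯 (hM k hk)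
  · intro k hk
    change Module.Projective Rinf (𝒯.G k₀ k)
    rw [G_big 𝒯 k₀ (by omega) hk]
    exact projective_famK 𝒯 (hM k hk)
  · intro k hk x hx
    exact 𝒯.isFam_of_mem_G k₀ hx 0
  · intro k hk b hb
    change ∃ y ∈ 𝒯.G k₀ k, 𝒯.θ y = b
    rw [G_big 𝒯 k₀ (by omega) hk]
    exact exists_famK 𝒯 (hM k hk) 0 b hb
  · intro k hk x hx h0
    change x ∈ _ • 𝒯.G k₀ k
    change x ∈ 𝒯.G k₀ k at hx
    rw [G_big 𝒯 k₀ (by omega) hk] at hx ⊢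
    exact mem_of_eq_zero 𝒯 (hM k hk) 0 x hx h0
  · intro K hK x hx
    obtain ⟨y, hy, hxy⟩ := K1 K hK x hx
    refine ⟨y, hy, funext fun j => ?_⟩
    rw [hxy j, Finset.sum_apply]
    refine Finset.sum_congr rfl fun i _ => ?_
    rw [Pi.mul_apply, Φ_of_mem 𝒯 k₀ _ _ (hs i)]
    rfl
  · intro K hK y hy hy0
    obtain ⟨z, hz, hz1, hz2, hz3⟩ := K2 K hK y hy (fun j => by
      have h1 := congrFun hy0 j
      rw [Finset.sum_apply] at h1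
      rw [Pi.zero_apply] at h1
      rw [← h1]
      refine Finset.sum_congr rfl fun i _ => ?_
      rw [Pi.mul_apply, Φ_of_mem 𝒯 k₀ _ _ (hs i)]
      rfl)
    refine ⟨z, hz, fun l m => funext fun j => hz1 l m j, fun l => funext fun j => hz2 l j,
      fun l => funext fun j => ?_⟩
    rw [hz3 l j, Finset.sum_apply]
    refine Finset.sum_congr rfl fun i _ => ?_
    rw [Pi.mul_apply, Φ_of_mem 𝒯 k₀ _ _ (hs i)]
    rfl

include hk₀ hM hs hN K1 in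
lemma K1_A (K : ℕ) (hK : N ≤ K) (x : 𝒯.A k₀) (hx : x ∈ 𝒯.𝒜 k₀ K) :
    ∃ y : 𝒯.ι → 𝒯.A k₀, (∀ i, y i ∈ 𝒯.𝒜 k₀ (K - a)) ∧ x = ∑ i, s i * y i :=
  GFam.exists_K1 (𝒯.gf k₀) s a N hs (by omega) (K1_G 𝒯 k₀ hk₀ hM a N s hs hN K1) K hK x hx

include hk₀ hM ha hs hN K1 K2 in
/-- **Finite presentation.** -/
theorem finitePresentation_A : Algebra.FinitePresentation Rinf (𝒯.A k₀) := by
  classical
  refine GrFP.finitePresentation (𝒯.𝒜 k₀) N s a (finitePresentation_𝒜 𝒯 k₀ hk₀ hM) hs ha (by omega)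
    (K1_A 𝒯 k₀ hk₀ hM a N s hs hN K1) ?_
  exact GFam.exists_K2 (𝒯.gf k₀) s a N hs (by omega) (K2_G 𝒯 k₀ hk₀ hM a N s hs hN K1 K2)

include hk₀ hM ha hs hN K1 in
/-- The standard opens of `s i` cover. -/
theorem cover : ⨆ i, Proj.basicOpen (𝒯.𝒜 k₀) (s i) = ⊤ := by
  refine top_le_iff.mp fun x _ => ?_
  rw [Opens.mem_iSup]
  by_contra! H
  simp only [Proj.mem_basicOpen] at H
  refine x.not_irrelevant_le ?_
  intro f hf
  have hhom : ∀ (m : ℕ) (f : 𝒯.A k₀), 0 < m → f ∈ 𝒯.𝒜 k₀ m → f ∈ x.asHomogeneousIdeal := by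
    intro m f hm hf
    have h1 : f ^ N ∈ 𝒯.𝒜 k₀ (N * m) := by
      have := SetLike.pow_mem_graded N hf
      rwa [smul_eq_mul] at this
    obtain ⟨y, hy, hfy⟩ := K1_A 𝒯 k₀ hk₀ hM a N s hs hN K1 (N * m) (Nat.le_mul_of_pos_right _ hm) _ h1
    have h2 : f ^ N ∈ x.asHomogeneousIdeal := by
      rw [hfy]
      exact Ideal.sum_mem _ fun i _ => Ideal.mul_mem_right _ _ (not_not.mp (H i))
    exact x.isPrime.mem_of_pow_mem N h2
  classical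
  rw [HomogeneousIdeal.mem_irrelevant_iff] at hf
  change f ∈ x.asHomogeneousIdeal.toIdeal
  rw [← DirectSum.sum_support_decompose (𝒯.𝒜 k₀) f]
  refine Ideal.sum_mem _ fun k hk => ?_
  rcases Nat.eq_zero_or_pos k with rfl | hk0
  · have : (DirectSum.decompose (𝒯.𝒜 k₀) f 0 : 𝒯.A k₀) = 0 := hf
    rw [this]
    exact zero_mem _
  · exact hhom k _ hk0 (SetLike.coe_mem _)

end Koszul

end Tower

end Groth.Agent.Picfga.TowerAlg
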