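import Groth.Agent.Picfga.LevelIface
import Groth.Agent.Picfga.ThickSq
import Groth.Agent.Picfga.LiftFam
import Groth.Agent.Flat2C.AffineThickening

/-!
# Towers of trivializations along a tower of thickenings (item (B4) of S1155)

`X n ⟶ Spec (R n)` a tower with `X n = X (n + 1) ×_{R (n+1)} R n`, `R (n + 1) → R n` surjective with
locally nilpotent kernel, `L n` a compatible tower of invertible modules.  A trivialization of `L 0`
over affine opens extends to a compatible tower of trivializations over affine opens.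
-/

set_option autoImplicit false
universe u

open CategoryTheory CategoryTheory.Limits AlgebraicGeometry Opposite TopologicalSpace TensorProduct

namespace Groth.Agent.Picfga.TrivTower

open Groth.Agent.VarietyB.FlatH0 Groth.Agent.VarietyB.BCAlg Groth.Agent.VarietyB.PullSec
open Groth.Agent.Fdesc.LocGen Groth.Agent.Flat2H.FamExt Groth.Agent.Flat2H.FamDict
open Groth.Agent.Picfga.Level Groth.Agent.Flat2C.AffineThickening

/-- dependent choice with a given start -/
lemma exists_chain {S : ℕ → Type*} (Rel : ∀ n, S n → S (n + 1) → Prop)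
    (h : ∀ n s, ∃ s', Rel n s s') (s₀ : S 0) :
    ∃ s : ∀ n, S n, s 0 = s₀ ∧ ∀ n, Rel n (s n) (s (n + 1)) := by
  choose f hf using h
  exact ⟨fun m => Nat.rec (motive := fun m => S m) s₀ (fun m y => f m y) m, rfl, fun m => hf m _⟩

section one

variable {R R' : Type u} [CommRing R] [CommRing R'] {t : R' →+* R} {X X' : Scheme.{u}}
  {a : X ⟶ Spec (CommRingCat.of R)} {a' : X' ⟶ Spec (CommRingCat.of R')} {i : X ⟶ X'}

/-- Every open of a closed surjective subscheme is the trace of an open. -/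
lemma exists_preimage_eq (i : X ⟶ X') [IsClosedImmersion i] (W : X.Opens) :
    ∃ W' : X'.Opens, i ⁻¹ᵁ W' = W := by
  obtain ⟨V, hV, h⟩ := (i.isClosedEmbedding.isEmbedding.isInducing.isOpen_iff (s := (W : Set X))).1 W.2
  exact ⟨⟨V, hV⟩, Opens.ext h⟩

/-- sections over an affine open lift along the thickening -/
theorem exists_pullSec_eq (ht : Function.Surjective t)
    (hc : IsPullback i a a' (Spec.map (CommRingCat.ofHom t))) {M : X'.Modules} (hM : Coh.IsQCoh M)
    {U : X'.Opens} (hU : IsAffineOpen U) (m : Γ((Scheme.Modules.pullback i).obj M, i ⁻¹ᵁ U)) :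
    ∃ m' : Γ(M, U), pullSec i m' = m := by
  have hUY : i ⁻¹ᵁ U = i ⁻¹ᵁ U ⊓ a ⁻¹ᵁ ⊤ := by simp
  have hbc := isBC_affine hc M hM (US := ⊤) (UT := ⊤) le_top (UX := U) le_top
    (UY := i ⁻¹ᵁ U) hUY le_rfl le_top (isAffineOpen_top _) (isAffineOpen_top _) hU
  let i1 := modOver a' M (US := ⊤) (UX := U) le_top
  let i2 := algOver (Spec.map (CommRingCat.ofHom t)) (US := ⊤) (UT := ⊤) le_top
  let i3 := modOver a ((Scheme.Modules.pullback i).obj M) (US := ⊤) (UX := i ⁻¹ᵁ U) le_top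
  have hs : Function.Surjective (algebraMap Γ(Spec (CommRingCat.of R'), ⊤)
      Γ(Spec (CommRingCat.of R), ⊤)) := by
    change Function.Surjective ((Spec.map (CommRingCat.ofHom t)).appLE ⊤ ⊤ _)
    rw [LiftFam.appLE_specMap]
    exact ((ConcreteCategory.bijective_of_isIso (Scheme.ΓSpecIso (CommRingCat.of R)).inv).2.comp
      ht).comp (ConcreteCategory.bijective_of_isIso (Scheme.ΓSpecIso (CommRingCat.of R')).hom).2
  obtain ⟨z, hz⟩ := hbc.2 m
  obtain ⟨m', rfl⟩ := TensorProduct.mk_surjective _ Γ(M, U) _ hs z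
  refine ⟨m', ?_⟩
  rw [TensorProduct.mk_apply, bc_tmul, one_smul] at hz
  rw [← LiftFam.sec_eq_pullSec]
  exact hz

/-- generators are detected on the thickening -/
theorem isGen_of_pullSec (i : X ⟶ X') [Surjective i] {M : X'.Modules} (hM : PicF.IsInvertible M)
    {U : X'.Opens} {e : Γ(M, U)} (he : IsGen (pullSec i e)) : IsGen e := by
  rw [isInvertible_iff] at hM
  choose V ε hxV hε using fun x : X' => hM x
  refine IsGen.of_cover (fun x => U ⊓ V x) (fun x => inf_le_left) ?_ fun x => ?_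
  · intro x hx
    exact Opens.mem_iSup.2 ⟨x, hx, hxV x⟩
  · obtain ⟨u, hu⟩ := ((hε x).res (inf_le_right : U ⊓ V x ≤ V x)).exists_eq (res M inf_le_left e)
    have h1 := congrArg (pullSec i) hu
    rw [pullSec_smul, ← res_pullSec, ← res_pullSec] at h1
    have h2 : IsUnit (i.app (U ⊓ V x) u) := by
      refine (((hε x).pullSec i).res ?_).isUnit_of_smul ?_
      · exact (inf_le_right : i ⁻¹ᵁ U ⊓ i ⁻¹ᵁ V x ≤ i ⁻¹ᵁ V x)
      · erw [← h1]
        exact he.res _
    have h3 : X'.basicOpen u = U ⊓ V x := by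
      apply eq_of_preimage_eq (i := i)
      rw [Scheme.preimage_basicOpen]
      exact Scheme.basicOpen_of_isUnit _ h2
    have h4 : IsUnit u := isUnit_of_basicOpen_eq u h3
    rw [hu]
    exact ((hε x).res _).unit_smul h4

end one

section tower

variable {ι : Type*}

/-- A trivialization over affine opens, with the generators. -/
structure St (ι : Type*) {X : Scheme.{u}} (L : X.Modules) where
  W : ι → X.Opens
  e : ∀ j, Γ(L, W j)
  aff : ∀ j, IsAffineOpen (W j)
  gen : ∀ j, IsGen (e j)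
  cov : ∀ x : X, ∃ j, x ∈ W j

namespace St

variable {X : Scheme.{u}} {L : X.Modules} (s : St ι L)

/-- the transition functions -/
noncomputable def g : ∀ i j, Γ(X, s.W i ⊓ s.W j) := (exists_trans s.W s.e s.gen).choose

lemma hg (i j : ι) : res L inf_le_left (s.e i) = s.g i j • res L inf_le_right (s.e j) :=
  (exists_trans s.W s.e s.gen).choose_spec i j

lemma trivs : Trivs L s.W s.g := ⟨s.cov, s.e, s.gen, s.hg⟩

end St

/-- Compatibility of trivializations along a morphism. -/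
def Rel {X X' : Scheme.{u}} (i : X ⟶ X') {L : X.Modules} {L' : X'.Modules}
    (φ : (Scheme.Modules.pullback i).obj L' ≅ L) (s : St ι L) (s' : St ι L') : Prop :=
  ∃ hW : ∀ j, i ⁻¹ᵁ s'.W j = s.W j,
    ∀ j, φ.hom.app (i ⁻¹ᵁ s'.W j) (pullSec i (s'.e j)) = res L (hW j).le (s.e j)

lemma Rel.appLE_g {X X' : Scheme.{u}} {i : X ⟶ X'} {L : X.Modules} {L' : X'.Modules}
    {φ : (Scheme.Modules.pullback i).obj L' ≅ L} {s : St ι L} {s' : St ι L'} (h : Rel i φ s s')
    (hW : ∀ j, i ⁻¹ᵁ s'.W j = s.W j) (j l : ι) :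
    i.appLE (s'.W j ⊓ s'.W l) (s.W j ⊓ s.W l)
        (inf_le_inf (hW j).ge (hW l).ge) (s'.g j l) = s.g j l := by
  obtain ⟨_, he⟩ := h
  have hgs := s.hg j l
  have hgen := s.gen
  generalize s.g = g at hgs ⊢
  obtain ⟨W, e, aff, gen, cov⟩ := s
  dsimp only at hW he hgs hgen g ⊢
  obtain rfl : W = fun j => i ⁻¹ᵁ s'.W j := funext fun j => (hW j).symm
  simp only [res_refl] at he
  have h1 := congrArg (φ.hom.app _) (congrArg (pullSec i) (s'.hg j l))
  rw [pullSec_smul, ← res_pullSec, ← res_pullSec, Scheme.Modules.Hom.app_smul, app_res, app_res] at h1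
  rw [he, he] at h1
  have h3 : i.appLE (s'.W j ⊓ s'.W l) (i ⁻¹ᵁ s'.W j ⊓ i ⁻¹ᵁ s'.W l)
    (inf_le_inf (hW j).ge (hW l).ge) = i.app (s'.W j ⊓ s'.W l) := Scheme.Hom.appLE_eq_app _
  rw [h3]
  refine ((hgen l).res (inf_le_right : i ⁻¹ᵁ s'.W j ⊓ i ⁻¹ᵁ s'.W l ≤ i ⁻¹ᵁ s'.W l)).ext ?_
  rw [← hgs]
  exact h1.symm

theorem exists_rel {R R' : Type u} [CommRing R] [CommRing R'] {t : R' →+* R}
    (ht : Function.Surjective t) (hnil : ∀ x, t x = 0 → IsNilpotent x) {X X' : Scheme.{u}}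
    {a : X ⟶ Spec (CommRingCat.of R)} {a' : X' ⟶ Spec (CommRingCat.of R')} {i : X ⟶ X'}
    (hc : IsPullback i a a' (Spec.map (CommRingCat.ofHom t)))
    {L : X.Modules} {L' : X'.Modules} (hL' : PicF.IsInvertible L')
    (φ : (Scheme.Modules.pullback i).obj L' ≅ L) (s : St ι L) : ∃ s' : St ι L', Rel i φ s s' := by
  have h1 : IsClosedImmersion i := ThickSq.isClosedImmersion hc ht
  have h2 : Surjective i := ThickSq.surjective hc ht hnil
  choose W' hW' using fun j => exists_preimage_eq i (s.W j)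
  have haff : ∀ j, IsAffineOpen (W' j) := fun j =>
    isAffineOpen_of_preimage (i := i) (by rw [hW']; exact s.aff j)
  have hq : Coh.IsQCoh L' := Sga4B.PicAffine.isQuasicoherent_of_isInvertible _ hL'
  choose e' he' using fun j => exists_pullSec_eq ht hc hq (haff j)
    (φ.inv.app (i ⁻¹ᵁ W' j) (res L (hW' j).le (s.e j)))
  have hgen : ∀ j, IsGen (e' j) := fun j => by
    refine isGen_of_pullSec i hL' ?_
    rw [he']
    exact ((s.gen j).res _).app φ.inv
  refine ⟨⟨W', e', haff, hgen, fun x' => ?_⟩, hW', fun j => ?_⟩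
  · obtain ⟨x, rfl⟩ := h2.surj x'
    obtain ⟨j, hj⟩ := s.cov x
    rw [← hW'] at hj
    exact ⟨j, hj⟩
  · dsimp only
    have h3 : ∀ z : Γ(L, i ⁻¹ᵁ W' j), φ.hom.app (i ⁻¹ᵁ W' j) (φ.inv.app (i ⁻¹ᵁ W' j) z) = z := by
      intro z
      rw [← ConcreteCategory.comp_apply, ← Scheme.Modules.Hom.comp_app, Iso.inv_hom_id]
      rfl
    rw [he', h3]

end tower

end Groth.Agent.Picfga.TrivTower

namespace Groth.Agent.Picfga.Level

open Groth.Agent.Fdesc.LocGen Groth.Agent.Flat2H.FamExt Groth.Agent.Flat2H.FamDict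
open Groth.Agent.Picfga.TrivTower

variable {ι : Type*}

/-- **(B4)** A trivialization over affine opens extends along a tower of thickenings. -/
theorem exists_tower (R : ℕ → Type u) [∀ n, CommRing (R n)]
    (t : ∀ n, R (n + 1) →+* R n) (ht : ∀ n, Function.Surjective (t n))
    (hnil : ∀ n (x : R (n + 1)), t n x = 0 → IsNilpotent x)
    (X : ℕ → Scheme.{u}) (a : ∀ n, X n ⟶ Spec (CommRingCat.of (R n))) (i : ∀ n, X n ⟶ X (n + 1))
    (hcart : ∀ n, IsPullback (i n) (a n) (a (n + 1)) (Spec.map (CommRingCat.ofHom (t n))))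
    [∀ n, IsProper (a n)]
    (L : ∀ n, (X n).Modules) (hL : ∀ n, PicF.IsInvertible (L n))
    (φ : ∀ n, (Scheme.Modules.pullback (i n)).obj (L (n + 1)) ≅ L n)
    (W₀ : ι → (X 0).Opens) (hW₀ : ∀ j, IsAffineOpen (W₀ j)) (g₀ : ∀ i j, Γ(X 0, W₀ i ⊓ W₀ j))
    (hT : Trivs (L 0) W₀ g₀) :
    ∃ (W : ∀ n, ι → (X n).Opens) (g : ∀ n i j, Γ(X n, W n i ⊓ W n j))
      (h0 : ∀ j, W 0 j = W₀ j) (hW : ∀ n j, i n ⁻¹ᵁ W (n + 1) j = W n j),
      (∀ n j, IsAffineOpen (W n j)) ∧ (∀ n, Trivs (L n) (W n) (g n)) ∧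
      (∀ j l, g 0 j l = ores (inf_le_inf (h0 j).le (h0 l).le) (g₀ j l)) ∧
      ∀ n j l, (i n).appLE (W (n + 1) j ⊓ W (n + 1) l) (W n j ⊓ W n l)
        (inf_le_inf (hW n j).ge (hW n l).ge) (g (n + 1) j l) = g n j l := by
  obtain ⟨h0, e, he, hg⟩ := hT
  let s₀ : St ι (L 0) := ⟨W₀, e, hW₀, he, h0⟩
  obtain ⟨s, hs0, hs⟩ := exists_chain (S := fun n => St ι (L n))
    (fun n => Rel (i n) (φ n)) (fun n s => exists_rel (ht n) (hnil n) (hcart n) (hL (n + 1)) (φ n) s) s₀
  have hW : ∀ n j, i n ⁻¹ᵁ (s (n + 1)).W j = (s n).W j := fun n => (hs n).1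
  have key : ∀ s' : St ι (L 0), s' = s₀ → ∃ h : ∀ j, s'.W j = W₀ j,
      ∀ j l, s'.g j l = ores (inf_le_inf (h j).le (h l).le) (g₀ j l) := by
    rintro s' rfl
    refine ⟨fun j => rfl, fun j l => ?_⟩
    refine ((he l).res (inf_le_right : W₀ j ⊓ W₀ l ≤ W₀ l)).ext ?_
    have h1 := s₀.hg j l
    change res (L 0) _ (e j) = _ • res (L 0) _ (e l) at h1
    rw [← h1, hg j l]
    congr 1
    exact (ores_refl _).symm
  obtain ⟨h00, h01⟩ := key (s 0) hs0
  exact ⟨fun n => (s n).W, fun n => (s n).g, h00, hW, fun n => (s n).aff, fun n => (s n).trivs, h01,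
    fun n j l => (hs n).appLE_g (hW n) j l⟩

end Groth.Agent.Picfga.Level
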