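import Groth.Agent.S0013
import Groth.Agent.CohqA.CechSheaf
import Groth.Agent.Picfga.LineCocycle
import Groth.Agent.Flat2H.FamDict

/-!
# Twisted Čech cochains

For opens `W i` and functions `γ i j` on `W i ⊓ W j`, `dT W γ p` is the Čech differential on tuples of functions
twisted by `γ`.  If `M` has generators `e i` over `W i` with `e_i = γ_ij e_j`, then `c ↦ c_σ • e_{σ 0}` identifies
these cochains with the Čech cochains of `M` (`tw`, `dC_tw`, `tw_bijective`).
* `cechExact_of_subsingleton`: for `X` with a cover with affine intersections, `M` quasi-coherent: `H^{p+1}(X, M) = 0`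
  implies that the Čech complex is exact in degree `p+1`, elementwise.
* `exact_dT`: the same for the twisted complex.
* `dT_dT`, `dT_mul`.
-/

set_option autoImplicit false
universe u

open CategoryTheory CategoryTheory.Limits AlgebraicGeometry TopologicalSpace Opposite
open Groth.Agent.Fdesc.LocGen Groth.Agent.Flat2H.FamExt Groth.Agent.Flat2H.FamDict
open Groth.Agent.CohqA.CechBasic Groth.Agent.CohqA.CechSheaf

namespace Groth.Agent.Picfga.TwCech

attribute [local instance] HasDerivedCategory.standard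

section Vanishing

/-- Vanishing of `H^{p+1}(X, M)` gives exactness of the Čech complex of an affine covering. -/
theorem cechExact_of_subsingleton {X : Scheme.{u}} {ι : Type u} (U : ι → X.Opens)
    (hcov : ⨆ i, U i = ⊤)
    (hU : ∀ (p : ℕ) (a : Fin (p + 1) → ι), IsAffineOpen (iInf fun k => U (a k)))
    (M : X.Modules) [Coh.IsQCoh M] (p : ℕ) (h : Subsingleton (Coh.HHon X M ⊤ (p + 1))) :
    CechExact (X := X.toTopCat) U M.presheaf p := by
  have key : ∀ V : X.Opens, IsAffineOpen V → ∀ q : ℕ,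
      Subsingleton (CohTop.HU (X := X.toTopCat) (Coh.toAb M) (q + 1) V) := by
    intro V hV q
    obtain ⟨e⟩ := Groth.Agent.S0463.result (X := X.toTopCat) (Coh.toAb M) V (q + 1)
    have hV' : IsAffine V := hV
    have := Groth.Agent.S0007.result (V : Scheme.{u}) (M.restrict V.ι) (q + 1) (Nat.succ_pos q)
    exact Equiv.subsingleton (β := Coh.HHon X M V (q + 1)) e.toEquiv
  obtain ⟨e⟩ := Groth.Agent.S0464.result (X := X.toTopCat) (Coh.toAb M) U (by
    intro p a q
    exact key _ (hU p a) q) (p + 1)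
  rw [hcov] at e
  obtain ⟨e'⟩ := Groth.Agent.S0463.result (X := X.toTopCat) (Coh.toAb M) ⊤ (p + 1)
  have h1 : Subsingleton (CohTop.HU (X := X.toTopCat) (Coh.toAb M) (p + 1) ⊤) :=
    Equiv.subsingleton (β := Coh.HHon X M ⊤ (p + 1)) e'.toEquiv
  have h2 : Subsingleton (CohTop.cechH (X := X.toTopCat) (Coh.toAb M).obj U (p + 1)) :=
    Equiv.subsingleton e.toEquiv
  have h3 : IsZero (CohTop.cechH (X := X.toTopCat) (Coh.toAb M).obj U (p + 1)) :=
    @AddCommGrpCat.isZero_of_subsingleton _ h2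
  exact (cechExact_iff (X := X.toTopCat) U M.presheaf p).mpr h3

end Vanishing

section Twisted

variable {X : Scheme.{u}} {ι : Type u} (W : ι → X.Opens)

/-- Tuples of functions. -/
abbrev Fun (p : ℕ) : Type u := ∀ σ : Fin (p + 1) → ι, Γ(X, ⨅ a, W (σ a))

lemma le_zero {p : ℕ} (σ : Fin (p + 1) → ι) : ⨅ a, W (σ a) ≤ W (σ 0) := iInf_le _ 0

lemma le_f {p : ℕ} (σ : Fin (p + 2) → ι) (j : Fin (p + 2)) :
    ⨅ a, W (σ a) ≤ ⨅ a, W ((σ ∘ j.succAbove) a) :=
  le_iInf fun a => iInf_le (fun a => W (σ a)) (j.succAbove a)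

lemma le_tr {p : ℕ} (σ : Fin (p + 2) → ι) (j : Fin (p + 2)) :
    ⨅ a, W (σ a) ≤ W ((σ ∘ j.succAbove) 0) ⊓ W (σ 0) :=
  le_inf ((le_f W σ j).trans (iInf_le _ 0)) (le_zero W σ)

/-- The Čech differential twisted by `γ`. -/
noncomputable def dT (γ : ∀ i j, Γ(X, W i ⊓ W j)) (p : ℕ) : Fun W p →+ Fun W (p + 1) where
  toFun c σ := ∑ j : Fin (p + 2), (-1 : ℤ) ^ (j : ℕ) •
    (ores (le_tr W σ j) (γ ((σ ∘ j.succAbove) 0) (σ 0)) *
      ores (le_f W σ j) (c (σ ∘ j.succAbove)))
  map_zero' := by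
    funext σ
    simp
  map_add' c c' := by
    funext σ
    simp [Finset.sum_add_distrib, mul_add]

lemma dT_apply (γ : ∀ i j, Γ(X, W i ⊓ W j)) (p : ℕ) (c : Fun W p) (σ : Fin (p + 2) → ι) :
    dT W γ p c σ = ∑ j : Fin (p + 2), (-1 : ℤ) ^ (j : ℕ) •
      (ores (le_tr W σ j) (γ ((σ ∘ j.succAbove) 0) (σ 0)) *
        ores (le_f W σ j) (c (σ ∘ j.succAbove))) := rfl

/-- Multiplication of cochains by a family. -/
noncomputable def mulF (s : ∀ j, Γ(X, W j)) (p : ℕ) : Fun W p →+ Fun W p where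
  toFun c σ := ores (le_zero W σ) (s (σ 0)) * c σ
  map_zero' := by funext σ; simp
  map_add' c c' := by funext σ; simp [mul_add]

lemma mulF_apply (s : ∀ j, Γ(X, W j)) (p : ℕ) (c : Fun W p) (σ : Fin (p + 1) → ι) :
    mulF W s p c σ = ores (le_zero W σ) (s (σ 0)) * c σ := rfl

/-- Multiplication by a section intertwines the twisted differentials. -/
lemma dT_mulF (γ δ : ∀ i j, Γ(X, W i ⊓ W j)) (s : ∀ j, Γ(X, W j)) (hs : IsFam W δ s) (p : ℕ)
    (c : Fun W p) :
    dT W (fun i j => γ i j * δ i j) p (mulF W s p c) = mulF W s (p + 1) (dT W γ p c) := by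
  funext σ
  rw [mulF_apply, dT_apply, dT_apply, Finset.mul_sum]
  refine Finset.sum_congr rfl fun j _ => ?_
  rw [mul_smul_comm]
  congr 1
  have h1 := congrArg (ores (le_tr W σ j)) (hs ((σ ∘ j.succAbove) 0) (σ 0))
  simp only [map_mul, ores_ores] at h1
  rw [mulF_apply, map_mul, map_mul, ores_ores, ← h1]
  ring

section Module

variable {M : X.Modules} (e : ∀ i, Γ(M, W i))

/-- The comparison with Čech cochains of a module with generators. -/
noncomputable def tw (p : ℕ) : Fun W p →+ Cochain (X := X.toTopCat) W M.presheaf p where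
  toFun c σ := (c σ • Groth.Agent.Fdesc.LocGen.res M (le_zero W σ) (e (σ 0)) :
    Γ(M, ⨅ a, W (σ a)))
  map_zero' := by
    funext σ
    exact zero_smul Γ(X, ⨅ a, W (σ a)) _
  map_add' c c' := by
    funext σ
    exact add_smul (c σ) (c' σ) _

lemma tw_apply (p : ℕ) (c : Fun W p) (σ : Fin (p + 1) → ι) :
    tw W e p c σ = (c σ • Groth.Agent.Fdesc.LocGen.res M (le_zero W σ) (e (σ 0)) :
      Γ(M, ⨅ a, W (σ a))) := rfl

variable {W e}

lemma tw_bijective (he : ∀ i, IsGen (e i)) (p : ℕ) : Function.Bijective (tw W e p) := by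
  constructor
  · intro c c' h
    funext σ
    exact (he (σ 0) _ (le_zero W σ)).1 (congrFun h σ)
  · intro x
    choose c hc using fun σ => (he (σ 0) _ (le_zero W σ)).2 (x σ)
    exact ⟨c, funext hc⟩

lemma dC_tw {γ : ∀ i j, Γ(X, W i ⊓ W j)}
    (hγ : ∀ i j, Groth.Agent.Fdesc.LocGen.res M inf_le_left (e i) =
      γ i j • Groth.Agent.Fdesc.LocGen.res M inf_le_right (e j)) (p : ℕ) (c : Fun W p) :
    dC (X := X.toTopCat) W M.presheaf p (tw W e p c) = tw W e (p + 1) (dT W γ p c) := by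
  funext σ
  rw [dC_apply, tw_apply, dT_apply, Finset.sum_smul]
  refine Finset.sum_congr rfl fun j _ => ?_
  rw [smul_assoc]
  congr 1
  rw [tw_apply]
  change Groth.Agent.Fdesc.LocGen.res M (le_f W σ j) _ = _
  rw [Groth.Agent.Fdesc.LocGen.res_smul, Groth.Agent.Fdesc.LocGen.res_res, mul_comm, mul_smul]
  congr 1
  have h1 := congrArg (Groth.Agent.Fdesc.LocGen.res M (le_tr W σ j))
    (hγ ((σ ∘ j.succAbove) 0) (σ 0))
  rw [Groth.Agent.Fdesc.LocGen.res_smul, Groth.Agent.Fdesc.LocGen.res_res,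
    Groth.Agent.Fdesc.LocGen.res_res] at h1
  exact h1

end Module

/-- The twisted differential of a cocycle squares to zero. -/
lemma dT_dT {γ : ∀ i j, Γ(X, W i ⊓ W j)} (h₁ : ∀ i, γ i i = 1)
    (h : ∀ i j k (T : X.Opens) (hi : T ≤ W i) (hj : T ≤ W j) (hk : T ≤ W k),
      ores (le_inf hi hk) (γ i k) = ores (le_inf hi hj) (γ i j) * ores (le_inf hj hk) (γ j k))
    (p : ℕ) (c : Fun W p) : dT W γ (p + 1) (dT W γ p c) = 0 := by
  obtain ⟨M, e, he, hγ⟩ := LineCocycle.exists_of_cocycle W γ h₁ h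
  apply (tw_bijective he (p + 2)).1
  rw [← dC_tw hγ, ← dC_tw hγ, dC_dC, map_zero]

/-- Exactness of the twisted complex from vanishing of cohomology. -/
theorem exact_dT {γ : ∀ i j, Γ(X, W i ⊓ W j)} {M : X.Modules} [Coh.IsQCoh M]
    (hcov : ⨆ i, W i = ⊤)
    (hW : ∀ (p : ℕ) (a : Fin (p + 1) → ι), IsAffineOpen (iInf fun k => W (a k)))
    (hT : Trivs M W γ) (p : ℕ) (h : Subsingleton (Coh.HHon X M ⊤ (p + 1))) (c : Fun W (p + 1))
    (hc : dT W γ (p + 1) c = 0) : ∃ b : Fun W p, dT W γ p b = c := by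
  obtain ⟨-, e, he, hγ⟩ := hT
  have hex := cechExact_of_subsingleton W hcov hW M p h
  obtain ⟨t, ht⟩ := hex (tw W e (p + 1) c) (by rw [dC_tw hγ, hc, map_zero])
  obtain ⟨b, rfl⟩ := (tw_bijective he p).2 t
  refine ⟨b, (tw_bijective he (p + 1)).1 ?_⟩
  rw [← dC_tw hγ, ht]

end Twisted

end Groth.Agent.Picfga.TwCech
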